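import Groth.Agent.QCoh.FiniteType
import Groth.Agent.QCoh.Pullback
import Groth.Agent.AssSch.Stalk
import Groth.Agent.FDesc.Stalk
import Groth.Agent.PullStalk.Exact
import Groth.Prelude.Def_Coh
import Mathlib.AlgebraicGeometry.Morphisms.Flat
import Mathlib.AlgebraicGeometry.Morphisms.QuasiCompact

/-!
# Finite type of pullbacks, and descent of finite type along flat surjective quasi-compact maps
-/

universe u

open CategoryTheory AlgebraicGeometry TopologicalSpace Opposite

namespace Groth.Agent.ZClosLib.CohDescent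

open Groth.Agent.PullStalk.Sky
open Groth.Agent.PullStalk (Basic.unitStalkHom)

variable {X X' : Scheme.{u}}

/-- The span of the germs of a submodule of sections. -/
noncomputable def germSpan (M : X.Modules) {W : X.Opens} (s : Set Γ(M, W)) (x : X) (hx : x ∈ W) :
    Submodule (X.presheaf.stalk x) (M.presheaf.stalk x) :=
  Submodule.span (X.presheaf.stalk x) (germM M W x hx '' s)

/-- Sections generating all the stalks on an affine open generate. -/
theorem eq_top_of_germSpan (M : X.Modules) [M.IsQuasicoherent] {W : X.Opens} (hW : IsAffineOpen W)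
    (N : Submodule Γ(X, W) Γ(M, W))
    (h : ∀ x (hx : x ∈ W), germSpan M (N : Set Γ(M, W)) x hx = ⊤) : N = ⊤ := by
  refine eq_top_iff.mpr fun e _ => ?_
  have hC : (N.colon {e} : Ideal Γ(X, W)) = ⊤ := by
    by_contra hne
    obtain ⟨P, hP, hle⟩ := Ideal.exists_le_maximal _ hne
    let q : PrimeSpectrum Γ(X, W) := ⟨P, hP.isPrime⟩
    let x : X := hW.fromSpec q
    have hx : x ∈ W := by
      have : x ∈ Set.range hW.fromSpec := ⟨q, rfl⟩
      rwa [hW.range_fromSpec] at this
    have hp : AssSch.Stalk.primeOf hW x hx = P := by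
      have : hW.primeIdealOf ⟨x, hx⟩ = q :=
        hW.fromSpec.isOpenEmbedding.injective (hW.fromSpec_primeIdealOf ⟨x, hx⟩)
      exact congrArg PrimeSpectrum.asIdeal this
    let := (X.presheaf.germ W x hx).hom.toAlgebra
    have : IsLocalization.AtPrime (X.presheaf.stalk x) (AssSch.Stalk.primeOf hW x hx) :=
      hW.isLocalization_stalk ⟨x, hx⟩
    have key : ∀ t ∈ germSpan M (N : Set Γ(M, W)) x hx, ∃ g : Γ(X, W),
        g ∉ AssSch.Stalk.primeOf hW x hx ∧ ∃ n ∈ N,
          X.presheaf.germ W x hx g • t = germM M W x hx n := by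
      intro t ht
      induction ht using Submodule.span_induction with
      | mem t ht =>
        obtain ⟨n, hn, rfl⟩ := ht
        exact ⟨1, (Ideal.ne_top_iff_one _).mp (Ideal.IsPrime.ne_top inferInstance), n, hn,
          by rw [map_one, one_smul]⟩
      | zero =>
        exact ⟨1, (Ideal.ne_top_iff_one _).mp (Ideal.IsPrime.ne_top inferInstance), 0, N.zero_mem,
          by rw [smul_zero, AssSch.Stalk.germM_zero]⟩
      | add t t' _ _ iht iht' =>
        obtain ⟨g, hg, n, hn, e₁⟩ := iht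
        obtain ⟨g', hg', n', hn', e₂⟩ := iht'
        refine ⟨g * g', fun hm => (Ideal.IsPrime.mem_or_mem inferInstance hm).elim hg hg',
          g' • n + g • n', N.add_mem (N.smul_mem _ hn) (N.smul_mem _ hn'), ?_⟩
        rw [AssSch.Stalk.germM_add, germM_smul, germM_smul, ← e₁, ← e₂, map_mul, smul_add, smul_smul,
          smul_smul, mul_comm (X.presheaf.germ W x hx g') _]
      | smul r t _ iht =>
        obtain ⟨g, hg, n, hn, e₁⟩ := iht
        obtain ⟨⟨a, ⟨d, hd⟩⟩, hr⟩ := IsLocalization.surj (AssSch.Stalk.primeOf hW x hx).primeCompl r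
        refine ⟨d * g, fun hm => (Ideal.IsPrime.mem_or_mem inferInstance hm).elim hd hg,
          a • n, N.smul_mem _ hn, ?_⟩
        rw [germM_smul, ← e₁, map_mul, smul_smul, smul_smul]
        congr 1
        rw [show X.presheaf.germ W x hx a = r * X.presheaf.germ W x hx d from hr.symm]
        ring
    obtain ⟨g, hg, n, hn, e₁⟩ := key (germM M W x hx e) ((h x hx).symm ▸ trivial)
    have e₂ : germM M W x hx (g • e - n) = 0 := by
      refine (map_sub (M.presheaf.germ W x hx).hom _ _).trans (sub_eq_zero.mpr ?_)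
      exact (germM_smul M W x hx g e).trans e₁
    obtain ⟨g', hg', e₃⟩ := (AssSch.Stalk.germM_eq_zero_iff M hW x hx _).mp e₂
    refine (fun hm => (Ideal.IsPrime.mem_or_mem inferInstance hm).elim hg' hg :
      g' * g ∉ AssSch.Stalk.primeOf hW x hx) (hp ▸ hle ?_)
    rw [Submodule.mem_colon_singleton, mul_smul]
    rw [smul_sub, sub_eq_zero] at e₃
    exact e₃ ▸ N.smul_mem _ hn
  have h1 : (1 : Γ(X, W)) ∈ N.colon {e} := hC.symm ▸ Submodule.mem_top
  simpa using Submodule.mem_colon_singleton.mp h1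

/-- The germs of all sections generate the stalk. -/
theorem germSpan_univ (M : X.Modules) [M.IsQuasicoherent] {W : X.Opens} (hW : IsAffineOpen W)
    (x : X) (hx : x ∈ W) : germSpan M (Set.univ : Set Γ(M, W)) x hx = ⊤ := by
  refine eq_top_iff.mpr fun t _ => ?_
  obtain ⟨g, s, hg, e⟩ := AssSch.Stalk.exists_germ_smul_eq M hW x hx t
  obtain ⟨u, hu⟩ := (AssSch.Stalk.isUnit_germ_iff hW x hx g).mpr hg
  have : t = (↑u⁻¹ : X.presheaf.stalk x) • germM M W x hx s := by
    rw [← e, ← hu, smul_smul, Units.inv_mul, one_smul]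
  rw [this]
  exact Submodule.smul_mem _ _ (Submodule.subset_span ⟨s, trivial, rfl⟩)

/-- Germs of the span lie in the span of the germs. -/
lemma germSpan_span_le (M : X.Modules) {W : X.Opens} (s : Set Γ(M, W)) (x : X) (hx : x ∈ W) :
    germSpan M (Submodule.span Γ(X, W) s : Set Γ(M, W)) x hx ≤ germSpan M s x hx := by
  refine Submodule.span_le.mpr ?_
  rintro _ ⟨m, hm, rfl⟩
  induction hm using Submodule.span_induction with
  | mem m hm => exact Submodule.subset_span ⟨m, hm, rfl⟩
  | zero => exact (AssSch.Stalk.germM_zero M x hx).symm ▸ zero_mem (germSpan M s x hx)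
  | add a b _ _ iha ihb => exact (AssSch.Stalk.germM_add M x hx a b).symm ▸ add_mem iha ihb
  | smul r a _ iha => exact (germM_smul M W x hx r a).symm ▸ Submodule.smul_mem _ _ iha

variable (f : X' ⟶ X) (M : X.Modules)

/-- The pullback of a section, restricted to `W' ≤ f ⁻¹ W`. -/
noncomputable def pullSec {W : X.Opens} {W' : X'.Opens} (h : W' ≤ f ⁻¹ᵁ W) (m : Γ(M, W)) :
    Γ((Scheme.Modules.pullback f).obj M, W') :=
  QCoh.res _ h (((Scheme.Modules.pullbackPushforwardAdjunction f).unit.app M).app W m)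

lemma germM_pullSec {W : X.Opens} {W' : X'.Opens} (h : W' ≤ f ⁻¹ᵁ W) (m : Γ(M, W)) (x : X')
    (hx : x ∈ W') :
    germM ((Scheme.Modules.pullback f).obj M) W' x hx (pullSec f M h m) =
      PullStalk.Basic.unitStalkHom f M x (germM M W (f x) (h hx) m) := by
  exact (AssSch.Stalk.germM_res ((Scheme.Modules.pullback f).obj M) h x hx _).trans
    (PullStalk.Basic.unitStalkHom_germ f M x W (h hx) m).symm

/-- The pullbacks of generators of the stalk generate the stalk of the pullback. -/
lemma germSpan_pullSec {W : X.Opens} {W' : X'.Opens} (h : W' ≤ f ⁻¹ᵁ W) (s : Set Γ(M, W))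
    (x : X') (hx : x ∈ W') (hs : germSpan M s (f x) (h hx) = ⊤) :
    germSpan ((Scheme.Modules.pullback f).obj M) (pullSec f M h '' s) x hx = ⊤ := by
  let := (f.stalkMap x).hom.toAlgebra
  refine eq_top_iff.mpr ?_
  rintro t -
  obtain ⟨e, he⟩ := FDesc.Stalk.exists_stalk_equiv f M x
  obtain ⟨z, rfl⟩ := e.surjective t
  induction z using TensorProduct.induction_on with
  | zero => rw [map_zero]; exact zero_mem _
  | add a b ha hb => rw [map_add]; exact add_mem ha hb
  | tmul r m =>
    rw [he]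
    refine Submodule.smul_mem _ _ ?_
    have hm : m ∈ germSpan M s (f x) (h hx) := hs.symm ▸ trivial
    induction hm using Submodule.span_induction with
    | mem m hm =>
      obtain ⟨a, ha, rfl⟩ := hm
      exact Submodule.subset_span ⟨_, ⟨a, ha, rfl⟩, germM_pullSec f M h a x hx⟩
    | zero => rw [map_zero]; exact zero_mem _
    | add a b _ _ iha ihb => rw [map_add]; exact add_mem iha ihb
    | smul r a _ iha =>
      rw [PullStalk.Basic.unitStalkHom_smul]
      exact Submodule.smul_mem _ _ iha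

/-- The pullbacks of the sections over an affine open span those of the pullback. -/
theorem span_pullSec [M.IsQuasicoherent] {W : X.Opens} (hW : IsAffineOpen W) {W' : X'.Opens}
    (hW' : IsAffineOpen W') (h : W' ≤ f ⁻¹ᵁ W) (s : Set Γ(M, W))
    (hs : Submodule.span Γ(X, W) s = ⊤) :
    Submodule.span Γ(X', W') (pullSec f M h '' s) = ⊤ := by
  refine eq_top_of_germSpan _ hW' _ fun x hx => top_le_iff.mp ?_
  rw [← germSpan_pullSec f M h s x hx (top_le_iff.mp ?_)]
  · exact Submodule.span_mono (Set.image_mono Submodule.subset_span)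
  · refine le_of_eq_of_le ?_ (germSpan_span_le M s (f x) (h hx))
    rw [hs, Submodule.top_coe]
    exact (germSpan_univ M hW (f x) (h hx)).symm

/-- The pullback of a coherent module is coherent. -/
theorem isCoh_pullback (hM : Coh.IsCoh M) : Coh.IsCoh ((Scheme.Modules.pullback f).obj M) := by
  have : M.IsQuasicoherent := hM.1
  have : SheafOfModules.IsFiniteType.{u} M := hM.2
  refine ⟨QCoh.isQuasicoherent_pullback f M, QCoh.isFiniteType_of_forall_exists _ fun x => ?_⟩
  obtain ⟨_, ⟨W, hW, rfl⟩, hfx, -⟩ :=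
    X.isBasis_affineOpens.exists_subset_of_mem_open (Set.mem_univ (f x)) isOpen_univ
  have hW : IsAffineOpen W := hW
  obtain ⟨_, ⟨W', hW', rfl⟩, hxW', hle⟩ :=
    X'.isBasis_affineOpens.exists_subset_of_mem_open (show x ∈ f ⁻¹ᵁ W from hfx) (f ⁻¹ᵁ W).isOpen
  have hW' : IsAffineOpen W' := hW'
  refine ⟨W', hW', hxW', ?_⟩
  obtain ⟨s, hs⟩ := (QCoh.finite_sections_of_isFiniteType M hW).1
  refine ⟨⟨(s.finite_toSet.image (pullSec f M hle)).toFinset, ?_⟩⟩
  rw [Set.Finite.coe_toFinset]
  exact span_pullSec f M hW hW' hle _ hs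

/-- Finite type descends along flat surjective quasi-compact morphisms. -/
theorem isCoh_of_isCoh_pullback [Flat f] [Surjective f] [QuasiCompact f] [M.IsQuasicoherent]
    (h : Coh.IsCoh ((Scheme.Modules.pullback f).obj M)) : Coh.IsCoh M := by
  classical
  refine ⟨inferInstance, QCoh.isFiniteType_of_forall_exists _ fun x => ?_⟩
  obtain ⟨_, ⟨W, hW, rfl⟩, hxW, -⟩ :=
    X.isBasis_affineOpens.exists_subset_of_mem_open (Set.mem_univ x) isOpen_univ
  have hW : IsAffineOpen W := hW
  refine ⟨W, hW, hxW, ?_⟩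
  have : ((Scheme.Modules.pullback f).obj M).IsQuasicoherent := h.1
  have : SheafOfModules.IsFiniteType.{u} ((Scheme.Modules.pullback f).obj M) := h.2
  have hcov : ∀ y : (f ⁻¹ᵁ W : X'.Opens), ∃ W' : X'.Opens, IsAffineOpen W' ∧ y.1 ∈ W' ∧ W' ≤ f ⁻¹ᵁ W :=
    fun y => by
      obtain ⟨_, ⟨W', hW', rfl⟩, hyW', hle⟩ :=
        X'.isBasis_affineOpens.exists_subset_of_mem_open y.2 (f ⁻¹ᵁ W).isOpen
      exact ⟨W', hW', hyW', hle⟩
  choose W' hW' hyW' hle using hcov
  obtain ⟨t, ht⟩ := (f.isCompact_preimage hW.isCompact).elim_finite_subcover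
    (fun y : (f ⁻¹ᵁ W : X'.Opens) => (W' y : Set X')) (fun y => (W' y).isOpen)
    (fun y hy => Set.mem_iUnion.mpr ⟨⟨y, hy⟩, hyW' ⟨y, hy⟩⟩)
  have hgen : ∀ y : (f ⁻¹ᵁ W : X'.Opens), ∃ s : Finset Γ(M, W),
      Submodule.span Γ(X', W' y) (pullSec f M (hle y) '' (s : Set Γ(M, W))) = ⊤ := fun y => by
    have hfin := QCoh.finite_sections_of_isFiniteType ((Scheme.Modules.pullback f).obj M) (hW' y)
    have htop := span_pullSec f M hW (hW' y) (hle y) Set.univ Submodule.span_univ
    obtain ⟨g, hg⟩ := hfin.1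
    have : ∀ e ∈ g, ∃ s : Finset Γ(M, W),
        e ∈ Submodule.span Γ(X', W' y) (pullSec f M (hle y) '' (s : Set Γ(M, W))) := fun e _ => by
      have he : e ∈ Submodule.span Γ(X', W' y) (pullSec f M (hle y) '' Set.univ) := htop.symm ▸ trivial
      obtain ⟨T, hT, heT⟩ := Submodule.mem_span_finite_of_mem_span he
      obtain ⟨s, -, hs⟩ := Finset.subset_set_image_iff.mp hT
      exact ⟨s, by rw [← Finset.coe_image, hs]; exact heT⟩
    choose s hs using this
    refine ⟨g.attach.biUnion fun e => s e.1 e.2, top_le_iff.mp ?_⟩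
    rw [← hg]
    refine Submodule.span_le.mpr fun e he => ?_
    exact Submodule.span_mono (Set.image_mono (Finset.coe_subset.mpr
      (Finset.subset_biUnion_of_mem (fun e : {x // x ∈ g} => s e.1 e.2)
        (Finset.mem_attach g ⟨e, he⟩)))) (hs e he)
  choose s hs using hgen
  refine ⟨⟨t.biUnion s, eq_top_of_germSpan M hW _ fun z hz => ?_⟩⟩
  obtain ⟨x', rfl⟩ := f.surjective z
  obtain ⟨y, hyt, hx'y⟩ := Set.mem_iUnion₂.mp (ht (show x' ∈ ((f ⁻¹ᵁ W : X'.Opens) : Set X') from hz))
  let := (f.stalkMap x').hom.toAlgebra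
  have := FDesc.Stalk.faithfullyFlat_stalkMap f x' (Flat.stalkMap f x')
  obtain ⟨e, he⟩ := FDesc.Stalk.exists_stalk_equiv f M x'
  let N := germSpan M ((Submodule.span Γ(X, W) (t.biUnion s : Set Γ(M, W))) : Set Γ(M, W)) (f x') hz
  rw [← Submodule.range_subtype (germSpan M _ _ _), LinearMap.range_eq_top]
  refine (Module.FaithfullyFlat.lTensor_surjective_iff_surjective
    (X.presheaf.stalk (f x')) (X'.presheaf.stalk x') N.subtype).mp fun z => ?_
  have hz' : e z ∈ germSpan ((Scheme.Modules.pullback f).obj M)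
      (pullSec f M (hle y) '' (s y : Set Γ(M, W))) x' hx'y := by
    have e0 : germSpan ((Scheme.Modules.pullback f).obj M)
        ((⊤ : Submodule Γ(X', W' y) Γ((Scheme.Modules.pullback f).obj M, W' y)) : Set Γ((Scheme.Modules.pullback f).obj M, W' y)) x' hx'y = ⊤ := by
      rw [Submodule.top_coe]; exact germSpan_univ _ (hW' y) x' hx'y
    rw [← hs y] at e0
    exact germSpan_span_le _ _ x' hx'y (e0.symm ▸ trivial)
  suffices ∀ u ∈ germSpan ((Scheme.Modules.pullback f).obj M)
      (pullSec f M (hle y) '' (s y : Set Γ(M, W))) x' hx'y,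
      ∃ w, LinearMap.lTensor (X'.presheaf.stalk x') N.subtype w = e.symm u by
    obtain ⟨w, hw⟩ := this _ hz'
    exact ⟨w, hw.trans (e.symm_apply_apply z)⟩
  intro u hu
  induction hu using Submodule.span_induction with
  | mem u hu =>
    obtain ⟨_, ⟨m, hm, rfl⟩, rfl⟩ := hu
    have hmN : germM M W (f x') hz m ∈ N := Submodule.subset_span ⟨m, Submodule.subset_span
      (Finset.mem_coe.mpr (Finset.mem_biUnion.mpr ⟨y, hyt, hm⟩)), rfl⟩
    refine ⟨1 ⊗ₜ ⟨_, hmN⟩, e.injective ?_⟩
    rw [LinearMap.lTensor_tmul, he, one_smul, e.apply_symm_apply]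
    exact (germM_pullSec f M (hle y) m x' hx'y).symm
  | zero => exact ⟨0, by simp⟩
  | add a b _ _ iha ihb =>
    obtain ⟨wa, hwa⟩ := iha
    obtain ⟨wb, hwb⟩ := ihb
    exact ⟨wa + wb, by rw [map_add, map_add, hwa, hwb]⟩
  | smul r a _ iha =>
    obtain ⟨w, hw⟩ := iha
    refine ⟨r • w, ?_⟩
    refine ((LinearMap.baseChange (X'.presheaf.stalk x') N.subtype).map_smul r w).trans ?_
    exact (congrArg (r • ·) hw).trans (e.symm.map_smul r a).symm

end Groth.Agent.ZClosLib.CohDescent
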