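import Groth.Agent.ZClosLib.H0Finite
import Groth.Prelude.Def_EGA4c

/-!
Coherence of the Z-closure on a Noetherian affine scheme and height one hulls.
-/

universe u

open CategoryTheory CategoryTheory.Limits AlgebraicGeometry TopologicalSpace Opposite

namespace Groth.Agent.ZClosLib.H0Spec

open HullModule StalkCrit

variable (A : Type u) [CommRing A]

noncomputable abbrev S : Scheme.{u} := Spec (CommRingCat.of A)

/-- `A ≅ Γ(Spec A, ⊤)`. -/
noncomputable def e : A ≃+* Γ(S A, ⊤) :=
  (Scheme.ΓSpecIso (CommRingCat.of A)).symm.commRingCatIsoToRingEquiv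

abbrev hTop : IsAffineOpen (⊤ : (S A).Opens) := isAffineOpen_top (S A)

lemma affinePt_eq (p : PrimeSpectrum Γ(S A, ⊤)) :
    affinePt (hTop A) p = PrimeSpectrum.comap (e A).toRingHom p := by
  show (hTop A).fromSpec.base p = _
  rw [IsAffineOpen.fromSpec_top, Scheme.isoSpec_Spec_inv]
  rfl

lemma mem_affinePt_iff (Z : Set (PrimeSpectrum A)) (p : PrimeSpectrum Γ(S A, ⊤)) :
    PrimeSpectrum.comap (e A).toRingHom p ∈ Z ↔ p ∈ affinePt (hTop A) ⁻¹' (Z : Set (S A)) :=
  (Eq.to_iff (congrArg (fun t : S A => t ∈ (Z : Set (S A))) (affinePt_eq A p))).symm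

lemma smul_top {R : CommRingCat.{u}} (F : (Spec R).Modules) (a : R) (x : Γ(F, ⊤)) :
    a • x = (Scheme.ΓSpecIso R).inv a • x := by
  rw [Scheme.Modules.smul_Spec_def]
  congr 1

variable (M : Type u) [AddCommGroup M] [Module A M]

lemma exists_secEquiv : ∃ g : M ≃+ Γ(EGA4.tildeOf A M, ⊤), ∀ (a : A) (m : M), g (a • m) = e A a • g m := by
  let f := tilde.toOpen (R := CommRingCat.of A) (ModuleCat.of (CommRingCat.of A) M) ⊤
  have hi : IsIso f := tilde.isIso_toOpen_top
  have hf : Function.Bijective f.hom := @ConcreteCategory.bijective_of_isIso _ _ _ _ _ _ _ _ f hi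
  refine ⟨AddEquiv.ofBijective f.hom.toAddMonoidHom hf, fun a m => ?_⟩
  exact (map_smul f.hom (show CommRingCat.of A from a) m).trans (smul_top (EGA4.tildeOf A M) _ (f.hom m))

theorem finite_of_semilinear {A B M N : Type*} [CommRing A] [CommRing B] [AddCommGroup M]
    [AddCommGroup N] [Module A M] [Module B N] [Module.Finite A M] (σ : A → B) (g : M →+ N)
    (hsurj : Function.Surjective g) (hg : ∀ a m, g (a • m) = σ a • g m) : Module.Finite B N := by
  classical
  obtain ⟨s, hs⟩ := Module.Finite.fg_top (R := A) (M := M)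
  refine ⟨⟨s.image g, eq_top_iff.2 fun y _ => ?_⟩⟩
  obtain ⟨m, rfl⟩ := hsurj y
  have hm : m ∈ Submodule.span A (s : Set M) := hs ▸ Submodule.mem_top
  induction hm using Submodule.span_induction with
  | mem x hx => exact Submodule.subset_span (Finset.mem_image_of_mem g hx)
  | zero => rw [map_zero]; exact zero_mem _
  | add x y _ _ hx hy => rw [map_add]; exact add_mem (hx trivial) (hy trivial)
  | smul a x _ hx => rw [hg]; exact Submodule.smul_mem _ _ (hx trivial)

variable [IsNoetherianRing A]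

theorem isCoh_tilde [Module.Finite A M] : Coh.IsCoh (EGA4.tildeOf A M) := by
  have hq : (EGA4.tildeOf A M).IsQuasicoherent := inferInstance
  refine ⟨hq, QCoh.isFiniteType_of_forall_exists _ fun x => ⟨⊤, hTop A, trivial, ?_⟩⟩
  obtain ⟨g, hg⟩ := exists_secEquiv A M
  exact finite_of_semilinear (e A) g.toAddMonoidHom g.surjective hg

theorem isCoh_H0 [Module.Finite A M] (hA : ∀ (q : Ideal A) [q.IsPrime], EGA4.HeightOneHullFinite (A ⧸ q))
    (Z : Set (PrimeSpectrum A)) (hZ : StableUnderSpecialization Z)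
    (hcodim : ∀ x : PrimeSpectrum A, x.asIdeal ∈ associatedPrimes A M → x ∉ Z →
      ∀ y ∈ Z, x.asIdeal ≤ y.asIdeal → (2 : ℕ∞) ≤ (y.asIdeal.map (Ideal.Quotient.mk x.asIdeal)).height) :
    Coh.IsCoh ((ZClos.H0 (X := Spec (CommRingCat.of A)) Z).obj (EGA4.tildeOf A M)) := by
  have : IsNoetherianRing Γ(S A, ⊤) := isNoetherianRing (hTop A)
  refine H0Finite.isCoh_H0 (X := S A) hZ _ (isCoh_tilde A M) fun x => ⟨⊤, hTop A, trivial, fun q hq hqZ => ?_⟩
  obtain ⟨g, hg⟩ := exists_secEquiv A M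
  have hx := mem_associatedPrimes_congr (e A) g hg hq
  let x₀ : PrimeSpectrum A := PrimeSpectrum.comap (e A).toRingHom q
  have hx₀ : x₀ ∉ Z := fun h => hqZ (show affinePt (hTop A) q ∈ Z by rw [affinePt_eq]; exact h)
  obtain ⟨g', hg'⟩ := quotient_congr (e A) q.asIdeal
  refine extends_congr (Z := Z) (e A) g' hg' (mem_affinePt_iff A Z) ?_
  exact extends_quotient x₀.asIdeal hx₀ (hA x₀.asIdeal) (hcodim x₀ hx hx₀)

theorem heightOneHullFinite
    (h : ∀ (M : Type u) [AddCommGroup M] [Module A M] [Module.Finite A M]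
      (Z : Set (PrimeSpectrum A)), StableUnderSpecialization Z →
      (∀ x : PrimeSpectrum A, x.asIdeal ∈ associatedPrimes A M → x ∉ Z →
        ∀ y ∈ Z, x.asIdeal ≤ y.asIdeal → (2 : ℕ∞) ≤ (y.asIdeal.map (Ideal.Quotient.mk x.asIdeal)).height) →
      Coh.IsCoh ((ZClos.H0 (X := Spec (CommRingCat.of A)) Z).obj (EGA4.tildeOf A M)))
    (q : Ideal A) [q.IsPrime] : EGA4.HeightOneHullFinite (A ⧸ q) := by
  let Z : Set (PrimeSpectrum A) :=
    {y | q ≤ y.asIdeal ∧ (2 : ℕ∞) ≤ (y.asIdeal.map (Ideal.Quotient.mk q)).height}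
  have hZ : StableUnderSpecialization Z := fun y y' hy hyZ => by
    have hle : y.asIdeal ≤ y'.asIdeal := (PrimeSpectrum.le_iff_specializes y y').2 hy
    exact ⟨hyZ.1.trans hle, hyZ.2.trans (Ideal.height_mono (Ideal.map_mono hle))⟩
  have hass : ∀ x : PrimeSpectrum A, x.asIdeal ∈ associatedPrimes A (A ⧸ q) → x.asIdeal = q := by
    intro x hx
    obtain ⟨-, m, hm⟩ := isAssociatedPrime_iff.1 hx
    have hm0 : m ≠ 0 := fun h0 => x.isPrime.ne_top ((Ideal.eq_top_iff_one _).2 (by
      rw [hm, h0, Submodule.mem_colon_singleton, Submodule.mem_bot, smul_zero]))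
    ext a
    rw [hm, Submodule.mem_colon_singleton, Submodule.mem_bot]
    refine ⟨fun h => by_contra fun ha => hm0 (quotient_smul_eq_zero q ha m h), fun ha => ?_⟩
    rw [Algebra.smul_def, Ideal.Quotient.algebraMap_eq, Ideal.Quotient.eq_zero_iff_mem.2 ha, zero_mul]
  have hqZ : (⟨q, inferInstance⟩ : PrimeSpectrum A) ∉ Z := fun hq => by
    have := hq.2
    rw [Ideal.map_quotient_self, Ideal.height_bot] at this
    exact absurd this (by decide)
  have hcoh := h (A ⧸ q) Z hZ fun x hx _ y hy _ => by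
    rw [hass x hx]; exact hy.2
  let F := EGA4.tildeOf A (A ⧸ q)
  let H := (ZClos.H0 (X := S A) Z).obj F
  have hF : Coh.IsCoh F := isCoh_tilde A (A ⧸ q)
  have : F.IsQuasicoherent := hF.1
  have : H.IsQuasicoherent := hcoh.1
  have : SheafOfModules.IsFiniteType.{u} H := hcoh.2
  have := QCoh.finite_sections_of_isFiniteType H (hTop A)
  letI : Module A Γ(H, ⊤) := Module.compHom _ (e A).toRingHom
  have smulA : ∀ (a : A) (x : Γ(H, ⊤)), a • x = e A a • x := fun _ _ => rfl
  have hfin : Module.Finite A Γ(H, ⊤) :=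
    finite_of_semilinear (e A).symm (AddMonoidHom.id Γ(H, ⊤)) Function.surjective_id fun b x => by
      rw [smulA, RingEquiv.apply_symm_apply]
      rfl
  obtain ⟨g, hg⟩ := exists_secEquiv A (A ⧸ q)
  let ρ : Γ(F, ⊤) →ₗ[Γ(S A, ⊤)] Γ(H, ⊤) := CohConsequences.appLin (ZClos.rhoApp (X := S A) Z F) ⊤
  let ρA : (A ⧸ q) →ₗ[A] Γ(H, ⊤) :=
    { toFun := fun m => ρ (g m)
      map_add' := fun a b => by rw [map_add, map_add]
      map_smul' := fun a m => by rw [hg, map_smul, RingHom.id_apply, smulA] }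
  have hZiff := mem_affinePt_iff A Z
  have hclosed : ∀ J : Ideal A, Supp Z J → HomIdeal.IdealClosed J Γ(H, ⊤) := by
    intro J hJ
    have hJ' := (supp_comap_iff (e A) hZiff (J.comap (e A).symm.toRingHom)).1 (by
      rw [Ideal.comap_comap]; simpa using hJ)
    have hc := H0Finite.idealClosed_of_supp hZ H (isZClosed_H0 (X := S A) Z F) (hTop A) _ hJ'
    refine ⟨fun m hm => hc.1 m fun b hb => ?_, fun φ => ?_⟩
    · have := hm ((e A).symm b) hb
      rwa [smulA, RingEquiv.apply_symm_apply] at this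
    · let φ' : (J.comap (e A).symm.toRingHom : Ideal Γ(S A, ⊤)) →ₗ[Γ(S A, ⊤)] Γ(H, ⊤) :=
        { toFun := fun b => φ ⟨(e A).symm b, b.2⟩
          map_add' := fun a b => by
            rw [← map_add φ]
            exact congrArg φ (Subtype.ext (map_add (e A).symm _ _))
          map_smul' := fun r b => by
            rw [RingHom.id_apply, ← (e A).apply_symm_apply r, ← smulA, ← map_smul φ]
            refine congrArg φ (Subtype.ext ?_)
            show (e A).symm (e A ((e A).symm r) * b) = (e A).symm r * (e A).symm b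
            rw [map_mul, RingEquiv.symm_apply_apply] }
      obtain ⟨n, hn⟩ := hc.2 φ'
      refine ⟨n, fun a => ?_⟩
      have := hn ⟨e A a, show (e A).symm (e A a) ∈ J by rw [RingEquiv.symm_apply_apply]; exact a.2⟩
      rw [smulA, ← this]
      exact congrArg φ (Subtype.ext ((e A).symm_apply_apply a).symm)
  refine heightOneHullFinite_of_closed (Z := Z) q (fun y hy => hy) hqZ ρA
    ((injective_iff_map_eq_zero _).2 fun m hm => ?_) (fun J hJ => (hclosed J hJ).1)
    (fun J hJ => (hclosed J hJ).2)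
  have hρ : ρ (g m) = 0 := hm
  have hsupp := H0Finite.supp_of_germ_eq_zero (X := S A) (Z := Z) F hF (hTop A) (g m) fun y hy hyZ =>
    (rho_stalk_bijective (X := S A) Z F hyZ).1 (by
      refine (Groth.Agent.PullStalk.Exact.stalkLin_germ (ZClos.rhoApp (X := S A) Z F) ⊤ y hy (g m)).trans ?_
      refine (congrArg _ hρ).trans ?_
      rw [map_zero]
      exact AssSch.Stalk.germM_zero H y hy)
  let p' : PrimeSpectrum Γ(S A, ⊤) := PrimeSpectrum.comap (e A).symm.toRingHom ⟨q, inferInstance⟩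
  have hp' : p' ∉ affinePt (hTop A) ⁻¹' (Z : Set (S A)) := fun h => hqZ (by
    have := (hZiff p').2 h
    convert this
    ext a
    simp [p'])
  obtain ⟨b, hb, hbp⟩ := supp_not_le hsupp p' hp'
  obtain ⟨a, rfl⟩ := (e A).surjective b
  have ha : a ∉ q := fun h => hbp (show (e A).symm (e A a) ∈ q by rw [RingEquiv.symm_apply_apply]; exact h)
  refine quotient_smul_eq_zero q ha m (g.injective ?_)
  rw [hg, map_zero]
  exact (Submodule.mem_bot _).1 (Submodule.mem_colon_singleton.1 hb)

end Groth.Agent.ZClosLib.H0Spec
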