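import Groth.Prelude.Def_EGA4b
import Groth.Prelude.Def_Found
import Groth.Agent.CycLib.DimFormula
import Groth.Agent.Props.NormalCM
import Mathlib.RingTheory.Ideal.AssociatedPrime.Basic
import Mathlib.RingTheory.Ideal.KrullsHeightTheorem
import Mathlib.RingTheory.IntegralClosure.IntegrallyClosed
import Mathlib.RingTheory.Localization.AtPrime.Basic
import Mathlib.RingTheory.Localization.Submodule
import Mathlib.RingTheory.Finiteness.Ideal

/-!
The intersection of the localisations at height one primes of a universally catenary Noetherian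
domain lies in the normalisation, when this is finite; in particular it is then finite.
-/

set_option autoImplicit false

namespace Groth.Agent.ZClosLib.HeightOneHull

open IsLocalRing

universe u

/-- In an integrally closed Noetherian domain, associated primes of `C/(b)` have height one. -/
theorem height_eq_one_of_mem_associatedPrimes {C : Type u} [CommRing C] [IsDomain C]
    [IsNoetherianRing C] [IsIntegrallyClosed C] {b : C} (hb : b ≠ 0) {p : Ideal C}
    (hp : p ∈ associatedPrimes C (C ⧸ Ideal.span {b})) : p.height = 1 := by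
  obtain ⟨hpp, z, hz⟩ := isAssociatedPrime_iff.1 hp
  obtain ⟨z, rfl⟩ := Ideal.Quotient.mk_surjective z
  have hmem : ∀ c : C, c ∈ p ↔ b ∣ c * z := by
    intro c
    rw [hz, Submodule.mem_colon_singleton, Submodule.mem_bot, Algebra.smul_def,
      Ideal.Quotient.algebraMap_eq, ← map_mul, Ideal.Quotient.eq_zero_iff_mem,
      Ideal.mem_span_singleton]
  have hbp : b ∈ p := (hmem b).2 (dvd_mul_right b z)
  let L := Localization.AtPrime p
  haveI : IsIntegrallyClosed L :=
    isIntegrallyClosed_of_isLocalization L p.primeCompl p.primeCompl_le_nonZeroDivisors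
  haveI : IsNoetherianRing L := IsLocalization.isNoetherianRing p.primeCompl _ inferInstance
  have hpr : (maximalIdeal L).IsPrincipal := by
    by_contra hP
    have hbL : algebraMap C L b ≠ 0 := fun h =>
      hb (IsLocalization.injective L p.primeCompl_le_nonZeroDivisors (by rw [h, map_zero]))
    have hdvd : algebraMap C L b ∣ algebraMap C L z := by
      refine Props.NormalCM.notMem_of_smul_mem hbL (fun c hc => ?_) hP
      obtain ⟨⟨c', s⟩, hcs⟩ := IsLocalization.surj p.primeCompl c
      have hc' : c' ∈ p := by
        rw [← IsLocalization.AtPrime.to_map_mem_maximal_iff L p, ← hcs]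
        exact Ideal.mul_mem_right _ _ hc
      obtain ⟨w, hw⟩ := (hmem c').1 hc'
      refine (IsUnit.dvd_mul_right (IsLocalization.map_units L s)).1 ⟨algebraMap C L w, ?_⟩
      calc c * algebraMap C L z * algebraMap C L s
          = (c * algebraMap C L s) * algebraMap C L z := by ring
        _ = algebraMap C L b * algebraMap C L w := by
            rw [hcs, ← map_mul, hw, map_mul]
    obtain ⟨t, ht⟩ := hdvd
    obtain ⟨⟨t', s⟩, hts⟩ := IsLocalization.surj p.primeCompl t
    have : algebraMap C L (z * s) = algebraMap C L (b * t') := by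
      rw [map_mul, map_mul, ht, mul_assoc, hts]
    have h := IsLocalization.injective L p.primeCompl_le_nonZeroDivisors this
    exact s.2 ((hmem s).2 ⟨t', by rw [mul_comm, h]⟩)
  have h1 : p.height ≤ 1 := by
    rw [← WithBot.coe_le_coe (α := ℕ∞),
      ← IsLocalization.AtPrime.ringKrullDim_eq_height p L, ← maximalIdeal_height_eq_ringKrullDim]
    exact WithBot.coe_le_coe.2 (Ideal.height_le_one_of_isPrincipal_of_mem_minimalPrimes
      (maximalIdeal L) (maximalIdeal L) (by rw [Ideal.minimalPrimes_eq_subsingleton_self]; rfl))
  refine le_antisymm h1 (Order.one_le_iff_pos.2 (pos_iff_ne_zero.2 fun h0 => ?_))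
  rw [Ideal.height_eq_zero_iff_eq_bot] at h0
  exact hb (by simpa [h0] using hbp)

/-- The height one hull lies in the normalisation when the latter is finite and the ring is
universally catenary. -/
theorem heightOneHull_subset_integralClosure (A : Type u) [CommRing A] [IsDomain A]
    [IsNoetherianRing A] (hA : CAlg.IsUniversallyCatenary A)
    (hint : Module.Finite A (integralClosure A (FractionRing A))) :
    EGA4.heightOneHull A ⊆ (integralClosure A (FractionRing A) : Set (FractionRing A)) := by
  intro x hx
  by_contra hxC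
  let K := FractionRing A
  let C := integralClosure A K
  haveI : IsIntegrallyClosed C := integralClosure.isIntegrallyClosedOfFiniteExtension K
  haveI : IsNoetherianRing C := IsNoetherianRing.of_finite A C
  obtain ⟨a, b, hb, rfl⟩ := IsFractionRing.div_surjective (A := A) x
  have hb' : algebraMap A C b ≠ 0 := fun h => nonZeroDivisors.ne_zero hb
    ((map_eq_zero_iff _ (FaithfulSMul.algebraMap_injective A C)).1 h)
  have hbK : algebraMap A K b ≠ 0 := fun h => nonZeroDivisors.ne_zero hb
    ((map_eq_zero_iff _ (IsFractionRing.injective A K)).1 h)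
  have ha : Ideal.Quotient.mk (Ideal.span {algebraMap A C b}) (algebraMap A C a) ≠ 0 := by
    intro h
    obtain ⟨c, hc⟩ := Ideal.mem_span_singleton.1 (Ideal.Quotient.eq_zero_iff_mem.1 h)
    refine hxC ?_
    have hc' := congrArg (algebraMap C K) hc
    rw [map_mul, ← IsScalarTower.algebraMap_apply, ← IsScalarTower.algebraMap_apply] at hc'
    rw [hc', mul_div_cancel_left₀ _ hbK]
    exact c.2
  obtain ⟨p, hp, hle⟩ := exists_le_isAssociatedPrime_of_isNoetherianRing C _ ha
  have hp1 := height_eq_one_of_mem_associatedPrimes hb' hp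
  haveI := hp.isPrime
  let q : Ideal A := p.comap (algebraMap A C)
  haveI : p.LiesOver q := ⟨rfl⟩
  haveI : Algebra.IsAlgebraic A C := Algebra.IsIntegral.isAlgebraic
  haveI : Algebra.IsAlgebraic (A ⧸ q) (C ⧸ p) := Algebra.IsIntegral.isAlgebraic
  haveI : FaithfulSMul (A ⧸ q) (C ⧸ p) := (faithfulSMul_iff_algebraMap_injective _ _).2
    Ideal.algebraMap_quotient_injective
  obtain ⟨hq, hp', t, T, e1, e2, e3, e4, -, heq⟩ := CycLib.height_add_trdeg (A := A) (S := C) q p
  have hPC : CycLib.PolyCatAt A q := fun n s t hh hl _ hs ht =>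
    (hA.2 (MvPolynomial (Fin n) A) inferInstance).2 s t hh hl hs ht
  rw [trdeg_eq_zero] at e3 e4
  have ht0 : t = 0 := by exact_mod_cast e3.symm
  have hT0 : T = 0 := by exact_mod_cast e4.symm
  have hq1 : q.height = 1 := by
    have := heq hPC
    rw [hp1] at e1
    have : hq = 1 := by exact_mod_cast e1.symm
    rw [e2]
    norm_cast
    omega
  obtain ⟨s, hs, a', ha'⟩ := hx q hq1
  refine hs (show algebraMap A C s ∈ p from hle ?_)
  rw [Submodule.mem_colon_singleton, Submodule.mem_bot]
  change Ideal.Quotient.mk _ (algebraMap A C s * algebraMap A C a) = 0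
  rw [ Ideal.Quotient.eq_zero_iff_mem, Ideal.mem_span_singleton]
  refine ⟨algebraMap A C a', ?_⟩
  rw [← map_mul, ← map_mul]
  congr 1
  refine IsFractionRing.injective A K ?_
  rw [map_mul, map_mul, ha', mul_left_comm]
  exact congrArg _ (mul_div_cancel₀ _ hbK).symm

theorem heightOneHullFinite_of_univCatenary (A : Type u) [CommRing A] [IsDomain A]
    [IsNoetherianRing A] (hA : CAlg.IsUniversallyCatenary A)
    (hint : Module.Finite A (integralClosure A (FractionRing A))) : EGA4.HeightOneHullFinite A := by
  let K := FractionRing A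
  let B : Subalgebra A K :=
    { carrier := EGA4.heightOneHull A
      mul_mem' := fun {x y} hx hy p hp h => by
        obtain ⟨s, hs, a, ha⟩ := hx p h
        obtain ⟨t, ht, b, hb⟩ := hy p h
        exact ⟨s * t, fun h' => (hp.mem_or_mem h').elim hs ht, a * b,
          by rw [map_mul, map_mul, ha, hb]; ring⟩
      add_mem' := fun {x y} hx hy p hp h => by
        obtain ⟨s, hs, a, ha⟩ := hx p h
        obtain ⟨t, ht, b, hb⟩ := hy p h
        exact ⟨s * t, fun h' => (hp.mem_or_mem h').elim hs ht, a * t + b * s,
          by rw [map_add, map_mul, map_mul, map_mul, ha, hb]; ring⟩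
      algebraMap_mem' := fun r p hp _ => ⟨1, fun h' => hp.ne_top ((Ideal.eq_top_iff_one _).2 h'), r,
        by rw [map_one, one_mul]⟩ }
  refine ⟨B, rfl, (Module.Finite.iff_fg (N := B.toSubmodule)).2 ?_⟩
  exact Submodule.FG.of_le
    ((Module.Finite.iff_fg (N := (integralClosure A K).toSubmodule)).1 hint)
    (show B.toSubmodule ≤ _ from heightOneHull_subset_integralClosure A hA hint)

end Groth.Agent.ZClosLib.HeightOneHull
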