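import Groth.Agent.ZClosLib.StalkCrit
import Groth.Agent.Depth.Local
import Groth.Agent.EGA4Lib.Stalks
import Groth.Agent.FDesc.QuasiFlat
import Mathlib.RingTheory.Localization.LocalizationLocalization

/-!
# Z-purity and Z-closedness in terms of depth
-/

universe u

open CategoryTheory AlgebraicGeometry TopologicalSpace Opposite

namespace Groth.Agent.ZClosLib.DepthCrit

open HomIdeal StalkCrit
open Groth.Agent.PullStalk.Sky

section Algebra

variable {R : Type u} [CommRing R] [IsNoetherianRing R] {M : Type u} [AddCommGroup M] [Module R M]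
  [Module.Finite R M] {I : Ideal R}

theorem idealPure_iff_one_le : IdealPure I M ↔ 1 ≤ LocCoh.idealDepth I M := by
  constructor
  · intro h
    rw [Depth.one_le_idealDepth_iff]
    intro p hp hle
    obtain ⟨hpr, m, hm⟩ := (isAssociatedPrime_iff).mp hp
    have hm0 : m = 0 := h m fun a ha => by
      have : a ∈ (⊥ : Submodule R M).colon {m} := hm ▸ hle ha
      simpa [Submodule.mem_colon_singleton] using this
    subst hm0
    exact hpr.ne_top (hm.trans (by ext; simp [Submodule.mem_colon_singleton]))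
  · intro h m hm
    obtain ⟨r, hr, hreg⟩ := Depth.exists_isSMulRegular_of_one_le_idealDepth h
    exact hreg (show r • m = r • (0 : M) by rw [hm r hr, smul_zero])

omit [IsNoetherianRing R] [Module.Finite R M] in
theorem idealClosed_iff_pure_quot {x : R} (hx : x ∈ I) (hreg : IsSMulRegular M x) :
    IdealClosed I M ↔ IdealPure I (QuotSMulTop x M) := by
  have hpure : IdealPure I M := fun m hm => hreg (show x • m = x • (0 : M) by rw [hm x hx, smul_zero])
  constructor
  · intro h q hq
    obtain ⟨m, rfl⟩ := Submodule.Quotient.mk_surjective _ q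
    have hmem : ∀ a : I, ∃ n : M, x • n = (a : R) • m := fun a => by
      obtain ⟨n, -, hn⟩ := (Submodule.mem_smul_pointwise_iff_exists _ _ _).mp
        ((Submodule.Quotient.mk_eq_zero _).mp ((Submodule.Quotient.mk_smul _ (a : R) m).trans (hq a a.2)))
      exact ⟨n, hn⟩
    choose n hn using hmem
    let φ : I →ₗ[R] M :=
      { toFun := n
        map_add' := fun a b => hreg (show x • n (a + b) = x • (n a + n b) by
          rw [smul_add, hn, hn, hn, Submodule.coe_add, add_smul])
        map_smul' := fun r a => hreg (show x • n (r • a) = x • (r • n a) by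
          rw [smul_comm x r, hn, hn, SetLike.val_smul, smul_eq_mul, mul_smul]) }
    obtain ⟨z, hz⟩ := h.2 φ
    have : m = x • z := sub_eq_zero.mp (hpure _ fun a ha => by
      rw [smul_sub, sub_eq_zero, smul_comm a x, ← hz ⟨a, ha⟩]
      exact (hn ⟨a, ha⟩).symm)
    exact (Submodule.Quotient.mk_eq_zero _).mpr
      ((Submodule.mem_smul_pointwise_iff_exists _ _ _).mpr ⟨z, trivial, this.symm⟩)
  · intro h
    refine ⟨hpure, fun φ => ?_⟩
    have key : ∀ a : I, x • φ a = (a : R) • φ ⟨x, hx⟩ := fun a => by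
      rw [← map_smul, ← map_smul]
      exact congrArg φ (Subtype.ext (mul_comm x (a : R)))
    obtain ⟨z, -, hz⟩ := (Submodule.mem_smul_pointwise_iff_exists _ _ _).mp
      ((Submodule.Quotient.mk_eq_zero _).mp (h (Submodule.Quotient.mk (φ ⟨x, hx⟩)) fun a ha =>
        (Submodule.Quotient.mk_smul _ a _).symm.trans ((Submodule.Quotient.mk_eq_zero _).mpr
          ((Submodule.mem_smul_pointwise_iff_exists _ _ _).mpr ⟨φ ⟨a, ha⟩, trivial, key ⟨a, ha⟩⟩))))
    refine ⟨z, fun a => hreg (show x • φ a = x • ((a : R) • z) from ?_)⟩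
    rw [key a, ← hz, smul_comm]

theorem idealClosed_iff_two_le : IdealClosed I M ↔ 2 ≤ LocCoh.idealDepth I M := by
  constructor
  · intro h
    obtain ⟨x, hx, hreg⟩ := Depth.exists_isSMulRegular_of_one_le_idealDepth
      (idealPure_iff_one_le.mp h.1)
    have h1 := idealPure_iff_one_le.mp ((idealClosed_iff_pure_quot hx hreg).mp h)
    exact_mod_cast (Depth.le_idealDepth_quotSMulTop_iff hx hreg 1).mp (by exact_mod_cast h1)
  · intro h
    obtain ⟨x, hx, hreg⟩ := Depth.exists_isSMulRegular_of_one_le_idealDepth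
      (le_trans (by norm_num) h : (1 : ℕ∞) ≤ LocCoh.idealDepth I M)
    refine (idealClosed_iff_pure_quot hx hreg).mpr (idealPure_iff_one_le.mpr ?_)
    exact_mod_cast (Depth.le_idealDepth_quotSMulTop_iff hx hreg 1).mpr (by exact_mod_cast h)

theorem depth_eq_of_isBaseChange {S : Type u} [CommRing S] [IsLocalRing S] [Algebra R S]
    (q : Ideal R) [q.IsPrime] [IsLocalization.AtPrime S q] {N : Type u} [AddCommGroup N]
    [Module R N] [Module S N] [IsScalarTower R S N] {φ : M →ₗ[R] N} (hφ : IsBaseChange S φ) :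
    LocCoh.depth (Localization.AtPrime q) (LocalizedModule q.primeCompl M) = LocCoh.depth S N := by
  let e : S ≃ₐ[R] Localization.AtPrime q := IsLocalization.algEquiv q.primeCompl _ _
  refine ((EGA4Lib.depth_supportDim_congr
    (IsLocalizedModule.isBaseChange q.primeCompl (Localization.AtPrime q)
      (LocalizedModule.mkLinearMap q.primeCompl M)).equiv).1.symm.trans ?_)
  exact (EGA4Lib.depth_supportDim_tensor_algEquiv e M).1.symm.trans
    (EGA4Lib.depth_supportDim_congr hφ.equiv).1

end Algebra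

variable {X : Scheme.{u}} [IsLocallyNoetherian X]

lemma stalkPt_specializes (x : X) (q : PrimeSpectrum (X.presheaf.stalk x)) : stalkPt x q ⤳ x := by
  have : stalkPt x q ∈ Set.range (X.fromSpecStalk x) := ⟨q, rfl⟩
  rwa [Scheme.range_fromSpecStalk] at this

lemma exists_stalkPt_eq {x y : X} (h : y ⤳ x) : ∃ q, stalkPt x q = y := by
  have : y ∈ Set.range (X.fromSpecStalk x) := by rwa [Scheme.range_fromSpecStalk]
  exact this

/-- The depth of a coherent module at a generisation, computed in the local ring. -/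
theorem depth_localizedModule_eq (M : X.Modules) (hM : Coh.IsCoh M) (x : X)
    (q : PrimeSpectrum (X.presheaf.stalk x)) :
    LocCoh.depth (Localization.AtPrime q.asIdeal)
        (LocalizedModule q.asIdeal.primeCompl (M.presheaf.stalk x)) =
      LocCoh.depth (X.presheaf.stalk (stalkPt x q)) (M.presheaf.stalk (stalkPt x q)) := by
  have : M.IsQuasicoherent := hM.1
  have := FDesc.QuasiFlat.finite_stalk_of_isCoh M hM x
  have hyx := stalkPt_specializes x q
  obtain ⟨W, hW, hxW, -⟩ := exists_isAffineOpen_mem_and_subset (Opens.mem_top x)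
  have hyW : stalkPt x q ∈ W := hyx.mem_open W.isOpen hxW
  have hcomap : AssSch.Stalk.primeOf hW (stalkPt x q) hyW =
      q.asIdeal.comap (X.presheaf.germ W x hxW).hom :=
    congrArg PrimeSpectrum.asIdeal (hW.fromSpec.isOpenEmbedding.injective
      ((affinePt_primeIdealOf hW _ hyW).trans (stalkPt_eq hW hxW q)) :
        hW.primeIdealOf ⟨_, hyW⟩ = PrimeSpectrum.comap (X.presheaf.germ W x hxW).hom q)
  let aAx : Algebra Γ(X, W) (X.presheaf.stalk x) := (X.presheaf.germ W x hxW).hom.toAlgebra
  let aAy : Algebra Γ(X, W) (X.presheaf.stalk (stalkPt x q)) :=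
    (X.presheaf.germ W (stalkPt x q) hyW).hom.toAlgebra
  let axy : Algebra (X.presheaf.stalk x) (X.presheaf.stalk (stalkPt x q)) :=
    (X.presheaf.stalkSpecializes hyx).hom.toAlgebra
  have htow : IsScalarTower Γ(X, W) (X.presheaf.stalk x) (X.presheaf.stalk (stalkPt x q)) :=
    IsScalarTower.of_algebraMap_eq' (congrArg CommRingCat.Hom.hom
      (X.presheaf.germ_stalkSpecializes hxW hyx)).symm
  have : IsLocalization.AtPrime (X.presheaf.stalk x) (AssSch.Stalk.primeOf hW x hxW) :=
    hW.isLocalization_stalk ⟨x, hxW⟩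
  have : IsLocalization.AtPrime (X.presheaf.stalk (stalkPt x q))
      (q.asIdeal.comap (algebraMap Γ(X, W) (X.presheaf.stalk x))) := by
    change IsLocalization.AtPrime _ (q.asIdeal.comap (X.presheaf.germ W x hxW).hom)
    simp only [← hcomap]
    exact hW.isLocalization_stalk ⟨_, hyW⟩
  have hle : (AssSch.Stalk.primeOf hW x hxW).primeCompl ≤
      (q.asIdeal.comap (algebraMap Γ(X, W) (X.presheaf.stalk x))).primeCompl := fun a ha ha' =>
    q.isPrime.ne_top (Ideal.eq_top_of_isUnit_mem _ ha'
      ((AssSch.Stalk.isUnit_germ_iff hW x hxW a).mpr ha))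
  have := IsLocalization.isLocalization_of_submonoid_le (X.presheaf.stalk x)
    (X.presheaf.stalk (stalkPt x q)) _ _ hle
  have hloc : IsLocalization.AtPrime (X.presheaf.stalk (stalkPt x q)) q.asIdeal := by
    refine IsLocalization.isLocalization_of_is_exists_mul_mem (X.presheaf.stalk (stalkPt x q))
      ((q.asIdeal.comap (algebraMap Γ(X, W) (X.presheaf.stalk x))).primeCompl.map
        (algebraMap Γ(X, W) (X.presheaf.stalk x))) q.asIdeal.primeCompl ?_ fun t => ?_
    · rintro _ ⟨a, ha, rfl⟩
      exact ha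
    · obtain ⟨⟨a, d⟩, e⟩ :=
        IsLocalization.surj (AssSch.Stalk.primeOf hW x hxW).primeCompl (t : X.presheaf.stalk x)
      refine ⟨algebraMap _ _ (d : Γ(X, W)), a, fun ha => ?_, e.symm.trans (mul_comm _ _)⟩
      exact (q.isPrime.mem_or_mem (e.symm ▸ ha : (t : X.presheaf.stalk x) * _ ∈ q.asIdeal)).elim t.2
        (hle d.2)
  let mAx : Module Γ(X, W) (M.presheaf.stalk x) := Module.compHom _ (X.presheaf.germ W x hxW).hom
  let mAy : Module Γ(X, W) (M.presheaf.stalk (stalkPt x q)) :=
    Module.compHom _ (X.presheaf.germ W (stalkPt x q) hyW).hom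
  let mxy : Module (X.presheaf.stalk x) (M.presheaf.stalk (stalkPt x q)) :=
    Module.compHom _ (X.presheaf.stalkSpecializes hyx).hom
  have t1 : IsScalarTower Γ(X, W) (X.presheaf.stalk x) (M.presheaf.stalk x) :=
    IsScalarTower.of_algebraMap_smul fun _ _ => rfl
  have t2 : IsScalarTower (X.presheaf.stalk x) (X.presheaf.stalk (stalkPt x q))
      (M.presheaf.stalk (stalkPt x q)) := IsScalarTower.of_algebraMap_smul fun _ _ => rfl
  have t3 : IsScalarTower Γ(X, W) (X.presheaf.stalk (stalkPt x q))
      (M.presheaf.stalk (stalkPt x q)) := IsScalarTower.of_algebraMap_smul fun _ _ => rfl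
  have t4 : IsScalarTower Γ(X, W) (X.presheaf.stalk x) (M.presheaf.stalk (stalkPt x q)) :=
    IsScalarTower.of_algebraMap_smul fun a m =>
      congrArg (· • m) (ConcreteCategory.congr_hom (X.presheaf.germ_stalkSpecializes hxW hyx) a)
  let φ : M.presheaf.stalk x →ₗ[X.presheaf.stalk x] M.presheaf.stalk (stalkPt x q) :=
    { toFun := M.presheaf.stalkSpecializes hyx
      map_add' := map_add (M.presheaf.stalkSpecializes hyx).hom
      map_smul' := fun r t => by
        obtain ⟨U, hxU, m, rfl⟩ := exists_germM_eq M x t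
        obtain ⟨V, hxV, r, rfl⟩ := X.presheaf.exists_germ_eq (x := x) r
        have hx : x ∈ U ⊓ V := ⟨hxU, hxV⟩
        rw [← X.presheaf.germ_res_apply (homOfLE (inf_le_right : U ⊓ V ≤ V)) x hx r,
          ← AssSch.Stalk.germM_res M (inf_le_left : U ⊓ V ≤ U) x hx m, ← germM_smul]
        refine (ConcreteCategory.congr_hom (M.presheaf.germ_stalkSpecializes hx hyx) _).trans
          ((germM_smul M _ _ _ _ _).trans ?_)
        exact congrArg₂ (· • ·)
          (ConcreteCategory.congr_hom (X.presheaf.germ_stalkSpecializes hx hyx) _).symm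
          (ConcreteCategory.congr_hom (M.presheaf.germ_stalkSpecializes hx hyx) _).symm }
  have hbx := (isLocalizedModule_iff_isBaseChange (AssSch.Stalk.primeOf hW x hxW).primeCompl
    (X.presheaf.stalk x) _).mp (AssSch.Stalk.isLocalizedModule_germLinear M hW x hxW)
  have : IsLocalization.AtPrime (X.presheaf.stalk (stalkPt x q))
      (AssSch.Stalk.primeOf hW (stalkPt x q) hyW) := hW.isLocalization_stalk ⟨_, hyW⟩
  have hby := (isLocalizedModule_iff_isBaseChange (AssSch.Stalk.primeOf hW (stalkPt x q) hyW).primeCompl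
    (X.presheaf.stalk (stalkPt x q)) _).mp (AssSch.Stalk.isLocalizedModule_germLinear M hW (stalkPt x q) hyW)
  have hcomp : φ.restrictScalars Γ(X, W) ∘ₗ AssSch.Stalk.germLinear M x hxW =
      AssSch.Stalk.germLinear M (stalkPt x q) hyW :=
    LinearMap.ext fun m => ConcreteCategory.congr_hom (M.presheaf.germ_stalkSpecializes hxW hyx) m
  rw [← hcomp] at hby
  exact depth_eq_of_isBaseChange q.asIdeal (IsBaseChange.of_comp hbx hby)

variable (T : Closeds X)

lemma zeroLocus_stalkIdeal (x : X) :
    PrimeSpectrum.zeroLocus (stalkIdeal T x : Set (X.presheaf.stalk x)) = stalkPt x ⁻¹' T :=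
  (PrimeSpectrum.zeroLocus_vanishingIdeal_eq_closure _).trans
    (T.isClosed.preimage (X.fromSpecStalk x).continuous).closure_eq

theorem le_idealDepth_stalkIdeal_iff (M : X.Modules) (hM : Coh.IsCoh M) (x : X) (n : ℕ∞) :
    n ≤ LocCoh.idealDepth (stalkIdeal T x) (M.presheaf.stalk x) ↔
      ∀ y : X, y ⤳ x → y ∈ T → n ≤ LocCoh.depth (X.presheaf.stalk y) (M.presheaf.stalk y) := by
  have := FDesc.QuasiFlat.finite_stalk_of_isCoh M hM x
  rw [Depth.idealDepth_eq_iInf_depth, le_iInf₂_iff]
  have hz := zeroLocus_stalkIdeal T x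
  constructor
  · intro h y hy hyT
    obtain ⟨q, rfl⟩ := exists_stalkPt_eq hy
    rw [← depth_localizedModule_eq M hM x q]
    exact h q ((Set.ext_iff.mp hz q).mpr hyT)
  · intro h q hq
    rw [depth_localizedModule_eq M hM x q]
    exact h _ (stalkPt_specializes x q) ((Set.ext_iff.mp hz q).mp hq)

theorem idealPure_stalk_iff (M : X.Modules) (hM : Coh.IsCoh M) (x : X) :
    IdealPure (stalkIdeal T x) (M.presheaf.stalk x) ↔
      ∀ y : X, y ⤳ x → y ∈ T → (1 : ℕ∞) ≤ LocCoh.depth (X.presheaf.stalk y) (M.presheaf.stalk y) := by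
  have := FDesc.QuasiFlat.finite_stalk_of_isCoh M hM x
  exact idealPure_iff_one_le.trans (le_idealDepth_stalkIdeal_iff T M hM x 1)

theorem idealClosed_stalk_iff (M : X.Modules) (hM : Coh.IsCoh M) (x : X) :
    IdealClosed (stalkIdeal T x) (M.presheaf.stalk x) ↔
      ∀ y : X, y ⤳ x → y ∈ T → (2 : ℕ∞) ≤ LocCoh.depth (X.presheaf.stalk y) (M.presheaf.stalk y) := by
  have := FDesc.QuasiFlat.finite_stalk_of_isCoh M hM x
  exact idealClosed_iff_two_le.trans (le_idealDepth_stalkIdeal_iff T M hM x 2)

end Groth.Agent.ZClosLib.DepthCrit
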