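import Groth.Agent.ZClosLib.Basic
import Groth.Agent.QCoh.Exact
import Groth.Agent.LimTop.Closure
import Mathlib.Topology.Sheaves.SheafCondition.UniqueGluing
import Mathlib.AlgebraicGeometry.Noetherian

/-!
# Criteria for Z-pure and Z-closed modules in terms of sections
-/

universe u

open CategoryTheory CategoryTheory.Limits AlgebraicGeometry TopologicalSpace Opposite

namespace Groth.Agent.ZClosLib

variable {X : Scheme.{u}}

/-- The restriction map `F(V) → F(V ⊓ U)`. -/
noncomputable abbrev resInf (F : X.Modules) (U V : X.Opens) :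
    F.presheaf.obj (op V) ⟶ F.presheaf.obj (op (V ⊓ U)) :=
  F.presheaf.map (homOfLE (inf_le_left : V ⊓ U ≤ V)).op

/-- The unit `F ⟶ j_*(F|_U)` on sections, up to the identification of opens. -/
lemma unit_app_eq (F : X.Modules) (U V : X.Opens) :
    ((ZClos.resPushUnit U).app F).app V = resInf F U V ≫ F.presheaf.map
      (eqToHom (by rw [ZClos.ι_image_preimage, inf_comm] : U.ι ''ᵁ U.ι ⁻¹ᵁ V = V ⊓ U)).op := by
  rw [ZClos.resPushUnit_app_app, ← Functor.map_comp, ← op_comp]
  rfl

lemma mono_iff_app_injective {F G : X.Modules} (f : F ⟶ G) :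
    Mono f ↔ ∀ V : X.Opens, Function.Injective (f.app V) := by
  constructor
  · intro h V
    exact (AddCommGrpCat.mono_iff_injective _).mp
      (inferInstance : Mono ((QCoh.sectionsFunctor X V).map f))
  · intro h
    have : ∀ V : X.Opensᵒᵖ, Mono (((Scheme.Modules.toPresheaf X).map f).app V) := fun V =>
      (AddCommGrpCat.mono_iff_injective _).mpr (h V.unop)
    have : Mono ((Scheme.Modules.toPresheaf X).map f) := NatTrans.mono_of_mono_app _
    exact (Scheme.Modules.toPresheaf X).mono_of_mono_map this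

lemma isIso_iff_app_bijective {F G : X.Modules} (f : F ⟶ G) :
    IsIso f ↔ ∀ V : X.Opens, Function.Bijective (f.app V) := by
  rw [Scheme.Modules.Hom.isIso_iff_isIso_app]
  exact forall_congr' fun V => ConcreteCategory.isIso_iff_bijective _

lemma mono_unit_iff (F : X.Modules) (U : X.Opens) :
    Mono ((ZClos.resPushUnit U).app F) ↔ ∀ V, Function.Injective (resInf F U V) := by
  refine (mono_iff_app_injective _).trans (forall_congr' fun V => ?_)
  rw [unit_app_eq]
  exact Function.Injective.of_comp_iff ((ConcreteCategory.bijective_of_isIso (F.presheaf.map (eqToHom _).op)).1) _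

lemma isIso_unit_iff (F : X.Modules) (U : X.Opens) :
    IsIso ((ZClos.resPushUnit U).app F) ↔ ∀ V, Function.Bijective (resInf F U V) := by
  refine (isIso_iff_app_bijective _).trans (forall_congr' fun V => ?_)
  rw [unit_app_eq]
  exact Function.Bijective.of_comp_iff' (ConcreteCategory.bijective_of_isIso (F.presheaf.map (eqToHom _).op)) _

/-- Injectivity of restriction is local. -/
lemma resInf_injective_of_local (F : X.Modules) (U V : X.Opens)
    (h : ∀ x ∈ V, ∃ W : X.Opens, x ∈ W ∧ W ≤ V ∧ Function.Injective (resInf F U W)) :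
    Function.Injective (resInf F U V) := by
  intro s t hst
  choose W hxW hWV hW using h
  refine TopCat.Sheaf.eq_of_locally_eq' ((SheafOfModules.toSheaf _).obj F)
    (fun x : V => W x.1 x.2) V (fun x => homOfLE (hWV x.1 x.2))
    (fun x hx => Opens.mem_iSup.mpr ⟨⟨x, hx⟩, hxW x hx⟩) s t fun x => hW x.1 x.2 ?_
  have e := congrArg (F.presheaf.map (homOfLE (inf_le_inf_right U (hWV x.1 x.2))).op) hst
  change (resInf F U V ≫ F.presheaf.map _) s = (resInf F U V ≫ F.presheaf.map _) t at e
  change (F.presheaf.map _ ≫ resInf F U _) s = (F.presheaf.map _ ≫ resInf F U _) t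
  rw [resInf, ← Functor.map_comp, ← op_comp] at e ⊢
  exact e

/-- Surjectivity of restriction is local, given injectivity everywhere. -/
lemma resInf_surjective_of_local (F : X.Modules) (U V : X.Opens)
    (hinj : ∀ W, Function.Injective (resInf F U W))
    (h : ∀ x ∈ V, ∃ W : X.Opens, x ∈ W ∧ W ≤ V ∧ Function.Surjective (resInf F U W)) :
    Function.Surjective (resInf F U V) := by
  intro s
  choose W hxW hWV hW using h
  let S := (SheafOfModules.toSheaf _).obj F
  choose m hm using fun x : V => hW x.1 x.2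
    (F.presheaf.map (homOfLE (inf_le_inf_right U (hWV x.1 x.2))).op s)
  have hcomp : TopCat.Presheaf.IsCompatible F.presheaf (fun x : V => W x.1 x.2) m := by
    intro x y
    apply hinj
    have ex := congrArg (F.presheaf.map (homOfLE (inf_le_inf_right U
      (inf_le_left : W x.1 x.2 ⊓ W y.1 y.2 ≤ W x.1 x.2))).op) (hm x)
    have ey := congrArg (F.presheaf.map (homOfLE (inf_le_inf_right U
      (inf_le_right : W x.1 x.2 ⊓ W y.1 y.2 ≤ W y.1 y.2))).op) (hm y)
    simp only [resInf, ← ConcreteCategory.comp_apply, ← Functor.map_comp, ← op_comp] at ex ey ⊢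
    exact ex.trans ey.symm
  obtain ⟨g, hg, -⟩ := TopCat.Sheaf.existsUnique_gluing' S (fun x : V => W x.1 x.2) V
    (fun x => homOfLE (hWV x.1 x.2))
    (fun x hx => Opens.mem_iSup.mpr ⟨⟨x, hx⟩, hxW x hx⟩) m hcomp
  refine ⟨g, TopCat.Sheaf.eq_of_locally_eq' S (fun x : V => W x.1 x.2 ⊓ U) (V ⊓ U)
    (fun x => homOfLE (inf_le_inf_right U (hWV x.1 x.2)))
    (fun x hx => Opens.mem_iSup.mpr ⟨⟨x, hx.1⟩, hxW x hx.1, hx.2⟩) _ s fun x => ?_⟩
  refine Eq.trans ?_ (hm x)
  rw [← hg x]
  change (resInf F U V ≫ F.presheaf.map _) g = (F.presheaf.map _ ≫ resInf F U _) g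
  rw [resInf, ← Functor.map_comp, ← op_comp, resInf, ← Functor.map_comp, ← op_comp]
  rfl

/-- Extensionality for maps between modules of the form `j_*(F|_U)`. -/
lemma resPush_hom_ext {U : X.Opens} {F G : X.Modules}
    {f g : (ZClos.resPush U).obj F ⟶ (ZClos.resPush U).obj G}
    (h : (ZClos.resPushUnit U).app F ≫ f = (ZClos.resPushUnit U).app F ≫ g) : f = g := by
  have := ZClos.isIso_unit_resPush (le_refl U) G
  have : IsIso ((ZClos.resPush U).map ((ZClos.resPushUnit U).app F)) := by
    refine (isIso_iff_app_bijective _).mpr fun V => ?_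
    rw [ZClos.resPush_map_app, ZClos.resPushUnit_app_app]
    have : IsIso (homOfLE (U.ι.image_preimage_le (U.ι ''ᵁ U.ι ⁻¹ᵁ V))) :=
      ⟨homOfLE (ZClos.resPush_image_eq (le_refl U) V).ge, Subsingleton.elim _ _,
        Subsingleton.elim _ _⟩
    have := isIso_op (homOfLE (U.ι.image_preimage_le (U.ι ''ᵁ U.ι ⁻¹ᵁ V)))
    exact ConcreteCategory.bijective_of_isIso (F.presheaf.map _)
  have e : (ZClos.resPush U).map f = (ZClos.resPush U).map g := by
    rw [← cancel_epi ((ZClos.resPush U).map ((ZClos.resPushUnit U).app F)), ← Functor.map_comp,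
      ← Functor.map_comp]
    exact congrArg _ h
  rw [← cancel_mono ((ZClos.resPushUnit U).app ((ZClos.resPush U).obj G))]
  exact ((ZClos.resPushUnit U).naturality f).trans
    (((congrArg ((ZClos.resPushUnit U).app _ ≫ ·) e)).trans ((ZClos.resPushUnit U).naturality g).symm)

theorem isZClosed_iff (Z : Set X) (F : X.Modules) :
    ZClos.IsZClosed Z F ↔ ∀ T : ZClos.Cl Z, IsIso (ZClos.toDiagram Z F T) := by
  constructor
  · intro h T
    obtain ⟨g, hg1, hg2⟩ := h.out
    have e : ZClos.toDiagram Z F T ≫ colimit.ι ((ZClos.diagram Z).obj F) T ≫ g = 𝟙 F :=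
      (Category.assoc _ _ _).symm.trans
        ((congrArg (fun q : F ⟶ (ZClos.H0 Z).obj F => q ≫ g) (ZClos.rhoApp_eq Z F T).symm).trans hg1)
    refine ⟨colimit.ι ((ZClos.diagram Z).obj F) T ≫ g, e, ?_⟩
    refine resPush_hom_ext (U := T.U) (F := F) (G := F) ?_
    exact ((Category.assoc _ _ _).symm.trans (congrArg (· ≫ ZClos.toDiagram Z F T) e)).trans
      ((Category.id_comp _).trans (Category.comp_id _).symm)
  · intro h
    have := h
    let φ : (Functor.const (ZClos.Cl Z)).obj F ⟶ (ZClos.diagram Z).obj F :=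
      { app := fun T => ZClos.toDiagram Z F T
        naturality := fun T T' f => (Category.id_comp _).trans (ZClos.toDiagram_map Z F f).symm }
    have : ∀ T, IsIso (φ.app T) := h
    have : IsIso φ := NatIso.isIso_of_isIso_app φ
    have hm : IsIso (colim.map φ) := inferInstance
    have : ∀ (i j : ZClos.Cl Z) (f : i ⟶ j), IsIso (((Functor.const _).obj F).map f) :=
      fun _ _ _ => (inferInstance : IsIso (𝟙 F))
    have hconst : IsIso (colimit.ι ((Functor.const (ZClos.Cl Z)).obj F) ⊥) :=
      isIso_ι_of_isInitial (IsInitial.ofUniqueHom (fun T => homOfLE bot_le)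
        fun _ _ => Subsingleton.elim _ _) _
    have e : ZClos.rhoApp Z F = colimit.ι ((Functor.const (ZClos.Cl Z)).obj F) ⊥ ≫ colim.map φ := by
      rw [ZClos.rhoApp_eq Z F ⊥, colim_map, ι_colimMap]
    rw [ZClos.IsZClosed, e]
    exact @IsIso.comp_isIso _ _ _ _ _ _ _ hconst hm

theorem isZPure_iff_sections (Z : Set X) (F : X.Modules) :
    ZClos.IsZPure Z F ↔ ∀ (T : ZClos.Cl Z) (V : X.Opens), Function.Injective (resInf F T.U V) :=
  (isZPure_iff Z F).trans (forall_congr' fun T => mono_unit_iff F T.U)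

theorem isZClosed_iff_sections (Z : Set X) (F : X.Modules) :
    ZClos.IsZClosed Z F ↔ ∀ (T : ZClos.Cl Z) (V : X.Opens), Function.Bijective (resInf F T.U V) :=
  (isZClosed_iff Z F).trans (forall_congr' fun T => isIso_unit_iff F T.U)

/-- It suffices to test purity on small opens. -/
theorem isZPure_of_local (Z : Set X) (F : X.Modules)
    (h : ∀ (T : ZClos.Cl Z) (x : X) (V : X.Opens), x ∈ V →
      ∃ W : X.Opens, x ∈ W ∧ W ≤ V ∧ Function.Injective (resInf F T.U W)) :
    ZClos.IsZPure Z F :=
  (isZPure_iff_sections Z F).mpr fun T V => resInf_injective_of_local F T.U V fun x hx => h T x V hx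

/-- It suffices to test closedness on small opens. -/
theorem isZClosed_of_local (Z : Set X) (F : X.Modules)
    (h : ∀ (T : ZClos.Cl Z) (x : X) (V : X.Opens), x ∈ V →
      ∃ W : X.Opens, x ∈ W ∧ W ≤ V ∧ Function.Bijective (resInf F T.U W)) :
    ZClos.IsZClosed Z F := by
  have hinj : ∀ (T : ZClos.Cl Z) V, Function.Injective (resInf F T.U V) := fun T V =>
    resInf_injective_of_local F T.U V fun x hx =>
      (h T x V hx).imp fun W hW => ⟨hW.1, hW.2.1, hW.2.2.1⟩
  exact (isZClosed_iff_sections Z F).mpr fun T V => ⟨hinj T V,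
    resInf_surjective_of_local F T.U V (hinj T) fun x hx =>
      (h T x V hx).imp fun W hW => ⟨hW.1, hW.2.1, hW.2.2.2⟩⟩

theorem isZPure_iff_compact (Z : Set X) (F : X.Modules) :
    ZClos.IsZPure Z F ↔ ∀ (T : ZClos.Cl Z) (V : X.Opens), IsCompact (V : Set X) →
      Function.Injective (resInf F T.U V) := by
  refine ⟨fun h T V _ => (isZPure_iff_sections Z F).mp h T V, fun h => isZPure_of_local Z F ?_⟩
  intro T x V hx
  obtain ⟨_, ⟨W, hW, rfl⟩, hxW, hWV⟩ :=
    X.isBasis_affineOpens.exists_subset_of_mem_open (show x ∈ (V : Set X) from hx) V.isOpen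
  exact ⟨W, hxW, hWV, h T W hW.isCompact⟩

theorem isZClosed_iff_compact (Z : Set X) (F : X.Modules) :
    ZClos.IsZClosed Z F ↔ ∀ (T : ZClos.Cl Z) (V : X.Opens), IsCompact (V : Set X) →
      Function.Bijective (resInf F T.U V) := by
  refine ⟨fun h T V _ => (isZClosed_iff_sections Z F).mp h T V, fun h => isZClosed_of_local Z F ?_⟩
  intro T x V hx
  obtain ⟨_, ⟨W, hW, rfl⟩, hxW, hWV⟩ :=
    X.isBasis_affineOpens.exists_subset_of_mem_open (show x ∈ (V : Set X) from hx) V.isOpen
  exact ⟨W, hxW, hWV, h T W hW.isCompact⟩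

end Groth.Agent.ZClosLib
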