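import Groth.Agent.ZClosLib.HomIdeal
import Groth.Agent.ZClosLib.Criteria
import Groth.Agent.AssSch.Stalk
import Mathlib.RingTheory.Localization.BaseChange
import Mathlib.RingTheory.Localization.Algebra
import Mathlib.AlgebraicGeometry.Stalk

/-!
# Purity and closedness of quasi-coherent modules, read on stalks
-/

universe u

open CategoryTheory AlgebraicGeometry TopologicalSpace Opposite

namespace Groth.Agent.ZClosLib.StalkCrit

open Groth.Agent.PullStalk.Sky
open HomIdeal

variable {X : Scheme.{u}}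

/-- The point of `X` attached to a prime of `O_x`. -/
noncomputable def stalkPt (x : X) (q : PrimeSpectrum (X.presheaf.stalk x)) : X :=
  (X.fromSpecStalk x).base q

/-- The point of `X` attached to a prime of the ring of an affine open. -/
noncomputable def affinePt {W : X.Opens} (hW : IsAffineOpen W) (q : PrimeSpectrum Γ(X, W)) : X :=
  hW.fromSpec.base q

lemma continuous_affinePt {W : X.Opens} (hW : IsAffineOpen W) : Continuous (affinePt hW) :=
  hW.fromSpec.continuous

lemma affinePt_primeIdealOf {W : X.Opens} (hW : IsAffineOpen W) (y : X) (hy : y ∈ W) :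
    affinePt hW (hW.primeIdealOf ⟨y, hy⟩) = y :=
  hW.fromSpec_primeIdealOf ⟨y, hy⟩

lemma stalkPt_eq {W : X.Opens} (hW : IsAffineOpen W) {x : X} (hx : x ∈ W)
    (q : PrimeSpectrum (X.presheaf.stalk x)) :
    stalkPt x q = affinePt hW (PrimeSpectrum.comap (X.presheaf.germ W x hx).hom q) :=
  (congrArg (fun f : Spec (X.presheaf.stalk x) ⟶ X => f.base q)
    (hW.fromSpecStalk_eq_fromSpecStalk hx)).symm

/-- The radical ideal of `O_x` cutting out `T` on `Spec O_x`. -/
noncomputable def stalkIdeal (T : Closeds X) (x : X) : Ideal (X.presheaf.stalk x) :=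
  PrimeSpectrum.vanishingIdeal (stalkPt x ⁻¹' (T : Set X))

/-- The radical ideal of `Γ(X, W)` cutting out `T` on the affine open `W`. -/
noncomputable def affineIdeal {W : X.Opens} (hW : IsAffineOpen W) (T : Closeds X) : Ideal Γ(X, W) :=
  PrimeSpectrum.vanishingIdeal (affinePt hW ⁻¹' (T : Set X))

lemma zeroLocus_affineIdeal {W : X.Opens} (hW : IsAffineOpen W) (T : Closeds X) :
    PrimeSpectrum.zeroLocus (affineIdeal hW T : Set Γ(X, W)) = affinePt hW ⁻¹' (T : Set X) :=
  (PrimeSpectrum.zeroLocus_vanishingIdeal_eq_closure _).trans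
    (T.isClosed.preimage (continuous_affinePt hW)).closure_eq

lemma basicOpen_le_compl {W : X.Opens} (hW : IsAffineOpen W) (T : Closeds X) {a : Γ(X, W)}
    (ha : a ∈ affineIdeal hW T) : X.basicOpen a ≤ W ⊓ T.compl := by
  intro y hy
  have hyW : y ∈ W := X.basicOpen_le a hy
  refine ⟨hyW, fun hyT => ?_⟩
  have hq : hW.primeIdealOf ⟨y, hyW⟩ ∈ affinePt hW ⁻¹' (T : Set X) :=
    Set.mem_preimage.mpr ((affinePt_primeIdealOf hW y hyW).symm ▸ hyT)
  exact (AssSch.Stalk.mem_basicOpen_iff hW y hyW a).mp hy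
    ((PrimeSpectrum.mem_vanishingIdeal _ _).mp ha _ hq)

lemma le_iSup_basicOpen {W : X.Opens} (hW : IsAffineOpen W) (T : Closeds X) :
    W ⊓ T.compl ≤ ⨆ a : affineIdeal hW T, X.basicOpen (a : Γ(X, W)) := by
  rintro y ⟨hyW, hyT⟩
  have hq : hW.primeIdealOf ⟨y, hyW⟩ ∉ PrimeSpectrum.zeroLocus (affineIdeal hW T : Set Γ(X, W)) := by
    rw [zeroLocus_affineIdeal]
    exact fun h => hyT ((affinePt_primeIdealOf hW y hyW) ▸ Set.mem_preimage.mp h)
  obtain ⟨a, ha, hna⟩ := Set.not_subset.mp hq
  exact Opens.mem_iSup.mpr ⟨⟨a, ha⟩, (AssSch.Stalk.mem_basicOpen_iff hW y hyW a).mpr hna⟩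

variable {W : X.Opens} (hW : IsAffineOpen W) (T : Closeds X) {x : X} (hx : x ∈ W)

lemma zeroLocus_map_affineIdeal :
    PrimeSpectrum.zeroLocus
      ((affineIdeal hW T).map (X.presheaf.germ W x hx).hom : Set (X.presheaf.stalk x)) =
        stalkPt x ⁻¹' (T : Set X) := by
  rw [Ideal.map, PrimeSpectrum.zeroLocus_span, ← PrimeSpectrum.preimage_comap_zeroLocus,
    zeroLocus_affineIdeal]
  ext q
  rw [Set.mem_preimage, Set.mem_preimage, Set.mem_preimage, stalkPt_eq hW hx]

lemma map_affineIdeal_le : (affineIdeal hW T).map (X.presheaf.germ W x hx).hom ≤ stalkIdeal T x := by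
  rw [stalkIdeal, ← zeroLocus_map_affineIdeal hW T hx, PrimeSpectrum.vanishingIdeal_zeroLocus_eq_radical]
  exact Ideal.le_radical

lemma stalkIdeal_pow_le [IsLocallyNoetherian X] :
    ∃ n : ℕ, stalkIdeal T x ^ n ≤ (affineIdeal hW T).map (X.presheaf.germ W x hx).hom := by
  have : IsNoetherianRing (X.presheaf.stalk x) := inferInstance
  rw [stalkIdeal, ← zeroLocus_map_affineIdeal hW T hx, PrimeSpectrum.vanishingIdeal_zeroLocus_eq_radical]
  exact Ideal.exists_radical_pow_le_of_fg _ (IsNoetherian.noetherian _)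

variable [IsLocallyNoetherian X] (M : X.Modules) [M.IsQuasicoherent]

include hW in
lemma isNoetherianRing : IsNoetherianRing Γ(X, W) :=
  AssSch.Stalk.isNoetherianRing_of_isAffineOpen hW

omit [IsLocallyNoetherian X] in
/-- A function is a unit on every open inside its basic open. -/
lemma isUnit_rres {U V : X.Opens} (a : Γ(X, U)) (hVa : V ≤ X.basicOpen a) (hVU : V ≤ U) :
    IsUnit (QCoh.rres hVU a) := by
  have h : IsUnit (QCoh.rres (X.basicOpen_le a) a) :=
    RingedSpace.isUnit_res_basicOpen (X := X.toLocallyRingedSpace.toRingedSpace) a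
  have := h.map (QCoh.rres hVa).hom
  rwa [show (QCoh.rres hVa).hom (QCoh.rres (X.basicOpen_le a) a) = QCoh.rres hVU a from
    QCoh.rres_rres _ _ _] at this

include hx in
/-- Closedness on an affine open passes to the stalks. -/
theorem idealClosed_stalk (h : IdealClosed (affineIdeal hW T) Γ(M, W)) :
    IdealClosed (stalkIdeal T x) (M.presheaf.stalk x) := by
  let := (X.presheaf.germ W x hx).hom.toAlgebra
  let : Module Γ(X, W) (M.presheaf.stalk x) := Module.compHom _ (X.presheaf.germ W x hx).hom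
  have : IsScalarTower Γ(X, W) (X.presheaf.stalk x) (M.presheaf.stalk x) :=
    IsScalarTower.of_algebraMap_smul fun _ _ => rfl
  have : IsLocalization.AtPrime (X.presheaf.stalk x) (AssSch.Stalk.primeOf hW x hx) :=
    hW.isLocalization_stalk ⟨x, hx⟩
  have : Module.Flat Γ(X, W) (X.presheaf.stalk x) :=
    IsLocalization.flat _ (AssSch.Stalk.primeOf hW x hx).primeCompl
  have : IsNoetherianRing Γ(X, W) := isNoetherianRing hW
  have hl := AssSch.Stalk.isLocalizedModule_germLinear M hW x hx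
  exact (h.baseChange ((isLocalizedModule_iff_isBaseChange
    (AssSch.Stalk.primeOf hW x hx).primeCompl (X.presheaf.stalk x) _).mp hl)).anti
      (map_affineIdeal_le hW T hx)

include hx in
/-- Purity on an affine open passes to the stalks. -/
theorem idealPure_stalk (h : IdealPure (affineIdeal hW T) Γ(M, W)) :
    IdealPure (stalkIdeal T x) (M.presheaf.stalk x) := by
  let := (X.presheaf.germ W x hx).hom.toAlgebra
  let : Module Γ(X, W) (M.presheaf.stalk x) := Module.compHom _ (X.presheaf.germ W x hx).hom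
  have : IsScalarTower Γ(X, W) (X.presheaf.stalk x) (M.presheaf.stalk x) :=
    IsScalarTower.of_algebraMap_smul fun _ _ => rfl
  have : IsLocalization.AtPrime (X.presheaf.stalk x) (AssSch.Stalk.primeOf hW x hx) :=
    hW.isLocalization_stalk ⟨x, hx⟩
  have : Module.Flat Γ(X, W) (X.presheaf.stalk x) :=
    IsLocalization.flat _ (AssSch.Stalk.primeOf hW x hx).primeCompl
  have : IsNoetherianRing Γ(X, W) := isNoetherianRing hW
  have hl := AssSch.Stalk.isLocalizedModule_germLinear M hW x hx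
  exact (h.baseChange (IsNoetherian.noetherian _) ((isLocalizedModule_iff_isBaseChange
    (AssSch.Stalk.primeOf hW x hx).primeCompl (X.presheaf.stalk x) _).mp hl)).anti
      (map_affineIdeal_le hW T hx)

omit hx in
omit [IsLocallyNoetherian X] [M.IsQuasicoherent] in
/-- Injectivity of restriction gives purity on the affine open. -/
theorem idealPure_of_resInf (h : Function.Injective (resInf M T.compl W)) :
    IdealPure (affineIdeal hW T) Γ(M, W) := by
  intro m hm
  refine h (Eq.trans ?_ (map_zero _).symm)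
  refine QCoh.eq_zero_of_locally_eq_zero M
    (U := fun a : affineIdeal hW T => X.basicOpen (a : Γ(X, W)))
    (fun a => basicOpen_le_compl hW T a.2) (le_iSup_basicOpen hW T) _ fun a => ?_
  rw [QCoh.res_res]
  have e := congrArg (QCoh.res M (X.basicOpen_le (a : Γ(X, W)))) (hm a a.2)
  rw [QCoh.res_smul, map_zero] at e
  exact ((isUnit_rres (a : Γ(X, W)) le_rfl (X.basicOpen_le _)).smul_eq_zero).mp e

omit hx in
omit [IsLocallyNoetherian X] [M.IsQuasicoherent] in
/-- A homomorphism `I → Γ(M, W)` is multiplication by a section on `W ∖ T`. -/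
theorem exists_section_of_hom (φ : affineIdeal hW T →ₗ[Γ(X, W)] Γ(M, W)) :
    ∃ σ : Γ(M, W ⊓ T.compl), ∀ b : affineIdeal hW T,
      QCoh.rres (inf_le_left : W ⊓ T.compl ≤ W) (b : Γ(X, W)) • σ =
        QCoh.res M inf_le_left (φ b) := by
  have hu : ∀ a : affineIdeal hW T, IsUnit (QCoh.rres (X.basicOpen_le (a : Γ(X, W))) (a : Γ(X, W))) :=
    fun a => isUnit_rres (a : Γ(X, W)) le_rfl (X.basicOpen_le _)
  let s : ∀ a : affineIdeal hW T, Γ(M, X.basicOpen (a : Γ(X, W))) := fun a =>
    (↑(hu a).unit⁻¹ : Γ(X, X.basicOpen (a : Γ(X, W)))) • QCoh.res M (X.basicOpen_le _) (φ a)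
  have key : ∀ (a b : affineIdeal hW T) (V : X.Opens) (hVa : V ≤ X.basicOpen (a : Γ(X, W))) (hVW : V ≤ W),
      QCoh.rres hVW (b : Γ(X, W)) • QCoh.res M hVa (s a) = QCoh.res M hVW (φ b) := by
    intro a b V hVa hVW
    have hua : IsUnit (QCoh.rres hVW (a : Γ(X, W))) := isUnit_rres _ hVa hVW
    have hs : QCoh.rres hVW (a : Γ(X, W)) • QCoh.res M hVa (s a) = QCoh.res M hVW (φ a) := by
      rw [← QCoh.rres_rres (X.basicOpen_le _) hVa, ← QCoh.res_smul]
      simp only [s, smul_smul, IsUnit.mul_val_inv, one_smul, QCoh.res_res]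
    refine (hua.smul_left_cancel).mp ?_
    rw [smul_comm, hs, ← QCoh.res_smul, ← QCoh.res_smul, ← map_smul, ← map_smul]
    exact congrArg _ (congrArg φ (Subtype.ext (mul_comm (b : Γ(X, W)) (a : Γ(X, W)))))
  obtain ⟨σ, hσ⟩ := QCoh.exists_glue M (fun a => basicOpen_le_compl hW T a.2)
    (le_iSup_basicOpen hW T) s fun a b => by
      let V := X.basicOpen (a : Γ(X, W)) ⊓ X.basicOpen (b : Γ(X, W))
      have hVW : V ≤ W := inf_le_left.trans (X.basicOpen_le _)
      have hub : IsUnit (QCoh.rres hVW (b : Γ(X, W))) := isUnit_rres _ inf_le_right hVW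
      refine (hub.smul_left_cancel).mp ?_
      exact (key a b V inf_le_left hVW).trans (key b b V inf_le_right hVW).symm
  refine ⟨σ, fun b => ?_⟩
  refine QCoh.eq_of_locally_eq M
    (U := fun a : affineIdeal hW T => X.basicOpen (a : Γ(X, W)))
    (fun a => basicOpen_le_compl hW T a.2) (le_iSup_basicOpen hW T) _ _ fun a => ?_
  rw [QCoh.res_smul, QCoh.rres_rres, QCoh.res_res, hσ a]
  have := key a b (X.basicOpen (a : Γ(X, W))) le_rfl (X.basicOpen_le _)
  rwa [QCoh.res_self] at this

omit hx in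
omit [IsLocallyNoetherian X] [M.IsQuasicoherent] in
/-- Bijectivity of restriction gives closedness on the affine open. -/
theorem idealClosed_of_resInf (h : Function.Bijective (resInf M T.compl W)) :
    IdealClosed (affineIdeal hW T) Γ(M, W) := by
  refine ⟨idealPure_of_resInf hW T M h.1, fun φ => ?_⟩
  obtain ⟨σ, hσ⟩ := exists_section_of_hom hW T M φ
  obtain ⟨m, hm⟩ := h.2 σ
  refine ⟨m, fun b => h.1 ?_⟩
  refine (hσ b).symm.trans (Eq.trans ?_ (QCoh.res_smul M inf_le_left _ m).symm)
  exact congrArg (_ • ·) hm.symm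

omit hW hx in
/-- Purity on the stalks gives injectivity of restriction. -/
theorem resInf_injective {V : X.Opens}
    (h : ∀ y ∈ V, IdealPure (stalkIdeal T y) (M.presheaf.stalk y)) :
    Function.Injective (resInf M T.compl V) := by
  rw [injective_iff_map_eq_zero]
  intro s hs
  refine TopCat.Presheaf.section_ext ((SheafOfModules.toSheaf _).obj M) V s 0 fun y hy =>
    Eq.trans ?_ (map_zero (M.presheaf.germ V y hy).hom).symm
  obtain ⟨_, ⟨W, hW, rfl⟩, hyW, hWV⟩ :=
    X.isBasis_affineOpens.exists_subset_of_mem_open (show y ∈ (V : Set X) from hy) V.isOpen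
  have hW : IsAffineOpen W := hW
  have hyW : y ∈ W := hyW
  have hWV : W ≤ V := hWV
  refine (AssSch.Stalk.germM_res M hWV y hyW s).symm.trans ?_
  let I := affineIdeal hW T
  have hI : I.FG := (isNoetherianRing hW).noetherian I
  let Q : Ideal (X.presheaf.stalk y) :=
    (⊥ : Submodule (X.presheaf.stalk y) (M.presheaf.stalk y)).colon
      {germM M W y hyW (QCoh.res M hWV s)}
  have hQ : I.map (X.presheaf.germ W y hyW).hom ≤ Q.radical := by
    rw [Ideal.map_le_iff_le_comap]
    intro a ha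
    have hle := basicOpen_le_compl hW T ha
    have h0 : QCoh.res M (X.basicOpen_le a) (QCoh.res M hWV s) = 0 := by
      rw [QCoh.res_res, ← QCoh.res_res M (inf_le_left : V ⊓ T.compl ≤ V)
        (hle.trans (inf_le_inf_right _ hWV))]
      exact (congrArg _ hs).trans (map_zero _)
    obtain ⟨n, hn⟩ :=
      ((QCoh.isQuasicoherent_iff_forall_isAffineOpen M).mp inferInstance W hW a).eq_zero _ h0
    refine ⟨n, Submodule.mem_colon_singleton.mpr ?_⟩
    rw [← map_pow, ← germM_smul, hn, Submodule.mem_bot]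
    exact map_zero (M.presheaf.germ W y hyW).hom
  obtain ⟨n, hn⟩ := Ideal.exists_pow_le_of_le_radical_of_fg hQ (hI.map _)
  obtain ⟨k, hk⟩ := stalkIdeal_pow_le hW T hyW
  refine ((h y hy).of_pow_le (n := k * n) (J := Q) ?_) _ fun a ha =>
    (Submodule.mem_bot _).mp (Submodule.mem_colon_singleton.mp ha)
  rw [pow_mul]
  exact (Ideal.pow_right_mono hk n).trans hn

omit hW hx in
/-- Closedness on the stalks gives bijectivity of restriction. -/
theorem resInf_bijective {V : X.Opens}
    (h : ∀ y ∈ V, IdealClosed (stalkIdeal T y) (M.presheaf.stalk y)) :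
    Function.Bijective (resInf M T.compl V) := by
  have hinj : ∀ V' : X.Opens, V' ≤ V → Function.Injective (resInf M T.compl V') :=
    fun V' hV' => resInf_injective T M fun y hy => (h y (hV' hy)).1
  refine ⟨hinj V le_rfl, fun t => ?_⟩
  have key : ∀ y : V, ∃ (U : X.Opens) (hU : U ≤ V) (m : Γ(M, U)), y.1 ∈ U ∧
      QCoh.res M (inf_le_left : U ⊓ T.compl ≤ U) m =
        QCoh.res M (inf_le_inf_right _ hU : U ⊓ T.compl ≤ V ⊓ T.compl) t := by
    rintro ⟨y, hy⟩
    obtain ⟨_, ⟨W, hW, rfl⟩, hyW, hWV⟩ :=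
      X.isBasis_affineOpens.exists_subset_of_mem_open (show y ∈ (V : Set X) from hy) V.isOpen
    have hW : IsAffineOpen W := hW
    have hyW : y ∈ W := hyW
    have hWV : W ≤ V := hWV
    have hNR : IsNoetherianRing Γ(X, W) := isNoetherianRing hW
    let I := affineIdeal hW T
    let tW : Γ(M, W ⊓ T.compl) := QCoh.res M (inf_le_inf_right _ hWV) t
    let r : Γ(M, W) →+ Γ(M, W ⊓ T.compl) := (resInf M T.compl W).hom
    have hr : ∀ (a : Γ(X, W)) (z : Γ(M, W)),
        r (a • z) = QCoh.rres (inf_le_left : W ⊓ T.compl ≤ W) a • r z :=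
      fun a z => QCoh.res_smul M inf_le_left a z
    let K : Ideal Γ(X, W) :=
      { carrier := {a | ∃ z, r z = QCoh.rres (inf_le_left : W ⊓ T.compl ≤ W) a • tW}
        zero_mem' := ⟨0, by rw [map_zero, map_zero, zero_smul]⟩
        add_mem' := by
          rintro a b ⟨z, hz⟩ ⟨w, hw⟩
          exact ⟨z + w, by rw [map_add, map_add, add_smul, hz, hw]⟩
        smul_mem' := by
          rintro c a ⟨z, hz⟩
          exact ⟨c • z, by rw [hr, hz, smul_smul, ← map_mul]; rfl⟩ }
    have hIK : I ≤ K.radical := by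
      intro a ha
      have hle := basicOpen_le_compl hW T ha
      obtain ⟨n, z, hz⟩ :=
        ((QCoh.isQuasicoherent_iff_forall_isAffineOpen M).mp inferInstance W hW a).surj
          (QCoh.res M hle tW)
      let d : Γ(M, W ⊓ T.compl) := r z - QCoh.rres (inf_le_left : W ⊓ T.compl ≤ W) (a ^ n) • tW
      have hd : ∀ b : Γ(X, W), b ∈ I → ∃ k : ℕ,
          QCoh.res M (inf_le_right : W ⊓ T.compl ⊓ X.basicOpen b ≤ X.basicOpen b)
            (0 : Γ(M, X.basicOpen b)) =
          QCoh.res M (inf_le_left : W ⊓ T.compl ⊓ X.basicOpen b ≤ W ⊓ T.compl)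
            (QCoh.rres (inf_le_left : W ⊓ T.compl ≤ W) (a ^ k) • d) := by
        intro b hb
        have hleb := basicOpen_le_compl hW T hb
        obtain ⟨p, w, hw⟩ :=
          ((QCoh.isQuasicoherent_iff_forall_isAffineOpen M).mp inferInstance W hW b).surj
            (QCoh.res M hleb tW)
        have h0 : QCoh.res M (X.basicOpen_le (b * a)) (b ^ p • z - a ^ n • w) = 0 := by
          have h1 : X.basicOpen (b * a) ≤ X.basicOpen b := by
            rw [Scheme.basicOpen_mul]; exact inf_le_left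
          have h2 : X.basicOpen (b * a) ≤ X.basicOpen a := by
            rw [Scheme.basicOpen_mul]; exact inf_le_right
          rw [map_sub, QCoh.res_smul, QCoh.res_smul, sub_eq_zero,
            ← QCoh.res_res M (X.basicOpen_le a) h2, hz, ← QCoh.res_res M (X.basicOpen_le b) h1, hw,
            QCoh.res_smul, QCoh.res_smul, map_pow, map_pow, map_pow, map_pow, QCoh.rres_rres,
            QCoh.rres_rres, QCoh.res_res, QCoh.res_res, smul_comm]
          simp only [tW, QCoh.res_res]
        obtain ⟨k, hk⟩ := ((QCoh.isQuasicoherent_iff_forall_isAffineOpen M).mp inferInstance W hW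
          (b * a)).eq_zero _ h0
        refine ⟨k, ?_⟩
        rw [map_zero]
        have hle' : W ⊓ T.compl ⊓ X.basicOpen b ≤ W := inf_le_left.trans inf_le_left
        have hub : IsUnit (QCoh.rres hle' b) := isUnit_rres _ inf_le_right hle'
        refine ((hub.pow (k + p)).smul_left_cancel).mp ?_
        rw [smul_zero]
        have e := congrArg (QCoh.res M hle') hk
        rw [map_zero, QCoh.res_smul, map_pow, map_mul, map_sub, QCoh.res_smul, QCoh.res_smul,
          map_pow, map_pow, ← QCoh.res_res M (X.basicOpen_le b) inf_le_right w, hw, QCoh.res_smul,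
          map_pow, QCoh.rres_rres, QCoh.res_res] at e
        rw [QCoh.res_smul, map_sub, QCoh.res_smul, QCoh.rres_rres, QCoh.rres_rres, map_pow, map_pow,
          show QCoh.res M (inf_le_left : W ⊓ T.compl ⊓ X.basicOpen b ≤ W ⊓ T.compl) (r z) =
            QCoh.res M hle' z from QCoh.res_res M _ _ z]
        rw [← e]
        simp only [smul_sub, smul_smul]
        congr 2 <;> ring
      obtain ⟨gens, hgens⟩ := hNR.noetherian I
      choose k hk using fun b : (gens : Set Γ(X, W)) => hd b.1 (hgens ▸ Ideal.subset_span b.2)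
      obtain ⟨N, hN⟩ := Finset.exists_le (Finset.univ.image k)
      refine ⟨N + n, a ^ N • z, ?_⟩
      rw [hr, pow_add, map_mul, mul_smul, ← sub_eq_zero, ← smul_sub]
      have hcover : W ⊓ T.compl ≤
          ⨆ b : (gens : Set Γ(X, W)), W ⊓ T.compl ⊓ X.basicOpen (b : Γ(X, W)) := by
        intro p hp
        have hpW : p ∈ W := hp.1
        obtain ⟨⟨c, hc⟩, hpc⟩ := Opens.mem_iSup.mp (le_iSup_basicOpen hW T hp)
        have hcI : c ∈ I := hc
        refine Classical.byContradiction fun hne => ?_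
        rw [← hgens] at hcI
        refine (AssSch.Stalk.mem_basicOpen_iff hW p hpW c).mp hpc
          ((Ideal.span_le.mpr fun b hb => ?_) hcI)
        refine Classical.byContradiction fun hb' => hne (Opens.mem_iSup.mpr
          ⟨⟨b, hb⟩, hp, (AssSch.Stalk.mem_basicOpen_iff hW p hpW b).mpr hb'⟩)
      refine QCoh.eq_zero_of_locally_eq_zero M (fun b => inf_le_left) hcover _ fun b => ?_
      have e := (hk b).symm.trans (map_zero _)
      have hkN : k b ≤ N := hN _ (Finset.mem_image_of_mem k (Finset.mem_univ _))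
      rw [← Nat.sub_add_cancel hkN, pow_add, map_mul, mul_smul, QCoh.res_smul, e, smul_zero]
    have hz : ∀ a : K, ∃ z, r z = QCoh.rres (inf_le_left : W ⊓ T.compl ≤ W) (a : Γ(X, W)) • tW :=
      fun a => a.2
    choose z hz using hz
    let φ : K →ₗ[Γ(X, W)] Γ(M, W) :=
      { toFun := z
        map_add' := fun a b => hinj W hWV (by
          change r _ = r _
          rw [hz, map_add r, hz, hz, Submodule.coe_add, map_add, add_smul])
        map_smul' := fun c a => hinj W hWV (by
          change r _ = r _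
          rw [hz, RingHom.id_apply, hr, hz, SetLike.val_smul, smul_eq_mul, map_mul, mul_smul]) }
    let := (X.presheaf.germ W y hyW).hom.toAlgebra
    let : Module Γ(X, W) (M.presheaf.stalk y) := Module.compHom _ (X.presheaf.germ W y hyW).hom
    have : IsScalarTower Γ(X, W) (X.presheaf.stalk y) (M.presheaf.stalk y) :=
      IsScalarTower.of_algebraMap_smul fun _ _ => rfl
    have : IsLocalization.AtPrime (X.presheaf.stalk y) (AssSch.Stalk.primeOf hW y hyW) :=
      hW.isLocalization_stalk ⟨y, hyW⟩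
    let S := (AssSch.Stalk.primeOf hW y hyW).primeCompl
    have hloc := AssSch.Stalk.isLocalizedModule_germLinear M hW y hyW
    let φ' : K.map (algebraMap Γ(X, W) (X.presheaf.stalk y)) →ₗ[X.presheaf.stalk y]
        M.presheaf.stalk y :=
      (IsLocalizedModule.map S (Algebra.idealMap (X.presheaf.stalk y) K)
        (AssSch.Stalk.germLinear M y hyW) φ).extendScalarsOfIsLocalization S _
    obtain ⟨n, hn⟩ := Ideal.exists_pow_le_of_le_radical_of_fg hIK (hNR.noetherian I)
    obtain ⟨k, hk⟩ := stalkIdeal_pow_le hW T hyW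
    have hclosed : IdealClosed (K.map (algebraMap Γ(X, W) (X.presheaf.stalk y)))
        (M.presheaf.stalk y) := by
      refine (h y hy).of_pow_le (n := k * n) ?_
      rw [pow_mul]
      refine (Ideal.pow_right_mono hk n).trans ?_
      rw [← Ideal.map_pow]
      exact Ideal.map_mono hn
    obtain ⟨μ, hμ⟩ := hclosed.2 φ'
    obtain ⟨U₀, hyU₀, m, rfl⟩ := exists_germM_eq M y μ
    obtain ⟨Kg, hKg⟩ := hNR.noetherian K
    have heq : ∀ a : (Kg : Set Γ(X, W)), ∃ (U : X.Opens) (h₁ : U ≤ U₀) (h₂ : U ≤ W), y ∈ U ∧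
        QCoh.rres h₂ (a : Γ(X, W)) • QCoh.res M h₁ m =
          QCoh.res M h₂ (z ⟨a, hKg ▸ Ideal.subset_span a.2⟩) := by
      intro a
      let a' : K := ⟨a, hKg ▸ Ideal.subset_span a.2⟩
      have e : germM M W y hyW (z a') =
          X.presheaf.germ W y hyW (a : Γ(X, W)) • germM M U₀ y hyU₀ m := by
        refine Eq.trans ?_ (hμ (Algebra.idealMap _ K a'))
        exact (IsLocalizedModule.map_apply S (Algebra.idealMap (X.presheaf.stalk y) K)
          (AssSch.Stalk.germLinear M y hyW) φ a').symm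
      have hyU : y ∈ U₀ ⊓ W := ⟨hyU₀, hyW⟩
      rw [← AssSch.Stalk.germM_res M (inf_le_right : U₀ ⊓ W ≤ W) y hyU,
        ← AssSch.Stalk.germM_res M (inf_le_left : U₀ ⊓ W ≤ U₀) y hyU,
        ← AssSch.Stalk.germ_rres (inf_le_right : U₀ ⊓ W ≤ W) y hyU, ← germM_smul] at e
      obtain ⟨U, hyU', i, j, e'⟩ := M.presheaf.germ_eq y hyU hyU _ _ e
      refine ⟨U, i.le.trans inf_le_left, i.le.trans inf_le_right, hyU', ?_⟩
      rw [← QCoh.rres_rres (inf_le_right : U₀ ⊓ W ≤ W) i.le,
        ← QCoh.res_res M (inf_le_left : U₀ ⊓ W ≤ U₀) i.le, ← QCoh.res_smul,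
        ← QCoh.res_res M (inf_le_right : U₀ ⊓ W ≤ W) i.le]
      exact e'.symm
    choose U hU₀ hUW hyU heq using heq
    obtain ⟨U', hU'⟩ : ∃ U' : X.Opens, y ∈ U' ∧ U' ≤ U₀ ∧ U' ≤ W ∧ ∀ a, U' ≤ U a := by
      have hfin : IsOpen (⋂ a, (U a : Set X)) := isOpen_iInter_of_finite fun a => (U a).isOpen
      exact ⟨U₀ ⊓ W ⊓ ⟨_, hfin⟩, ⟨⟨hyU₀, hyW⟩, Set.mem_iInter.mpr hyU⟩,
        inf_le_left.trans inf_le_left, inf_le_left.trans inf_le_right,
        fun a p hp => Set.mem_iInter.mp hp.2 a⟩
    refine ⟨U', hU'.2.2.1.trans hWV, QCoh.res M hU'.2.1 m, hU'.1, ?_⟩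
    have hcover : U' ⊓ T.compl ≤
        ⨆ a : (Kg : Set Γ(X, W)), U' ⊓ T.compl ⊓ X.basicOpen (a : Γ(X, W)) := by
      intro p hp
      have hpW : p ∈ W := hU'.2.2.1 hp.1
      obtain ⟨⟨c, hc⟩, hpc⟩ := Opens.mem_iSup.mp (le_iSup_basicOpen hW T ⟨hpW, hp.2⟩)
      have hcK : c ∈ K.radical := hIK hc
      refine Classical.byContradiction fun hne => ?_
      refine (AssSch.Stalk.mem_basicOpen_iff hW p hpW c).mp hpc
        (((hW.primeIdealOf ⟨p, hpW⟩).isPrime.radical_le_iff.mpr ?_) hcK)
      rw [← hKg]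
      refine Ideal.span_le.mpr fun b hb => Classical.byContradiction fun hb' =>
        hne (Opens.mem_iSup.mpr ⟨⟨b, hb⟩, hp, (AssSch.Stalk.mem_basicOpen_iff hW p hpW b).mpr hb'⟩)
    refine QCoh.eq_of_locally_eq M (fun a => inf_le_left) hcover _ _ fun a => ?_
    rw [QCoh.res_res, QCoh.res_res, QCoh.res_res]
    let V' := U' ⊓ T.compl ⊓ X.basicOpen (a : Γ(X, W))
    have hV'W : V' ≤ W := inf_le_left.trans (inf_le_left.trans hU'.2.2.1)
    have hV'WT : V' ≤ W ⊓ T.compl := inf_le_left.trans (inf_le_inf_right _ hU'.2.2.1)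
    have hua : IsUnit (QCoh.rres hV'W (a : Γ(X, W))) := isUnit_rres _ inf_le_right hV'W
    refine hua.smul_left_cancel.mp ?_
    have hV'U : V' ≤ U a := inf_le_left.trans (inf_le_left.trans (hU'.2.2.2 a))
    have e1 := congrArg (QCoh.res M hV'U) (heq a)
    rw [QCoh.res_smul, QCoh.rres_rres, QCoh.res_res, QCoh.res_res] at e1
    refine e1.trans ?_
    have e2 := congrArg (QCoh.res M hV'WT) (hz ⟨a, hKg ▸ Ideal.subset_span a.2⟩)
    rw [QCoh.res_smul, QCoh.rres_rres, QCoh.res_res] at e2
    rw [show tW = QCoh.res M (inf_le_inf_right _ hWV) t from rfl, QCoh.res_res] at e2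
    refine Eq.trans ?_ e2
    rfl
  choose U hU m hyU hm using key
  obtain ⟨g, hg⟩ := QCoh.exists_glue M hU
    (fun p hp => Opens.mem_iSup.mpr ⟨⟨p, hp⟩, hyU ⟨p, hp⟩⟩) m fun a b => by
      refine hinj _ (inf_le_left.trans (hU a)) ?_
      have ea := congrArg (QCoh.res M (inf_le_inf_right _ inf_le_left :
        U a ⊓ U b ⊓ T.compl ≤ U a ⊓ T.compl)) (hm a)
      have eb := congrArg (QCoh.res M (inf_le_inf_right _ inf_le_right :
        U a ⊓ U b ⊓ T.compl ≤ U b ⊓ T.compl)) (hm b)
      rw [QCoh.res_res, QCoh.res_res] at ea eb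
      change QCoh.res M inf_le_left (QCoh.res M _ _) = QCoh.res M inf_le_left (QCoh.res M _ _)
      rw [QCoh.res_res, QCoh.res_res]
      exact ea.trans eb.symm
  refine ⟨g, QCoh.eq_of_locally_eq M (U := fun p => U p ⊓ T.compl)
    (fun p => inf_le_inf_right _ (hU p))
    (fun p hp => Opens.mem_iSup.mpr ⟨⟨p, hp.1⟩, hyU ⟨p, hp.1⟩, hp.2⟩) _ _ fun p => ?_⟩
  refine Eq.trans ?_ (hm p)
  rw [← hg p]
  exact (QCoh.res_res M _ _ g).trans (QCoh.res_res M _ _ g).symm

omit hW hx in
theorem isZPure_iff {Z : Set X} :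
    ZClos.IsZPure Z M ↔
      ∀ (T : ZClos.Cl Z) (y : X), IdealPure (stalkIdeal T.1 y) (M.presheaf.stalk y) := by
  rw [isZPure_iff_sections]
  refine forall_congr' fun T => ⟨fun h y => ?_, fun h V => resInf_injective T.1 M fun y _ => h y⟩
  obtain ⟨_, ⟨W, hW, rfl⟩, hyW, -⟩ :=
    X.isBasis_affineOpens.exists_subset_of_mem_open (Set.mem_univ y) isOpen_univ
  exact idealPure_stalk hW T.1 hyW M (idealPure_of_resInf hW T.1 M (h W))

omit hW hx in
theorem isZClosed_iff {Z : Set X} :
    ZClos.IsZClosed Z M ↔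
      ∀ (T : ZClos.Cl Z) (y : X), IdealClosed (stalkIdeal T.1 y) (M.presheaf.stalk y) := by
  rw [isZClosed_iff_sections]
  refine forall_congr' fun T => ⟨fun h y => ?_, fun h V => resInf_bijective T.1 M fun y _ => h y⟩
  obtain ⟨_, ⟨W, hW, rfl⟩, hyW, -⟩ :=
    X.isBasis_affineOpens.exists_subset_of_mem_open (Set.mem_univ y) isOpen_univ
  exact idealClosed_stalk hW T.1 hyW M (idealClosed_of_resInf hW T.1 M (h W))

end Groth.Agent.ZClosLib.StalkCrit
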