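import Groth.Agent.ZClosLib.Closure

/-!
# The Z-closure is Z-closed; a criterion for isomorphisms of Z-closed modules
-/

universe u

open CategoryTheory CategoryTheory.Limits AlgebraicGeometry TopologicalSpace Opposite

namespace Groth.Agent.ZClosLib

open Groth.Agent.PullStalk.Sky Groth.Agent.PullStalk.Exact
open FilteredSections (app_map res_res)

variable {X : Scheme.{u}}

/-- In a locally Noetherian scheme every open contained in a compact open is compact. -/
lemma isCompact_of_le [IsLocallyNoetherian X] {W V : X.Opens} (hV : IsCompact (V : Set X))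
    (h : W ≤ V) : IsCompact (W : Set X) := by
  have : CompactSpace V.toScheme := isCompact_iff_compactSpace.mp hV
  have : IsNoetherian V.toScheme := {}
  have hW : IsCompact (V.ι.base ⁻¹' (W : Set X)) := NoetherianSpace.isCompact _
  have := hW.image V.ι.continuous
  rwa [Set.image_preimage_eq_iff.mpr (fun x hx => ⟨⟨x, h hx⟩, rfl⟩)] at this

/-- A section of `F` on `V ∖ T` as a section of the Z-closure on `V`. -/
noncomputable def secH0 (Z : Set X) (F : X.Modules) (T : ZClos.Cl Z) (V : X.Opens)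
    (s : Γ(F, T.U.ι ''ᵁ T.U.ι ⁻¹ᵁ V)) : Γ((ZClos.H0 Z).obj F, V) :=
  ((colimit.cocone ((ZClos.diagram Z).obj F)).ι.app T).app V s

lemma secH0_zero (Z : Set X) (F : X.Modules) (T : ZClos.Cl Z) (V : X.Opens) :
    secH0 Z F T V 0 = 0 :=
  map_zero (((colimit.cocone ((ZClos.diagram Z).obj F)).ι.app T).app V).hom

lemma secH0_res (Z : Set X) (F : X.Modules) (T : ZClos.Cl Z) {V W : X.Opens} (i : W ⟶ V)
    (s : Γ(F, T.U.ι ''ᵁ T.U.ι ⁻¹ᵁ V)) :
    ((ZClos.H0 Z).obj F).presheaf.map i.op (secH0 Z F T V s) =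
      secH0 Z F T W (F.presheaf.map
        (T.U.ι.opensFunctor.map ((Opens.map T.U.ι.base).map i)).op s) :=
  (app_map ((colimit.cocone ((ZClos.diagram Z).obj F)).ι.app T) i s).symm

lemma secH0_trans (Z : Set X) (F : X.Modules) {T T' : ZClos.Cl Z} (h : T ≤ T') (V : X.Opens)
    (s : Γ(F, T.U.ι ''ᵁ T.U.ι ⁻¹ᵁ V)) :
    secH0 Z F T' V (F.presheaf.map (ZClos.trIncl (ZClos.Cl.U_anti h) V).op s) = secH0 Z F T V s :=
  (congrArg (((colimit.cocone ((ZClos.diagram Z).obj F)).ι.app T').app V)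
    (diagram_map_app Z F (homOfLE h) V s).symm).trans
    (FilteredSections.ι_map_app (G := (ZClos.diagram Z).obj F) (c := colimit.cocone ((ZClos.diagram Z).obj F)) (homOfLE h) V (show Γ(((ZClos.diagram Z).obj F).obj T, V) from s))

lemma exists_secH0_eq [IsLocallyNoetherian X] (Z : Set X) (F : X.Modules) {V : X.Opens}
    (hV : IsCompact (V : Set X)) (σ : Γ((ZClos.H0 Z).obj F, V)) :
    ∃ T s, secH0 Z F T V s = σ :=
  FilteredSections.sections_rep (colimit.isColimit ((ZClos.diagram Z).obj F)) hV σ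

lemma secH0_eq_zero_iff [IsLocallyNoetherian X] (Z : Set X) (F : X.Modules) {V : X.Opens}
    (hV : IsCompact (V : Set X)) (T : ZClos.Cl Z) (s : Γ(F, T.U.ι ''ᵁ T.U.ι ⁻¹ᵁ V)) :
    secH0 Z F T V s = 0 ↔ ∃ (T' : ZClos.Cl Z) (h : T ≤ T'),
      F.presheaf.map (ZClos.trIncl (ZClos.Cl.U_anti h) V).op s = 0 := by
  constructor
  · intro h
    obtain ⟨T', f, hf⟩ :=
      FilteredSections.sections_zero (colimit.isColimit ((ZClos.diagram Z).obj F)) hV T s h
    exact ⟨T', f.le, (diagram_map_app Z F f V s).symm.trans hf⟩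
  · rintro ⟨T', h, e⟩
    rw [← secH0_trans Z F h V s, e, secH0_zero]

theorem isZClosed_H0 [IsLocallyNoetherian X] (Z : Set X) (F : X.Modules) :
    ZClos.IsZClosed Z ((ZClos.H0 Z).obj F) := by
  rw [isZClosed_iff_compact]
  intro T V hV
  have hVT : IsCompact ((V ⊓ T.U : X.Opens) : Set X) := isCompact_of_le hV inf_le_left
  constructor
  · rw [injective_iff_map_eq_zero]
    intro σ hσ
    obtain ⟨j, s, rfl⟩ := exists_secH0_eq Z F hV σ
    rw [secH0_res, secH0_eq_zero_iff Z F hVT] at hσ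
    obtain ⟨k, hjk, hk⟩ := hσ
    refine (secH0_eq_zero_iff Z F hV j s).mpr ⟨k ⊔ T, hjk.trans le_sup_left, ?_⟩
    have hle : (k ⊔ T).U.ι ''ᵁ (k ⊔ T).U.ι ⁻¹ᵁ V ≤ k.U.ι ''ᵁ k.U.ι ⁻¹ᵁ (V ⊓ T.U) := by
      rw [ι_image_preimage', ι_image_preimage']
      exact fun x hx => ⟨fun h => hx.1 (Or.inl h), hx.2, fun h => hx.1 (Or.inr h)⟩
    have e := congrArg (F.presheaf.map (homOfLE hle).op) hk
    rw [map_zero, ← ConcreteCategory.comp_apply, ← ConcreteCategory.comp_apply, ← Functor.map_comp,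
      ← Functor.map_comp, ← op_comp, ← op_comp] at e
    rw [← e]
    rfl
  · intro σ
    obtain ⟨j, s, rfl⟩ := exists_secH0_eq Z F hVT σ
    have hle : (j ⊔ T).U.ι ''ᵁ (j ⊔ T).U.ι ⁻¹ᵁ V ≤ j.U.ι ''ᵁ j.U.ι ⁻¹ᵁ (V ⊓ T.U) := by
      rw [ι_image_preimage', ι_image_preimage']
      exact fun x hx => ⟨fun h => hx.1 (Or.inl h), hx.2, fun h => hx.1 (Or.inr h)⟩
    refine ⟨secH0 Z F (j ⊔ T) V (F.presheaf.map (homOfLE hle).op s), ?_⟩
    rw [secH0_res, ← secH0_trans Z F (le_sup_left : j ≤ j ⊔ T)]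
    refine congrArg _ ?_
    rw [← ConcreteCategory.comp_apply, ← Functor.map_comp, ← op_comp]
    rfl

/-- The points of `W` where the germ of a section is not in the image form a locally closed set. -/
lemma isLocallyClosed_notImage {F G : X.Modules} (v : F ⟶ G) (W : X.Opens) (t : Γ(G, W)) :
    IsLocallyClosed {x : X | ∃ hx : x ∈ W, germM G W x hx t ∉ Set.range (stalkLin v x)} := by
  refine ⟨W, {x : X | ∃ hx : x ∈ W, germM G W x hx t ∈ Set.range (stalkLin v x)}ᶜ, W.isOpen, ?_, ?_⟩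
  · refine isClosed_compl_iff.mpr (isOpen_iff_forall_mem_open.mpr fun x ⟨hx, a, ha⟩ => ?_)
    obtain ⟨U, hxU, m, rfl⟩ := exists_germM_eq F x a
    rw [stalkLin_germ] at ha
    obtain ⟨V, hxV, iU, iW, e⟩ := G.presheaf.germ_eq x hxU hx _ _ ha
    refine ⟨V, fun y hy => ⟨iW.le hy, germM F U y (iU.le hy) m, ?_⟩, V.isOpen, hxV⟩
    rw [stalkLin_germ]
    exact (G.presheaf.germ_res_apply iU y hy _).symm.trans
      ((congrArg (G.presheaf.germ V y hy) e).trans (G.presheaf.germ_res_apply iW y hy t))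
  · ext x
    exact ⟨fun ⟨hx, h⟩ => ⟨hx, fun ⟨_, h'⟩ => h h'⟩, fun ⟨hx, h⟩ => ⟨hx, fun h' => h ⟨hx, h'⟩⟩⟩

/-- A morphism from a Z-closed to a Z-pure module, bijective on stalks outside `Z`, is an
isomorphism. -/
theorem isIso_of_stalk_bijective [IsLocallyNoetherian X] {Z : Set X}
    (hZ : StableUnderSpecialization Z) {F G : X.Modules} (v : F ⟶ G) (hF : ZClos.IsZClosed Z F)
    (hG : ZClos.IsZPure Z G) (hv : ∀ x : X, x ∉ Z → Function.Bijective (stalkLin v x)) :
    IsIso v := by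
  rw [isZClosed_iff_sections] at hF
  rw [isZPure_iff_sections] at hG
  have hinj : ∀ V : X.Opens, Function.Injective (v.app V) := by
    intro V
    rw [injective_iff_map_eq_zero]
    intro s hs
    have hsub : {x : X | ∃ hx : x ∈ V, germM F V x hx s ≠ 0} ⊆ Z := fun x ⟨hx, hne⟩ => by
      refine Classical.byContradiction fun hxZ => hne ((hv x hxZ).1 ?_)
      rw [stalkLin_germ, map_zero, hs]
      exact map_zero (G.presheaf.germ V x hx).hom
    let T := clOf hZ (isLocallyClosed_support F V s) hsub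
    refine (hF T V).1 (Eq.trans ?_ (map_zero _).symm)
    refine eq_zero_of_germ F _ _ fun x hx => (F.presheaf.germ_res_apply _ x hx s).trans ?_
    exact Classical.byContradiction fun hne => hx.2 (subset_closure ⟨hx.1, hne⟩)
  refine (isIso_iff_app_bijective v).mpr fun V => ⟨hinj V, fun t => ?_⟩
  have hsub : {x : X | ∃ hx : x ∈ V, germM G V x hx t ∉ Set.range (stalkLin v x)} ⊆ Z :=
    fun x ⟨_, hne⟩ => Classical.byContradiction fun hxZ => hne ((hv x hxZ).2 _)
  let T := clOf hZ (isLocallyClosed_notImage v V t) hsub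
  have key : ∀ x : (V ⊓ T.U : X.Opens), ∃ (W : X.Opens) (hW : W ≤ V ⊓ T.U) (m : Γ(F, W)),
      x.1 ∈ W ∧ v.app W m = G.presheaf.map (homOfLE (hW.trans inf_le_left)).op t := fun x => by
    obtain ⟨a, ha⟩ := show germM G V x.1 x.2.1 t ∈ Set.range (stalkLin v x.1) from
      Classical.byContradiction fun h => x.2.2 (subset_closure ⟨x.2.1, h⟩)
    obtain ⟨U, hxU, m, rfl⟩ := exists_germM_eq F x.1 a
    rw [stalkLin_germ] at ha
    obtain ⟨W, hxW, iU, iV, e⟩ := G.presheaf.germ_eq x.1 hxU x.2.1 _ _ ha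
    refine ⟨W ⊓ (V ⊓ T.U), inf_le_right,
      F.presheaf.map (homOfLE (inf_le_left.trans iU.le)).op m, ⟨hxW, x.2⟩, ?_⟩
    refine (app_map v _ m).trans ?_
    exact (res_res iU (homOfLE inf_le_left) _ _).symm.trans
      ((congrArg (G.presheaf.map (homOfLE inf_le_left).op) e).trans (res_res iV _ _ t))
  choose W hW m hxW hm using key
  have hcomp : TopCat.Presheaf.IsCompatible F.presheaf W m := fun a b => by
    apply hinj
    rw [app_map, app_map, hm, hm]
    exact (res_res (M := G) _ _ (homOfLE (inf_le_left.trans ((hW a).trans inf_le_left))) t).trans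
      (res_res (M := G) _ _ _ t).symm
  have hcover : V ⊓ T.U ≤ iSup W := fun y hy => Opens.mem_iSup.mpr ⟨⟨y, hy⟩, hxW ⟨y, hy⟩⟩
  obtain ⟨g, hg, -⟩ := TopCat.Sheaf.existsUnique_gluing' ((SheafOfModules.toSheaf _).obj F)
    W (V ⊓ T.U) (fun x => homOfLE (hW x)) hcover m hcomp
  obtain ⟨s, hs⟩ := (hF T V).2 g
  refine ⟨s, hG T V ?_⟩
  refine (app_map v _ s).symm.trans ((congrArg (v.app _) hs).trans ?_)
  refine TopCat.Sheaf.eq_of_locally_eq' ((SheafOfModules.toSheaf _).obj G)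
    W (V ⊓ T.U) (fun x => homOfLE (hW x)) hcover _ _ fun x => ?_
  refine (app_map v (homOfLE (hW x)) g).symm.trans ((congrArg (v.app _) (hg x)).trans ?_)
  exact (hm x).trans (res_res (M := G) _ _ _ t).symm

theorem isIso_fac [IsLocallyNoetherian X] {Z : Set X} (hZ : StableUnderSpecialization Z)
    (F F' : X.Modules) (hF' : ZClos.IsZClosed Z F') (u : F ⟶ F')
    (hu : ∀ x : X, x ∉ Z → Function.Bijective (stalkLin u x))
    (v : (ZClos.H0 Z).obj F ⟶ F') (hv : ZClos.rhoApp Z F ≫ v = u) : IsIso v := by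
  refine isIso_of_stalk_bijective hZ v (isZClosed_H0 Z F)
    ((isZPure_iff_sections Z F').mpr fun T V => ((isZClosed_iff_sections Z F').mp hF' T V).1)
    fun x hx => ?_
  have e : (stalkLin v x : _ → _) ∘ stalkLin (ZClos.rhoApp Z F) x = stalkLin u x :=
    funext fun a => (stalkLin_comp (ZClos.rhoApp Z F) v x a).symm.trans (by rw [hv])
  exact (Function.Bijective.of_comp_iff _ (rho_stalk_bijective Z F hx)).mp (e ▸ hu x hx)

end Groth.Agent.ZClosLib
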