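import Groth.Agent.ZClosLib.Basic
import Groth.Agent.QCoh.Qcqs
import Groth.Agent.QCoh.Exact
import Mathlib.AlgebraicGeometry.Noetherian
import Mathlib.Algebra.Category.ModuleCat.Colimits

/-!
# The Z-closure of a quasi-coherent module is quasi-coherent
-/

universe u

open CategoryTheory CategoryTheory.Limits AlgebraicGeometry TopologicalSpace Opposite

namespace Groth.Agent.ZClosLib

variable {X : Scheme.{u}}

theorem isQuasicoherent_resPush [IsLocallyNoetherian X] (U : X.Opens) (F : X.Modules)
    [F.IsQuasicoherent] : ((ZClos.resPush U).obj F).IsQuasicoherent := by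
  have : ((Scheme.Modules.restrictFunctor U.ι).obj F).IsQuasicoherent :=
    Scheme.Modules.isQuasicoherent_restrictFunctor _ F
  exact QCoh.isQuasicoherent_pushforward U.ι _

theorem isQuasicoherent_H0 [IsLocallyNoetherian X] (Z : Set X) (F : X.Modules)
    [F.IsQuasicoherent] : ((ZClos.H0 Z).obj F).IsQuasicoherent := by
  have h : ∀ T, (((ZClos.diagram Z).obj F).obj T).IsQuasicoherent := fun T =>
    isQuasicoherent_resPush T.U F
  have : ∀ Y : Scheme.{u}, HasColimitsOfShape (ZClos.Cl Z) Y.Modules := fun Y => inferInstance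
  exact QCoh.isQuasicoherent_colimit ((ZClos.diagram Z).obj F)

end Groth.Agent.ZClosLib
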