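import Groth.Agent.ZClosLib.StalkCrit
import Groth.Agent.ZClosLib.IsoCrit
import Groth.Agent.ZClosLib.QCoh
import Groth.Agent.QCoh.Pullback
import Groth.Agent.QCoh.FiniteType
import Groth.Prelude.Def_Coh
import Groth.Agent.FDesc.Stalk
import Mathlib.RingTheory.Ideal.MinimalPrime.Noetherian
import Mathlib.AlgebraicGeometry.Morphisms.Flat

/-!
# Flat base change of the Z-closure
-/

universe u

open CategoryTheory CategoryTheory.Limits AlgebraicGeometry TopologicalSpace Opposite

namespace Groth.Agent.ZClosLib.FlatBC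

open Groth.Agent.PullStalk.Sky Groth.Agent.PullStalk.Exact
open HomIdeal StalkCrit

variable {X X' : Scheme.{u}} (f : X' ⟶ X)

lemma stalkPt_map (x : X') (q : PrimeSpectrum (X'.presheaf.stalk x)) :
    f.base (stalkPt x q) = stalkPt (f x) (PrimeSpectrum.comap (f.stalkMap x).hom q) :=
  (congrArg (fun g : Spec (X'.presheaf.stalk x) ⟶ X => g.base q)
    (Scheme.SpecMap_stalkMap_fromSpecStalk f (x := x))).symm

/-- A member of `Cl Z` dominating, near `x`, the image of a member of `Cl (f ⁻¹ Z)`. -/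
lemma exists_cl_map_stalkIdeal_le [IsLocallyNoetherian X'] {Z : Set X}
    (hZ : StableUnderSpecialization Z) (T' : ZClos.Cl (f.base ⁻¹' Z)) (x : X') :
    ∃ T : ZClos.Cl Z, (stalkIdeal T.1 (f x)).map (f.stalkMap x).hom ≤ stalkIdeal T'.1 x := by
  classical
  let J := stalkIdeal T'.1 x
  have hfin : J.minimalPrimes.Finite := Ideal.finite_minimalPrimes_of_isNoetherianRing _ J
  have : Finite J.minimalPrimes := hfin.to_subtype
  let pt : J.minimalPrimes → X := fun q => f.base (stalkPt x ⟨q.1, q.2.1.1⟩)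
  have hcont : Continuous (stalkPt (X := X') x) := (X'.fromSpecStalk x).continuous
  have hzero : PrimeSpectrum.zeroLocus (J : Set (X'.presheaf.stalk x)) = stalkPt x ⁻¹' T'.1 :=
    (PrimeSpectrum.zeroLocus_vanishingIdeal_eq_closure _).trans
      (T'.1.isClosed.preimage hcont).closure_eq
  have hpt : ∀ q : J.minimalPrimes, pt q ∈ Z := fun q => by
    have : (⟨q.1, q.2.1.1⟩ : PrimeSpectrum (X'.presheaf.stalk x)) ∈
        PrimeSpectrum.zeroLocus (J : Set (X'.presheaf.stalk x)) := q.2.1.2
    rw [hzero] at this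
    exact T'.2 this
  let T : ZClos.Cl Z := ⟨⟨⋃ q, closure {pt q}, isClosed_iUnion_of_finite fun _ => isClosed_closure⟩, by
    refine Set.iUnion_subset fun q y hy => hZ (specializes_iff_mem_closure.mpr hy) (hpt q)⟩
  refine ⟨T, ?_⟩
  rw [Ideal.map_le_iff_le_comap]
  intro a ha
  rw [Ideal.mem_comap]
  refine (PrimeSpectrum.mem_vanishingIdeal _ _).mpr fun q hq => ?_
  have hJq : J ≤ q.asIdeal := fun b hb => (PrimeSpectrum.mem_vanishingIdeal _ _).mp hb q hq
  obtain ⟨q₀, hq₀, hle⟩ := Ideal.exists_minimalPrimes_le hJq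
  have hsp : (⟨q₀, hq₀.1.1⟩ : PrimeSpectrum (X'.presheaf.stalk x)) ⤳ q :=
    (PrimeSpectrum.le_iff_specializes _ _).mp hle
  have hmem : stalkPt (f x) (PrimeSpectrum.comap (f.stalkMap x).hom q) ∈ (T.1 : Set X) := by
    rw [← stalkPt_map f x q]
    exact Set.mem_iUnion.mpr ⟨⟨q₀, hq₀⟩,
      ((hsp.map hcont).map f.continuous).mem_closure⟩
  exact (PrimeSpectrum.mem_vanishingIdeal _ _).mp ha _ hmem

/-- The flat pullback of a quasi-coherent Z-closed module is Z-closed. -/
theorem isZClosed_pullback [IsLocallyNoetherian X] [IsLocallyNoetherian X'] [Flat f] {Z : Set X}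
    (hZ : StableUnderSpecialization Z) (M : X.Modules) [M.IsQuasicoherent]
    (h : ZClos.IsZClosed Z M) :
    ZClos.IsZClosed (f.base ⁻¹' Z) ((Scheme.Modules.pullback f).obj M) := by
  rw [StalkCrit.isZClosed_iff] at h ⊢
  intro T' x
  obtain ⟨T, hT⟩ := exists_cl_map_stalkIdeal_le f hZ T' x
  let := (f.stalkMap x).hom.toAlgebra
  let := PullStalk.Basic.moduleOver f M x
  have : IsScalarTower (X.presheaf.stalk (f x)) (X'.presheaf.stalk x)
      (((Scheme.Modules.pullback f).obj M).presheaf.stalk x) :=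
    IsScalarTower.of_algebraMap_smul fun _ _ => rfl
  have : Module.Flat (X.presheaf.stalk (f x)) (X'.presheaf.stalk x) := Flat.stalkMap f x
  exact ((h T (f x)).baseChange (PullStalk.Basic.isBaseChange_unitStalk f M x)).anti hT

/-- A map bijective on the stalk at `f x` pulls back to a map bijective on the stalk at `x`. -/
theorem stalkLin_pullback_bijective {M N : X.Modules} (φ : M ⟶ N) (x : X')
    (h : Function.Bijective (stalkLin φ (f x))) :
    Function.Bijective (stalkLin ((Scheme.Modules.pullback f).map φ) x) := by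
  let := (f.stalkMap x).hom.toAlgebra
  obtain ⟨eM, heM⟩ := FDesc.Stalk.exists_stalk_equiv f M x
  obtain ⟨eN, heN⟩ := FDesc.Stalk.exists_stalk_equiv f N x
  let φe := LinearEquiv.ofBijective (stalkLin φ (f x)) h
  let e := eM.symm ≪≫ₗ φe.baseChange (X.presheaf.stalk (f x)) (X'.presheaf.stalk x) _ _ ≪≫ₗ eN
  have hee : stalkLin ((Scheme.Modules.pullback f).map φ) x = e.toLinearMap := by
    refine PullStalk.Basic.hom_eq_of_unitStalk f _ _ fun t => ?_
    have ht : eM.symm (PullStalk.Basic.unitStalkHom f M x t) = 1 ⊗ₜ t :=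
      eM.symm_apply_eq.mpr (by rw [heM, one_smul])
    refine (FDesc.Stalk.unitStalkHom_natural f φ x t).symm.trans ?_
    change _ = eN (φe.baseChange _ _ _ _ (eM.symm (PullStalk.Basic.unitStalkHom f M x t)))
    rw [ht, LinearEquiv.baseChange_tmul, heN, one_smul]
    rfl
  rw [hee]
  exact e.bijective

/-- The Z-closure commutes with flat base change. -/
theorem pullback_H0_iso [IsLocallyNoetherian X] [IsLocallyNoetherian X'] [Flat f] {Z : Set X}
    (hZ : StableUnderSpecialization Z) (F : X.Modules) [F.IsQuasicoherent] :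
    Nonempty ((Scheme.Modules.pullback f).obj ((ZClos.H0 Z).obj F) ≅
      (ZClos.H0 (f.base ⁻¹' Z)).obj ((Scheme.Modules.pullback f).obj F)) := by
  have hZ' : StableUnderSpecialization (f.base ⁻¹' Z) := hZ.preimage f.continuous
  have := ZClosLib.isQuasicoherent_H0 Z F
  have hG := isZClosed_pullback f hZ ((ZClos.H0 Z).obj F) (ZClosLib.isZClosed_H0 Z F)
  let u := (Scheme.Modules.pullback f).map (ZClos.rhoApp Z F)
  obtain ⟨v, hv, -⟩ := ZClosLib.existsUnique_fac (f.base ⁻¹' Z) _ _ hG u
  have := ZClosLib.isIso_fac hZ' _ _ hG u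
    (fun x hx => stalkLin_pullback_bijective f (ZClos.rhoApp Z F) x
      (ZClosLib.rho_stalk_bijective Z F hx)) v hv
  exact ⟨(asIso v).symm⟩

theorem isCoh_of_iso {M N : X.Modules} (e : M ≅ N) (h : Coh.IsCoh M) : Coh.IsCoh N := by
  have : M.IsQuasicoherent := h.1
  have : N.IsQuasicoherent := QCoh.isQuasicoherent_of_iso e
  refine ⟨this, (QCoh.isFiniteType_iff N).mpr fun U hU => ?_⟩
  have := (QCoh.isFiniteType_iff M).mp h.2 U hU
  let l : Γ(M, U) →ₗ[Γ(X, U)] Γ(N, U) :=
    { toFun := e.hom.app U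
      map_add' := map_add (e.hom.app U).hom
      map_smul' := Scheme.Modules.Hom.app_smul e.hom }
  exact Module.Finite.of_surjective l ((ZClosLib.isIso_iff_app_bijective e.hom).mp inferInstance U).2

end Groth.Agent.ZClosLib.FlatBC
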