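import Mathlib.AlgebraicGeometry.Modules.Sheaf
import Mathlib.Topology.Sheaves.Skyscraper
import Mathlib.Topology.Sheaves.SheafCondition.UniqueGluing
import Mathlib.CategoryTheory.Limits.ConcreteCategory.Basic
import Mathlib.Algebra.Category.Grp.FilteredColimits
import Mathlib.Topology.QuasiSeparated
import Groth.Agent.ModShf.ToSheaf
import Groth.Agent.PullStalk.Exact

/-!
# Stalks and sections over compact opens of directed colimits of sheaves of modules
-/

universe u

open CategoryTheory CategoryTheory.Limits AlgebraicGeometry TopologicalSpace Opposite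

namespace Groth.Agent.ZClosLib.FilteredSections

open Groth.Agent.PullStalk.Sky Groth.Agent.PullStalk.Exact

variable {X : Scheme.{u}}

/-- The stalk functor on sheaves of modules, with values in abelian groups. -/
noncomputable def stalkF (x : X) : X.Modules ⥤ Ab.{u} :=
  (SheafOfModules.toSheaf X.ringCatSheaf : X.Modules ⥤ TopCat.Sheaf Ab.{u} X) ⋙
    (TopCat.Sheaf.forget Ab.{u} X ⋙ TopCat.Presheaf.stalkFunctor Ab.{u} x)

instance stalkF_preservesColimitsOfShape (x : X) (J : Type u) [SmallCategory J] :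
    PreservesColimitsOfShape J (stalkF x) := by
  classical
  have : (TopCat.Sheaf.forget Ab.{u} X ⋙ TopCat.Presheaf.stalkFunctor Ab.{u} x).IsLeftAdjoint :=
    inferInstance
  have h : PreservesColimitsOfShape J
      (TopCat.Sheaf.forget Ab.{u} X ⋙ TopCat.Presheaf.stalkFunctor Ab.{u} x) :=
    (Adjunction.ofIsLeftAdjoint
      (TopCat.Sheaf.forget Ab.{u} X ⋙ TopCat.Presheaf.stalkFunctor Ab.{u} x)).leftAdjoint_preservesColimits.{u, u}.preservesColimitsOfShape
  exact @comp_preservesColimitsOfShape _ _ _ _ _ _ _ _ _ _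
    (ModShf.toSheafPreservesColimitsOfShape X.ringCatSheaf J) h

/-- Naturality of a morphism of modules, on elements. -/
lemma app_map {M N : X.Modules} (φ : M ⟶ N) {U V : X.Opens} (i : V ⟶ U) (m : Γ(M, U)) :
    φ.app V (M.presheaf.map i.op m) = N.presheaf.map i.op (φ.app U m) :=
  NatTrans.naturality_apply φ.mapPresheaf i.op m

/-- Restriction maps compose, on elements. -/
lemma res_res {M : X.Modules} {U V W : X.Opens} (i : V ⟶ U) (j : W ⟶ V) (k : W ⟶ U) (m : Γ(M, U)) :
    M.presheaf.map j.op (M.presheaf.map i.op m) = M.presheaf.map k.op m := by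
  rw [← ConcreteCategory.comp_apply, ← Functor.map_comp, ← op_comp, Subsingleton.elim (j ≫ i) k]

variable {J : Type u} [SemilatticeSup J] [Nonempty J] {G : J ⥤ X.Modules} {c : Cocone G}

include c

/-- Every germ of a directed colimit comes from a member. -/
theorem stalk_rep (hc : IsColimit c) (x : X) (t : c.pt.presheaf.stalk x) :
    ∃ (j : J) (s : (G.obj j).presheaf.stalk x), stalkLin (c.ι.app j) x s = t :=
  Concrete.isColimit_exists_rep (G ⋙ stalkF x) (isColimitOfPreserves (stalkF x) hc) t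

/-- A germ killed in a directed colimit is killed at a finite stage. -/
theorem stalk_zero (hc : IsColimit c) (x : X) (j : J) (s : (G.obj j).presheaf.stalk x)
    (h : stalkLin (c.ι.app j) x s = 0) :
    ∃ (k : J) (f : j ⟶ k), stalkLin (G.map f) x s = 0 := by
  obtain ⟨k, f, g, e⟩ := (Concrete.isColimit_rep_eq_iff_exists (G ⋙ stalkF x)
    (isColimitOfPreserves (stalkF x) hc) (i := j) (j := j) s 0).mp
    (h.trans (map_zero (stalkLin (c.ι.app j) x)).symm)
  exact ⟨k, f, e.trans (map_zero (stalkLin (G.map g) x))⟩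

omit c [Nonempty J] in
lemma map_comp_app {i j k : J} (f : i ⟶ j) (g : j ⟶ k) (h : i ⟶ k) (V : X.Opens)
    (s : Γ(G.obj i, V)) : (G.map g).app V ((G.map f).app V s) = (G.map h).app V s := by
  rw [← ConcreteCategory.comp_apply, ← Scheme.Modules.Hom.comp_app, ← Functor.map_comp,
    Subsingleton.elim (f ≫ g) h]

omit [Nonempty J] in
lemma ι_map_app {i j : J} (f : i ⟶ j) (V : X.Opens) (s : Γ(G.obj i, V)) :
    (c.ι.app j).app V ((G.map f).app V s) = (c.ι.app i).app V s := by
  rw [← ConcreteCategory.comp_apply, ← Scheme.Modules.Hom.comp_app, c.w f]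

/-- A section over a compact open killed in a directed colimit is killed at a finite stage. -/
theorem sections_zero (hc : IsColimit c) {W : X.Opens} (hW : IsCompact (W : Set X)) (j : J)
    (s : Γ(G.obj j, W)) (h : (c.ι.app j).app W s = 0) :
    ∃ (k : J) (f : j ⟶ k), (G.map f).app W s = 0 := by
  classical
  have key : ∀ x : W, ∃ (V : X.Opens) (k : J) (f : j ⟶ k) (hV : V ≤ W), x.1 ∈ V ∧
      (G.obj k).presheaf.map (homOfLE hV).op ((G.map f).app W s) = 0 := fun x => by
    obtain ⟨k, f, hk⟩ := stalk_zero hc x.1 j (germM _ W x.1 x.2 s) (by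
      rw [stalkLin_germ, h]
      exact map_zero (c.pt.presheaf.germ W x.1 x.2).hom)
    rw [stalkLin_germ] at hk
    obtain ⟨V, hxV, iU, iV, e⟩ := (G.obj k).presheaf.germ_eq x.1 x.2 x.2 ((G.map f).app W s) 0
      (hk.trans (map_zero ((G.obj k).presheaf.germ W x.1 x.2).hom).symm)
    exact ⟨V, k, f, iU.le, hxV, e.trans (map_zero _)⟩
  choose V k f hV hxV he using key
  obtain ⟨t, ht⟩ := hW.elim_finite_subcover (fun x : W => (V x : Set X)) (fun x => (V x).isOpen)
    (fun x hx => Set.mem_iUnion.mpr ⟨⟨x, hx⟩, hxV ⟨x, hx⟩⟩)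
  obtain ⟨M, hM⟩ := Finset.exists_le (t.image k ∪ {j})
  have hjM : j ≤ M := hM j (Finset.mem_union_right _ (Finset.mem_singleton_self j))
  refine ⟨M, homOfLE hjM, TopCat.Sheaf.eq_of_locally_eq'
    ((SheafOfModules.toSheaf _).obj (G.obj M)) (fun x : t => V x.1) W (fun x => homOfLE (hV x.1))
    (fun y hy => by
      obtain ⟨x, hxt, hyx⟩ := Set.mem_iUnion₂.mp (ht hy)
      exact Opens.mem_iSup.mpr ⟨⟨x, hxt⟩, hyx⟩) _ 0 fun x => ?_⟩
  refine Eq.trans ?_ (map_zero _).symm
  have hkM : k x.1 ≤ M := hM _ (Finset.mem_union_left _ (Finset.mem_image_of_mem k x.2))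
  rw [← map_comp_app (f x.1) (homOfLE hkM) (homOfLE hjM) W s]
  refine (app_map (G.map (homOfLE hkM)) (homOfLE (hV x.1)) _).symm.trans ?_
  rw [he x.1]
  exact map_zero _

/-- A section over a compact open of a directed colimit comes from a finite stage. -/
theorem sections_rep [QuasiSeparatedSpace X] (hc : IsColimit c) {W : X.Opens}
    (hW : IsCompact (W : Set X)) (t : Γ(c.pt, W)) :
    ∃ (j : J) (s : Γ(G.obj j, W)), (c.ι.app j).app W s = t := by
  classical
  have key : ∀ x : W, ∃ (V : X.Opens) (hV : V ≤ W) (k : J) (s : Γ(G.obj k, V)),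
      IsCompact (V : Set X) ∧ x.1 ∈ V ∧
        (c.ι.app k).app V s = c.pt.presheaf.map (homOfLE hV).op t := fun x => by
    obtain ⟨k, s₀, hs₀⟩ := stalk_rep hc x.1 (germM c.pt W x.1 x.2 t)
    obtain ⟨U, hxU, s, rfl⟩ := exists_germM_eq _ x.1 s₀
    rw [stalkLin_germ] at hs₀
    obtain ⟨V', hxV', iU, iW, e⟩ := c.pt.presheaf.germ_eq x.1 hxU x.2 _ _ hs₀
    obtain ⟨_, ⟨V, hVaff, rfl⟩, hxV, hVV'⟩ :=
      X.isBasis_affineOpens.exists_subset_of_mem_open (show x.1 ∈ (V' : Set X) from hxV') V'.isOpen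
    have hVU : V ≤ U := le_trans hVV' iU.le
    refine ⟨V, le_trans hVV' iW.le, k, (G.obj k).presheaf.map (homOfLE hVU).op s,
      hVaff.isCompact, hxV, ?_⟩
    rw [app_map]
    exact (res_res iU (homOfLE (show V ≤ V' from hVV')) (homOfLE hVU) _).symm.trans
      ((congrArg (c.pt.presheaf.map (homOfLE (show V ≤ V' from hVV')).op) e).trans
        (res_res iW (homOfLE (show V ≤ V' from hVV')) _ t))
  choose V hV k s hVc hxV hs using key
  obtain ⟨t₀, ht⟩ := hW.elim_finite_subcover (fun x : W => (V x : Set X)) (fun x => (V x).isOpen)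
    (fun x hx => Set.mem_iUnion.mpr ⟨⟨x, hx⟩, hxV ⟨x, hx⟩⟩)
  have key₂ : ∀ p : t₀ × t₀, ∃ (m : J) (h₁ : k p.1.1 ≤ m) (h₂ : k p.2.1 ≤ m),
      (G.obj m).presheaf.map (homOfLE (inf_le_left : V p.1.1 ⊓ V p.2.1 ≤ V p.1.1)).op
          ((G.map (homOfLE h₁)).app _ (s p.1.1)) =
        (G.obj m).presheaf.map (homOfLE (inf_le_right : V p.1.1 ⊓ V p.2.1 ≤ V p.2.1)).op
          ((G.map (homOfLE h₂)).app _ (s p.2.1)) := fun p => by
    let m₀ := k p.1.1 ⊔ k p.2.1
    obtain ⟨m, f, hm⟩ := sections_zero hc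
      (W := V p.1.1 ⊓ V p.2.1) ((hVc p.1.1).inter_of_isOpen (hVc p.2.1) (V p.1.1).isOpen
        (V p.2.1).isOpen) m₀
      ((G.obj m₀).presheaf.map (homOfLE (inf_le_left : V p.1.1 ⊓ V p.2.1 ≤ V p.1.1)).op
          ((G.map (homOfLE le_sup_left)).app _ (s p.1.1)) -
        (G.obj m₀).presheaf.map (homOfLE (inf_le_right : V p.1.1 ⊓ V p.2.1 ≤ V p.2.1)).op
          ((G.map (homOfLE le_sup_right)).app _ (s p.2.1)))
      (by
        rw [map_sub, sub_eq_zero, app_map, app_map, ι_map_app, ι_map_app, hs, hs]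
        exact (res_res (M := c.pt) _ _ (homOfLE (inf_le_left.trans (hV p.1.1))) t).trans
          (res_res (M := c.pt) _ _ _ t).symm)
    refine ⟨m, le_sup_left.trans f.le, le_sup_right.trans f.le, ?_⟩
    rw [map_sub, sub_eq_zero, app_map, app_map, map_comp_app _ _ (homOfLE (le_sup_left.trans f.le)),
      map_comp_app _ _ (homOfLE (le_sup_right.trans f.le))] at hm
    exact hm
  choose m h₁ h₂ hm using key₂
  obtain ⟨M, hM⟩ := Finset.exists_le (t₀.image k ∪ Finset.univ.image m)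
  have hkM : ∀ x : t₀, k x.1 ≤ M := fun x =>
    hM _ (Finset.mem_union_left _ (Finset.mem_image_of_mem k x.2))
  let sf : ∀ x : t₀, Γ(G.obj M, V x.1) := fun x => (G.map (homOfLE (hkM x))).app _ (s x.1)
  have hcover : W ≤ iSup fun x : t₀ => V x.1 := fun y hy => by
    obtain ⟨x, hxt, hyx⟩ := Set.mem_iUnion₂.mp (ht hy)
    exact Opens.mem_iSup.mpr ⟨⟨x, hxt⟩, hyx⟩
  have hcomp : TopCat.Presheaf.IsCompatible (G.obj M).presheaf (fun x : t₀ => V x.1) sf := by
    intro a b
    have hmM : m (a, b) ≤ M :=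
      hM _ (Finset.mem_union_right _ (Finset.mem_image_of_mem m (Finset.mem_univ _)))
    have e := congrArg ((G.map (homOfLE hmM)).app (V a.1 ⊓ V b.1)) (hm (a, b))
    rw [app_map, app_map, map_comp_app _ _ (homOfLE (hkM a)),
      map_comp_app _ _ (homOfLE (hkM b))] at e
    exact e
  obtain ⟨g, hg, -⟩ := TopCat.Sheaf.existsUnique_gluing' ((SheafOfModules.toSheaf _).obj (G.obj M))
    (fun x : t₀ => V x.1) W (fun x => homOfLE (hV x.1)) hcover sf hcomp
  refine ⟨M, g, TopCat.Sheaf.eq_of_locally_eq' ((SheafOfModules.toSheaf _).obj c.pt)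
    (fun x : t₀ => V x.1) W (fun x => homOfLE (hV x.1)) hcover _ _ fun x => ?_⟩
  refine (app_map (c.ι.app M) (homOfLE (hV x.1)) g).symm.trans ?_
  refine (congrArg ((c.ι.app M).app (V x.1)) (hg x)).trans ?_
  exact (ι_map_app (homOfLE (hkM x)) (V x.1) (s x.1)).trans (hs x.1)

end Groth.Agent.ZClosLib.FilteredSections
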