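import Groth.Agent.ZClosLib.CohConsequences
import Mathlib.RingTheory.KrullDimension.Module

/-!
# Associated points of the Z-closure and the condition (S_2)
-/

universe u

open CategoryTheory CategoryTheory.Limits AlgebraicGeometry TopologicalSpace Opposite

namespace Groth.Agent.ZClosLib.S2

open Groth.Agent.PullStalk.Exact
open StalkCrit

variable {X : Scheme.{u}}

lemma stableUnderSpecialization_dimGe (n : ℕ) : StableUnderSpecialization (ZClos.dimGe X n) := by
  intro x y h hx
  change (n : WithBot ℕ∞) ≤ ringKrullDim (X.presheaf.stalk y)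
  refine le_trans (hx : (n : WithBot ℕ∞) ≤ ringKrullDim (X.presheaf.stalk x)) ?_
  rw [ringKrullDim_stalk_eq_coheight, ringKrullDim_stalk_eq_coheight]
  exact WithBot.coe_le_coe.mpr (Order.coheight_anti (Scheme.le_iff_specializes.mpr h))

lemma le_one_of_not_two_le {d : WithBot ℕ∞} (h : ¬ (2 : WithBot ℕ∞) ≤ d) : d ≤ 1 := by
  cases d with
  | bot => exact bot_le
  | coe a =>
    refine WithBot.coe_le_coe.mpr ?_
    have : ¬ (2 : ℕ∞) ≤ a := fun h' => h (WithBot.coe_le_coe.mpr h')
    refine ENat.forall_natCast_le_iff_le.mp fun k hk => ?_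
    by_contra hk1
    refine this (le_trans ?_ hk)
    have : 2 ≤ k := by
      have : ¬ k ≤ 1 := fun h1 => hk1 (by exact_mod_cast h1)
      omega
    exact_mod_cast this

lemma le_zero_of_le_one {d : WithBot ℕ∞} (h : d ≤ 1) (h' : d ≠ 1) : d ≤ 0 := by
  cases d with
  | bot => exact bot_le
  | coe a =>
    have h1 : a < 1 := lt_of_le_of_ne (WithBot.coe_le_coe.mp h) fun e => h' (by rw [e]; rfl)
    exact WithBot.coe_le_coe.mpr (le_of_eq (ENat.lt_one_iff_eq_zero.mp h1))

variable [IsLocallyNoetherian X]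

lemma mem_ass_of_depth_eq_zero (F : X.Modules) (hF : Coh.IsCoh F) (x : X)
    (h : LocCoh.depth (X.presheaf.stalk x) (F.presheaf.stalk x) = 0) :
    x ∈ _root_.AssSch.Ass F := by
  have := FDesc.QuasiFlat.finite_stalk_of_isCoh F hF x
  obtain ⟨p, hp, hle⟩ := Depth.idealDepth_eq_zero_iff.mp h
  exact ((IsLocalRing.maximalIdeal.isMaximal _).eq_of_le
    (Depth.isPrime_of_mem_associatedPrimes hp).ne_top hle ▸ hp :
      IsLocalRing.maximalIdeal (X.presheaf.stalk x) ∈ associatedPrimes _ _)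

lemma depth_eq_zero_of_mem_ass (F : X.Modules) (hF : Coh.IsCoh F) (x : X)
    (h : x ∈ _root_.AssSch.Ass F) :
    LocCoh.depth (X.presheaf.stalk x) (F.presheaf.stalk x) = 0 := by
  have := FDesc.QuasiFlat.finite_stalk_of_isCoh F hF x
  exact Depth.idealDepth_eq_zero_iff.mpr ⟨_, h, le_rfl⟩

/-- Outside `Z` the stalk of the Z-closure is that of the module. -/
noncomputable def stalkEquiv (Z : Set X) (F : X.Modules) {x : X} (hx : x ∉ Z) :
    F.presheaf.stalk x ≃ₗ[X.presheaf.stalk x] ((ZClos.H0 Z).obj F).presheaf.stalk x :=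
  LinearEquiv.ofBijective (stalkLin (ZClos.rhoApp Z F) x) (rho_stalk_bijective Z F hx)

theorem two_le_dim_quot {Z : Set X} (hZ : StableUnderSpecialization Z) (F : X.Modules)
    (hF : Coh.IsCoh F) (hH : Coh.IsCoh ((ZClos.H0 Z).obj F))
    (x : X) (hx : x ∈ _root_.AssSch.Ass F) (hxZ : x ∉ Z) (y : X) (hy : y ∈ Z) (h : x ⤳ y) :
    (2 : WithBot ℕ∞) ≤ ringKrullDim (X.presheaf.stalk y ⧸
      (IsLocalRing.maximalIdeal (X.presheaf.stalk x)).comap (X.presheaf.stalkSpecializes h).hom) := by
  let H := (ZClos.H0 Z).obj F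
  have : H.IsQuasicoherent := hH.1
  have : SheafOfModules.IsFiniteType.{u} H := hH.2
  have hd : (2 : ℕ∞) ≤ LocCoh.depth (X.presheaf.stalk y) (H.presheaf.stalk y) :=
    Coherent.depth_ge_two_of_isZClosed H hZ (isZClosed_H0 Z F) hy
  have hdx : LocCoh.depth (X.presheaf.stalk x) (H.presheaf.stalk x) = 0 :=
    (Depth.idealDepth_congr (stalkEquiv Z F hxZ)).symm.trans (depth_eq_zero_of_mem_ass F hF x hx)
  let q : PrimeSpectrum (X.presheaf.stalk y) :=
    PrimeSpectrum.comap (X.presheaf.stalkSpecializes h).hom (IsLocalRing.closedPoint _)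
  have hq : stalkPt y q = x := by
    have := congrArg (fun g : Spec (X.presheaf.stalk x) ⟶ X => g.base (IsLocalRing.closedPoint _))
      (Scheme.SpecMap_stalkSpecializes_fromSpecStalk h)
    exact this.trans Scheme.fromSpecStalk_closedPoint
  have hloc : LocCoh.depth (Localization.AtPrime q.asIdeal)
      (LocalizedModule q.asIdeal.primeCompl (H.presheaf.stalk y)) = 0 := by
    rw [DepthCrit.depth_localizedModule_eq H hH y q, hq, hdx]
  have := FDesc.QuasiFlat.finite_stalk_of_isCoh H hH y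
  obtain ⟨p, hp, hle⟩ := Depth.idealDepth_eq_zero_iff.mp hloc
  have hmax : IsLocalRing.maximalIdeal (Localization.AtPrime q.asIdeal) = p :=
    (IsLocalRing.maximalIdeal.isMaximal _).eq_of_le
      (Depth.isPrime_of_mem_associatedPrimes hp).ne_top hle
  have hqass : q.asIdeal ∈ associatedPrimes (X.presheaf.stalk y) (H.presheaf.stalk y) := by
    have key := Module.associatedPrimes.preimage_comap_associatedPrimes_eq_associatedPrimes_of_isLocalizedModule
      q.asIdeal.primeCompl (R' := Localization.AtPrime q.asIdeal)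
      (LocalizedModule.mkLinearMap q.asIdeal.primeCompl (H.presheaf.stalk y))
    rw [← key, Set.mem_preimage, ← hmax] at hp
    exact (congrArg (· ∈ associatedPrimes (X.presheaf.stalk y) (H.presheaf.stalk y))
      (IsLocalization.AtPrime.under_maximalIdeal (Localization.AtPrime q.asIdeal) q.asIdeal)).mp hp
  exact le_trans (WithBot.coe_le_coe.mpr hd) (Depth.depth_le_ringKrullDim_quotient hqass)

variable (F : X.Modules)

lemma s2_of_dim_lt_two (hF : Coh.IsCoh F)
    (hass : ∀ x ∈ _root_.AssSch.Ass F, ringKrullDim (X.presheaf.stalk x) ≠ 1) (x : X)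
    (hx : x ∉ ZClos.dimGe X 2) :
    min (2 : WithBot ℕ∞) (Module.supportDim (X.presheaf.stalk x) (F.presheaf.stalk x)) ≤
      ((LocCoh.depth (X.presheaf.stalk x) (F.presheaf.stalk x) : ℕ∞) : WithBot ℕ∞) := by
  have h1 : ringKrullDim (X.presheaf.stalk x) ≤ 1 := le_one_of_not_two_le hx
  refine le_trans (min_le_right _ _) ((Module.supportDim_le_ringKrullDim _ _).trans ?_)
  rcases eq_or_ne (LocCoh.depth (X.presheaf.stalk x) (F.presheaf.stalk x)) 0 with h0 | h0
  · rw [h0]
    exact le_zero_of_le_one h1 (hass x (mem_ass_of_depth_eq_zero F hF x h0))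
  · exact h1.trans (WithBot.coe_le_coe.mpr (Order.one_le_iff_pos.mpr (pos_iff_ne_zero.mpr h0)))

lemma supportDim_eq_dim (hF : Coh.IsCoh F) (hsupp : ∀ z : X, Nontrivial (F.presheaf.stalk z))
    (x : X) : Module.supportDim (X.presheaf.stalk x) (F.presheaf.stalk x) =
      ringKrullDim (X.presheaf.stalk x) := by
  have := FDesc.QuasiFlat.finite_stalk_of_isCoh F hF x
  have hs : Module.support (X.presheaf.stalk x) (F.presheaf.stalk x) = Set.univ := by
    refine Set.eq_univ_of_forall fun q => Classical.byContradiction fun hq => ?_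
    have : Subsingleton (LocalizedModule q.asIdeal.primeCompl (F.presheaf.stalk x)) :=
      Module.notMem_support_iff.mp hq
    have htop := (DepthCrit.depth_localizedModule_eq F hF x q).symm.trans
      (Depth.idealDepth_eq_top_of_subsingleton)
    have := FDesc.QuasiFlat.finite_stalk_of_isCoh F hF (stalkPt x q)
    have := hsupp (stalkPt x q)
    exact ne_top_of_lt Depth.depth_lt_top htop
  change Order.krullDim (Module.support (X.presheaf.stalk x) (F.presheaf.stalk x)) = _
  rw [hs]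
  exact Order.krullDim_eq_of_orderIso OrderIso.Set.univ

theorem s2_H0 (hF : Coh.IsCoh F)
    (hass : ∀ x ∈ _root_.AssSch.Ass F, ringKrullDim (X.presheaf.stalk x) ≠ 1)
    (hH : Coh.IsCoh ((ZClos.H0 (ZClos.dimGe X 2)).obj F)) (x : X) :
    min (2 : WithBot ℕ∞) (Module.supportDim (X.presheaf.stalk x) (((ZClos.H0 (ZClos.dimGe X 2)).obj F).presheaf.stalk x)) ≤
      ((LocCoh.depth (X.presheaf.stalk x) (((ZClos.H0 (ZClos.dimGe X 2)).obj F).presheaf.stalk x) : ℕ∞) : WithBot ℕ∞) := by
  by_cases hx : x ∈ ZClos.dimGe X 2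
  · have : ((ZClos.H0 (ZClos.dimGe X 2)).obj F).IsQuasicoherent := hH.1
    have : SheafOfModules.IsFiniteType.{u} ((ZClos.H0 (ZClos.dimGe X 2)).obj F) := hH.2
    exact le_trans (min_le_left _ _) (WithBot.coe_le_coe.mpr (Coherent.depth_ge_two_of_isZClosed _
      (stableUnderSpecialization_dimGe 2) (isZClosed_H0 _ F) hx))
  · let e := stalkEquiv (ZClos.dimGe X 2) F hx
    rw [← Module.supportDim_eq_of_equiv e, show LocCoh.depth (X.presheaf.stalk x)
      (((ZClos.H0 (ZClos.dimGe X 2)).obj F).presheaf.stalk x) = _ from (Depth.idealDepth_congr e).symm]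
    exact s2_of_dim_lt_two F hF hass x hx

theorem isOpen_s2_locus (hF : Coh.IsCoh F) (hsupp : ∀ z : X, Nontrivial (F.presheaf.stalk z))
    (hass : ∀ x ∈ _root_.AssSch.Ass F, ringKrullDim (X.presheaf.stalk x) ≠ 1)
    (hH : Coh.IsCoh ((ZClos.H0 (ZClos.dimGe X 2)).obj F)) :
    IsOpen {x : X | ∀ x' : X, x' ⤳ x →
        min (2 : WithBot ℕ∞) (Module.supportDim (X.presheaf.stalk x') (F.presheaf.stalk x')) ≤
          ((LocCoh.depth (X.presheaf.stalk x') (F.presheaf.stalk x') : ℕ∞) : WithBot ℕ∞)} ∧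
      ∀ x : X, (¬ ∀ x' : X, x' ⤳ x →
        min (2 : WithBot ℕ∞) (Module.supportDim (X.presheaf.stalk x') (F.presheaf.stalk x')) ≤
          ((LocCoh.depth (X.presheaf.stalk x') (F.presheaf.stalk x') : ℕ∞) : WithBot ℕ∞)) →
        (2 : WithBot ℕ∞) ≤ ringKrullDim (X.presheaf.stalk x) := by
  obtain ⟨U, hU, hUZ, -, -⟩ :=
    CohConsequences.exists_closed_locus (stableUnderSpecialization_dimGe 2) F hF hH
  have heq : ∀ x : X, x ∈ (U : Set X) ↔ ∀ x' : X, x' ⤳ x →
      min (2 : WithBot ℕ∞) (Module.supportDim (X.presheaf.stalk x') (F.presheaf.stalk x')) ≤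
        ((LocCoh.depth (X.presheaf.stalk x') (F.presheaf.stalk x') : ℕ∞) : WithBot ℕ∞) := fun x => by
    rw [hU]
    refine forall₂_congr fun x' _ => ?_
    by_cases hx' : x' ∈ ZClos.dimGe X 2
    · rw [supportDim_eq_dim F hF hsupp x', min_eq_left (hx' : (2 : WithBot ℕ∞) ≤ _)]
      exact ⟨fun h => WithBot.coe_le_coe.mpr (h hx'), fun h _ => WithBot.coe_le_coe.mp h⟩
    · exact iff_of_true (fun h => absurd h hx') (s2_of_dim_lt_two F hF hass x' hx')
  refine ⟨?_, fun x hx => hUZ fun hxU => hx ((heq x).mp hxU)⟩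
  convert U.isOpen using 1
  exact (Set.ext heq).symm

end Groth.Agent.ZClosLib.S2
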