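import Groth.Agent.ZClosLib.Open
import Groth.Agent.ZClosLib.DepthCrit
import Groth.Agent.ZClosLib.IsoCrit
import Groth.Agent.ZClosLib.QCoh

/-!
# The Z-closure of a coherent module: pointwise criteria
-/

universe u

open CategoryTheory CategoryTheory.Limits AlgebraicGeometry TopologicalSpace Opposite

namespace Groth.Agent.ZClosLib.Coherent

open Groth.Agent.PullStalk.Sky Groth.Agent.PullStalk.Exact
open HomIdeal StalkCrit

variable {X : Scheme.{u}} [IsLocallyNoetherian X] (Z : Set X) (F : X.Modules)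
  [F.IsQuasicoherent] [SheafOfModules.IsFiniteType.{u} F]

omit [IsLocallyNoetherian X] [F.IsQuasicoherent] [SheafOfModules.IsFiniteType.{u} F] in
lemma rho_eq (T : ZClos.Cl Z) (x : X) (s : F.presheaf.stalk x) :
    stalkLin (ZClos.rhoApp Z F) x s =
      stalkLin (colimit.ι ((ZClos.diagram Z).obj F) T) x (stalkLin (ZClos.toDiagram Z F T) x s) := by
  rw [ZClos.rhoApp_eq Z F T]
  exact stalkLin_comp _ _ x s

/-- The map to the Z-closure is injective at `x` exactly when `F` is pure at `x` along every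
member of the index. -/
theorem rho_injective_iff (x : X) :
    Function.Injective (stalkLin (ZClos.rhoApp Z F) x) ↔
      ∀ T : ZClos.Cl Z, IdealPure (stalkIdeal T.1 x) (F.presheaf.stalk x) := by
  constructor
  · intro h T
    refine (Open.unit_stalk_injective_iff x).mp fun a b hab => h ?_
    rw [rho_eq Z F T, rho_eq Z F T]
    exact congrArg _ hab
  · intro h
    rw [injective_iff_map_eq_zero]
    intro a ha
    obtain ⟨T, f, hf⟩ := FilteredSections.stalk_zero (colimit.isColimit ((ZClos.diagram Z).obj F)) x ⊥ _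
      ((rho_eq Z F ⊥ x a).symm.trans ha)
    refine (injective_iff_map_eq_zero _).mp ((Open.unit_stalk_injective_iff x).mpr (h T)) a ?_
    exact ((congrArg (fun g => stalkLin g x a) (ZClos.toDiagram_map Z F f)).symm.trans
      (stalkLin_comp _ _ x a)).trans hf

/-- A transition map is injective on stalks at points of purity. -/
lemma transition_injective {T T' : ZClos.Cl Z} (f : T ⟶ T') (x : X)
    (h : IdealPure (stalkIdeal T'.1 x) (F.presheaf.stalk x)) :
    Function.Injective (stalkLin (((ZClos.diagram Z).obj F).map f) x) := by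
  obtain ⟨V, hxV, hV⟩ := Open.exists_nhd_pure x h
  rw [injective_iff_map_eq_zero]
  intro t ht
  obtain ⟨U, hxU, s, rfl⟩ := exists_germM_eq _ x t
  rw [stalkLin_germ] at ht
  obtain ⟨U', hxU', i, _, e⟩ := (((ZClos.diagram Z).obj F).obj T').presheaf.germ_eq x hxU hxU _ 0
    (ht.trans (map_zero ((((ZClos.diagram Z).obj F).obj T').presheaf.germ U x hxU).hom).symm)
  let U'' := U' ⊓ V
  have hle : U'' ≤ U := inf_le_left.trans i.le
  have hx'' : x ∈ U'' := ⟨hxU', hxV⟩
  have hz : (((ZClos.diagram Z).obj F).map f).app U''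
      (QCoh.res (((ZClos.diagram Z).obj F).obj T) hle s) = 0 := by
    rw [QCoh.app_res, ← QCoh.res_res _ i.le (inf_le_left : U'' ≤ U')]
    exact (congrArg _ (e.trans (map_zero _))).trans (map_zero _)
  suffices hs : QCoh.res (((ZClos.diagram Z).obj F).obj T) hle s = 0 by
    rw [← AssSch.Stalk.germM_res _ hle x hx'', hs]
    exact AssSch.Stalk.germM_zero _ x _
  let s' : Γ(F, T.U.ι ''ᵁ T.U.ι ⁻¹ᵁ U'') := QCoh.res (((ZClos.diagram Z).obj F).obj T) hle s
  have hmap := (diagram_map_app Z F f U'' s').symm.trans hz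
  refine (resInf_injective T'.1 F (V := T.U.ι ''ᵁ T.U.ι ⁻¹ᵁ U'')
    fun y hy => hV y ((T.U.ι.image_preimage_le U'') hy).2) (Eq.trans ?_ (map_zero _).symm : _ = _)
  have heq : T'.U.ι ''ᵁ T'.U.ι ⁻¹ᵁ U'' = T.U.ι ''ᵁ T.U.ι ⁻¹ᵁ U'' ⊓ T'.U := by
    rw [ι_image_preimage', ι_image_preimage', inf_right_comm, inf_eq_right.mpr (ZClos.Cl.U_anti f.le)]
  have := (congrArg (F.presheaf.map (eqToHom heq.symm).op) hmap).trans
    (map_zero (F.presheaf.map (eqToHom heq.symm).op).hom)
  exact (FilteredSections.res_res (M := F) (ZClos.trIncl (ZClos.Cl.U_anti f.le) U'')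
    (eqToHom heq.symm) (homOfLE inf_le_left) s').symm.trans this

/-- The map to the Z-closure is bijective at `x` exactly when `F` is closed at `x` along every
member of the index. -/
theorem rho_bijective_iff (x : X) :
    Function.Bijective (stalkLin (ZClos.rhoApp Z F) x) ↔
      ∀ T : ZClos.Cl Z, IdealClosed (stalkIdeal T.1 x) (F.presheaf.stalk x) := by
  constructor
  · intro h T
    have hp := (rho_injective_iff Z F x).mp h.1
    have hsurj : Function.Surjective (stalkLin (ZClos.toDiagram Z F T) x) := by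
      intro t
      obtain ⟨a, ha⟩ := h.2 (stalkLin (colimit.ι ((ZClos.diagram Z).obj F) T) x t)
      rw [rho_eq Z F T] at ha
      have ha' : stalkLin ((colimit.cocone ((ZClos.diagram Z).obj F)).ι.app T) x
          (stalkLin (ZClos.toDiagram Z F T) x a - t) = 0 :=
        (map_sub _ _ _).trans (sub_eq_zero.mpr ha)
      obtain ⟨T', f, hf⟩ := FilteredSections.stalk_zero (colimit.isColimit _) x T _ ha'
      exact ⟨a, sub_eq_zero.mp ((injective_iff_map_eq_zero _).mp
        (transition_injective Z F f x (hp T')) _ hf)⟩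
    obtain ⟨V, hxV, hV⟩ := Open.exists_nhd_closed_of_surjective x (hp T) hsurj
    exact hV x hxV
  · intro h
    refine ⟨(rho_injective_iff Z F x).mpr fun T => (h T).1, fun t => ?_⟩
    obtain ⟨T, s, rfl⟩ :=
      FilteredSections.stalk_rep (colimit.isColimit ((ZClos.diagram Z).obj F)) x t
    obtain ⟨a, rfl⟩ := Open.unit_stalk_surjective x (h T) s
    exact ⟨a, rho_eq Z F T x a⟩

variable {Z} (hZ : StableUnderSpecialization Z)

/-- The member of the index given by the closure of a point of `Z`. -/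
def clPoint {y : X} (hy : y ∈ Z) : ZClos.Cl Z :=
  ⟨⟨closure {y}, isClosed_closure⟩, fun _ hz => hZ (specializes_iff_mem_closure.mpr hz) hy⟩

include hZ

theorem rho_injective_iff_depth (x : X) :
    Function.Injective (stalkLin (ZClos.rhoApp Z F) x) ↔
      ∀ y : X, y ⤳ x → y ∈ Z →
        (1 : ℕ∞) ≤ LocCoh.depth (X.presheaf.stalk y) (F.presheaf.stalk y) := by
  rw [rho_injective_iff]
  exact ⟨fun h y hyx hy =>
    (DepthCrit.idealPure_stalk_iff _ F ⟨inferInstance, inferInstance⟩ x).mp (h (clPoint hZ hy)) y hyx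
      (subset_closure rfl),
    fun h T => (DepthCrit.idealPure_stalk_iff _ F ⟨inferInstance, inferInstance⟩ x).mpr
      fun y hyx hy => h y hyx (T.2 hy)⟩

theorem rho_bijective_iff_depth (x : X) :
    Function.Bijective (stalkLin (ZClos.rhoApp Z F) x) ↔
      ∀ y : X, y ⤳ x → y ∈ Z →
        (2 : ℕ∞) ≤ LocCoh.depth (X.presheaf.stalk y) (F.presheaf.stalk y) := by
  rw [rho_bijective_iff]
  exact ⟨fun h y hyx hy =>
    (DepthCrit.idealClosed_stalk_iff _ F ⟨inferInstance, inferInstance⟩ x).mp (h (clPoint hZ hy)) y hyx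
      (subset_closure rfl),
    fun h T => (DepthCrit.idealClosed_stalk_iff _ F ⟨inferInstance, inferInstance⟩ x).mpr
      fun y hyx hy => h y hyx (T.2 hy)⟩

omit hZ

/-- A Z-closed coherent module has depth at least 2 along `Z`. -/
theorem depth_ge_two_of_isZClosed (hZ : StableUnderSpecialization Z) (h : ZClos.IsZClosed Z F)
    {x : X} (hx : x ∈ Z) :
    (2 : ℕ∞) ≤ LocCoh.depth (X.presheaf.stalk x) (F.presheaf.stalk x) :=
  (DepthCrit.idealClosed_stalk_iff _ F ⟨inferInstance, inferInstance⟩ x).mp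
    ((StalkCrit.isZClosed_iff F).mp h (clPoint hZ hx) x) x (specializes_refl x) (subset_closure rfl)

end Groth.Agent.ZClosLib.Coherent
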