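import Groth.Agent.ZClosLib.Local
import Groth.Agent.ZClosLib.FilteredSections
import Mathlib.CategoryTheory.Abelian.Basic

/-!
# The stalks of the Z-closure and its universal property
-/

universe u

open CategoryTheory CategoryTheory.Limits AlgebraicGeometry TopologicalSpace Opposite

namespace Groth.Agent.ZClosLib

open Groth.Agent.PullStalk.Sky Groth.Agent.PullStalk.Exact
open FilteredSections (app_map res_res)

variable {X : Scheme.{u}}

/-- The unit `F ⟶ j_*(F|_U)` with source displayed as `F`. -/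
noncomputable abbrev unitM (U : X.Opens) (F : X.Modules) : F ⟶ (ZClos.resPush U).obj F :=
  (ZClos.resPushUnit U).app F

/-- On stalks at points of `U` the unit `F ⟶ j_*(F|_U)` is bijective. -/
lemma unit_stalk_bijective (U : X.Opens) (F : X.Modules) (x : X) (hx : x ∈ U) :
    Function.Bijective (stalkLin (unitM U F) x) := by
  constructor
  · rw [injective_iff_map_eq_zero]
    intro a ha
    obtain ⟨V, hxV, m, rfl⟩ := exists_germM_eq F x a
    have ha' := (stalkLin_germ (unitM U F) V x hxV m).symm.trans ha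
    obtain ⟨W, hxW, iW, _, e⟩ := ((ZClos.resPush U).obj F).presheaf.germ_eq x hxV hxV _ 0
      (ha'.trans (map_zero (((ZClos.resPush U).obj F).presheaf.germ V x hxV).hom).symm)
    have hxW' : x ∈ U.ι ''ᵁ U.ι ⁻¹ᵁ W := ⟨⟨x, hx⟩, hxW, rfl⟩
    have hle : U.ι ''ᵁ U.ι ⁻¹ᵁ W ≤ V := le_trans (U.ι.image_preimage_le W) iW.le
    have e' : F.presheaf.map (homOfLE hle).op m = 0 :=
      (res_res (homOfLE (U.ι.image_preimage_le V))
        (U.ι.opensFunctor.map ((Opens.map U.ι.base).map iW)) (homOfLE hle) m).symm.trans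
        (e.trans (map_zero _))
    exact (F.presheaf.germ_res_apply (homOfLE hle) x hxW' m).symm.trans
      ((congrArg (F.presheaf.germ _ x hxW') e').trans (map_zero _))
  · intro t
    obtain ⟨V, hxV, s, rfl⟩ := exists_germM_eq ((ZClos.resPush U).obj F) x t
    have hxW : x ∈ U.ι ''ᵁ U.ι ⁻¹ᵁ V := ⟨⟨x, hx⟩, hxV, rfl⟩
    let s' : Γ(F, U.ι ''ᵁ U.ι ⁻¹ᵁ V) := s
    refine ⟨germM F (U.ι ''ᵁ U.ι ⁻¹ᵁ V) x hxW s', ?_⟩
    refine (stalkLin_germ (unitM U F) _ x hxW s').trans ?_
    refine Eq.trans ?_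
      (((ZClos.resPush U).obj F).presheaf.germ_res_apply (homOfLE (U.ι.image_preimage_le V)) x hxW s)
    exact congrArg (germM ((ZClos.resPush U).obj F) _ x hxW)
      rfl

lemma stalkLin_comp {A B C : X.Modules} (f : A ⟶ B) (g : B ⟶ C) (x : X)
    (t : A.presheaf.stalk x) : stalkLin (f ≫ g) x t = stalkLin g x (stalkLin f x t) := by
  obtain ⟨U, hx, m, rfl⟩ := exists_germM_eq A x t
  rw [stalkLin_germ, stalkLin_germ, stalkLin_germ, Scheme.Modules.Hom.comp_app]
  rfl

lemma mem_U {Z : Set X} (T : ZClos.Cl Z) {x : X} (hx : x ∉ Z) : x ∈ T.U := fun h => hx (T.2 h)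

/-- `ρ` is bijective on stalks outside `Z`. -/
theorem rho_stalk_bijective (Z : Set X) (F : X.Modules) {x : X} (hx : x ∉ Z) :
    Function.Bijective (stalkLin (ZClos.rhoApp Z F) x) := by
  have hc := colimit.isColimit ((ZClos.diagram Z).obj F)
  have hT : ∀ T : ZClos.Cl Z, ∀ s, stalkLin (ZClos.rhoApp Z F) x s =
      stalkLin (colimit.ι ((ZClos.diagram Z).obj F) T) x (stalkLin (ZClos.toDiagram Z F T) x s) :=
    fun T s => by rw [ZClos.rhoApp_eq Z F T]; exact stalkLin_comp _ _ x s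
  constructor
  · rw [injective_iff_map_eq_zero]
    intro a ha
    obtain ⟨T, f, hf⟩ := FilteredSections.stalk_zero hc x ⊥ _ ((hT ⊥ a).symm.trans ha)
    refine (injective_iff_map_eq_zero _).mp (unit_stalk_bijective T.U F x (mem_U T hx)).1 a ?_
    exact ((congrArg (fun g => stalkLin g x a) (ZClos.toDiagram_map Z F f)).symm.trans
      (stalkLin_comp _ _ x a)).trans hf
  · intro t
    obtain ⟨T, s, rfl⟩ := FilteredSections.stalk_rep hc x t
    obtain ⟨a, rfl⟩ := (unit_stalk_bijective T.U F x (mem_U T hx)).2 s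
    exact ⟨a, hT T a⟩

theorem isZClosedAt_of_not_mem (Z : Set X) (F : X.Modules) {x : X} (hx : x ∉ Z) :
    ZClos.IsZClosedAt Z F x := rho_stalk_bijective Z F hx

/-- The universal property of the Z-closure. -/
theorem existsUnique_fac (Z : Set X) (F F' : X.Modules) (hF' : ZClos.IsZClosed Z F') (u : F ⟶ F') :
    ∃! v : (ZClos.H0 Z).obj F ⟶ F', ZClos.rhoApp Z F ≫ v = u := by
  have hiso := (isZClosed_iff Z F').mp hF'
  choose g hg₁ hg₂ using fun T => (hiso T).out
  let w : ∀ T : ZClos.Cl Z, ((ZClos.diagram Z).obj F).obj T ⟶ F' := fun T =>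
    (ZClos.resPush T.U).map u ≫ g T
  have hw : ∀ T : ZClos.Cl Z, ZClos.toDiagram Z F T ≫ w T = u := fun T =>
    (Category.assoc _ _ _).symm.trans
      ((congrArg (· ≫ g T) ((ZClos.resPushUnit T.U).naturality u).symm).trans
        ((Category.assoc _ _ _).trans ((congrArg (u ≫ ·) (hg₁ T)).trans (Category.comp_id _))))
  have huniq : ∀ (T : ZClos.Cl Z) (f g : ((ZClos.diagram Z).obj F).obj T ⟶ F'),
      ZClos.toDiagram Z F T ≫ f = ZClos.toDiagram Z F T ≫ g → f = g := fun T f g h => by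
    have := hiso T
    have hn : ∀ k : ((ZClos.diagram Z).obj F).obj T ⟶ F',
        k ≫ ZClos.toDiagram Z F' T = (ZClos.resPushUnit T.U).app ((ZClos.resPush T.U).obj F) ≫
          (ZClos.resPush T.U).map k := fun k => (ZClos.resPushUnit T.U).naturality k
    rw [← cancel_mono (ZClos.toDiagram Z F' T)]
    refine resPush_hom_ext (U := T.U) (F := F) (G := F') ?_
    exact (Category.assoc _ _ _).symm.trans
      ((congrArg (· ≫ ZClos.toDiagram Z F' T) h).trans (Category.assoc _ _ _))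
  refine ⟨colimit.desc ((ZClos.diagram Z).obj F) ⟨F', ⟨w, fun T T' f => ?_⟩⟩, ?_, ?_⟩
  · refine Eq.trans ?_ (Category.comp_id _).symm
    refine huniq T _ _ ?_
    rw [← Category.assoc, ZClos.toDiagram_map Z F f]
    exact (hw T').trans (hw T).symm
  · change ZClos.rhoApp Z F ≫ _ = u
    rw [ZClos.rhoApp_eq Z F ⊥]
    exact (Category.assoc _ _ _).trans ((congrArg _ (colimit.ι_desc _ _)).trans (hw ⊥))
  · intro v hv
    refine colimit.hom_ext fun T => huniq T _ _ ?_
    refine Eq.trans ?_ ((congrArg _ (colimit.ι_desc _ _)).trans (hw T)).symm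
    refine (Category.assoc _ _ _).symm.trans ?_
    exact (congrArg (fun q : F ⟶ (ZClos.H0 Z).obj F => q ≫ v) (ZClos.rhoApp_eq Z F T).symm).trans hv

lemma ι_image_preimage' (U V : X.Opens) : U.ι ''ᵁ U.ι ⁻¹ᵁ V = U ⊓ V := ZClos.ι_image_preimage U V

/-- A section whose germs all vanish is zero. -/
lemma eq_zero_of_germ (F : X.Modules) (W : X.Opens) (s : Γ(F, W))
    (h : ∀ x (hx : x ∈ W), germM F W x hx s = 0) : s = 0 :=
  TopCat.Presheaf.section_ext ((SheafOfModules.toSheaf _).obj F) W s 0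
    fun x hx => (h x hx).trans (map_zero (F.presheaf.germ W x hx).hom).symm

/-- The support of a section is closed in its domain. -/
lemma isLocallyClosed_support (F : X.Modules) (W : X.Opens) (s : Γ(F, W)) :
    IsLocallyClosed {x : X | ∃ hx : x ∈ W, germM F W x hx s ≠ 0} := by
  refine ⟨W, {x : X | ∃ hx : x ∈ W, germM F W x hx s = 0}ᶜ, W.isOpen, ?_, ?_⟩
  · refine isClosed_compl_iff.mpr (isOpen_iff_forall_mem_open.mpr fun x ⟨hx, h0⟩ => ?_)
    obtain ⟨V, hxV, iU, iV, e⟩ := F.presheaf.germ_eq x hx hx s 0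
      (h0.trans (map_zero (F.presheaf.germ W x hx).hom).symm)
    exact ⟨V, fun y hy => ⟨iU.le hy, (F.presheaf.germ_res_apply iU y hy s).symm.trans
      ((congrArg (F.presheaf.germ V y hy) (e.trans (map_zero _))).trans (map_zero _))⟩,
      V.isOpen, hxV⟩
  · ext x
    exact ⟨fun ⟨hx, h⟩ => ⟨hx, fun ⟨_, h'⟩ => h h'⟩, fun ⟨hx, h⟩ => ⟨hx, fun h' => h ⟨hx, h'⟩⟩⟩

/-- The transition maps on sections are restrictions. -/
lemma diagram_map_app (Z : Set X) (F : X.Modules) {T T' : ZClos.Cl Z} (f : T ⟶ T') (V : X.Opens)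
    (s : Γ(((ZClos.diagram Z).obj F).obj T, V)) :
    ((((ZClos.diagram Z).obj F).map f).app V s : Γ(F, T'.U.ι ''ᵁ T'.U.ι ⁻¹ᵁ V)) =
      F.presheaf.map (ZClos.trIncl (ZClos.Cl.U_anti f.le) V).op s :=
  ConcreteCategory.congr_hom (ZClos.resPushMapApp_app (ZClos.Cl.U_anti f.le) F V) s

theorem isZero_H0_iff [IsLocallyNoetherian X] {Z : Set X} (hZ : StableUnderSpecialization Z)
    (F : X.Modules) :
    IsZero ((ZClos.H0 Z).obj F) ↔ ∀ x : X, x ∉ Z → Subsingleton (F.presheaf.stalk x) := by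
  constructor
  · intro h x hx
    have hz : ∀ t : ((ZClos.H0 Z).obj F).presheaf.stalk x, t = 0 := fun t => by
      obtain ⟨V, hxV, σ, rfl⟩ := exists_germM_eq _ x t
      have hσ : σ = 0 := congrArg (fun q => Scheme.Modules.Hom.app q V σ)
        ((IsZero.iff_id_eq_zero _).mp h)
      exact (congrArg (germM _ V x hxV) hσ).trans (map_zero _)
    exact ⟨fun a b => (rho_stalk_bijective Z F hx).1 ((hz _).trans (hz _).symm)⟩
  · intro h
    rw [IsZero.iff_id_eq_zero]
    refine colimit.hom_ext fun T => ?_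
    refine (Category.comp_id _).trans (Eq.trans ?_ comp_zero.symm)
    ext V s
    have hE := isLocallyClosed_support F (T.U.ι ''ᵁ T.U.ι ⁻¹ᵁ V) s
    have hsub : {x : X | ∃ hx : x ∈ T.U.ι ''ᵁ T.U.ι ⁻¹ᵁ V,
        germM F (T.U.ι ''ᵁ T.U.ι ⁻¹ᵁ V) x hx s ≠ 0} ⊆ Z := fun x ⟨_, hne⟩ => by
      by_contra hxZ
      exact hne (@Subsingleton.elim _ (h x hxZ) _ _)
    let T' : ZClos.Cl Z := T ⊔ clOf hZ hE hsub
    have e : (((ZClos.diagram Z).obj F).map (homOfLE (le_sup_left : T ≤ T'))).app V s = 0 := by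
      refine (diagram_map_app Z F (homOfLE (le_sup_left : T ≤ T')) V s).trans ?_
      refine eq_zero_of_germ F _ _ fun x hx => ?_
      refine (F.presheaf.germ_res_apply (ZClos.trIncl (ZClos.Cl.U_anti (le_sup_left : T ≤ T')) V) x hx
        (show Γ(F, T.U.ι ''ᵁ T.U.ι ⁻¹ᵁ V) from s)).trans ?_
      refine Classical.byContradiction fun hne => ?_
      have hxU : x ∈ T'.U := by
        obtain ⟨⟨y, hyU⟩, -, rfl⟩ := hx
        exact hyU
      exact hxU (Or.inr (subset_closure ⟨ZClos.resPush_le (ZClos.Cl.U_anti (le_sup_left : T ≤ T')) V hx, hne⟩))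
    exact (FilteredSections.ι_map_app (c := colimit.cocone ((ZClos.diagram Z).obj F))
      (homOfLE (le_sup_left : T ≤ T')) V s).symm.trans
        ((congrArg _ e).trans (map_zero _))

end Groth.Agent.ZClosLib
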