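import Groth.Agent.ZClosLib.StalkCrit
import Groth.Agent.ZClosLib.Closure
import Groth.Agent.QCoh.FiniteType
import Groth.Prelude.Def_Coh
import Mathlib.RingTheory.Noetherian.Basic
import Mathlib.Algebra.Module.FinitePresentation

/-!
# Openness of the loci of purity and closedness; the pointwise criteria
-/

universe u

open CategoryTheory CategoryTheory.Limits AlgebraicGeometry TopologicalSpace Opposite

namespace Groth.Agent.ZClosLib.Open

open Groth.Agent.PullStalk.Sky Groth.Agent.PullStalk.Exact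
open HomIdeal StalkCrit

variable {X : Scheme.{u}} {W : X.Opens} (hW : IsAffineOpen W) (T : Closeds X) (M : X.Modules)

/-- `g` kills the sections on `W` that are killed by the ideal of `T`. -/
def GoodPure (g : Γ(X, W)) : Prop :=
  ∀ m : Γ(M, W), (∀ a ∈ affineIdeal hW T, a • m = 0) → g • m = 0

/-- `g` kills the failure of `Γ(M, W) → Hom(I, Γ(M, W))` to be bijective. -/
def GoodClosed (g : Γ(X, W)) : Prop :=
  GoodPure hW T M g ∧ ∀ φ : affineIdeal hW T →ₗ[Γ(X, W)] Γ(M, W),
    ∃ m : Γ(M, W), ∀ a : affineIdeal hW T, g • φ a = (a : Γ(X, W)) • m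

omit hW T in
/-- Scalars act on `j_*(M|_U)` through restriction. -/
lemma resPush_smul (U : X.Opens) (a : Γ(X, W)) (s : Γ(M, U.ι ''ᵁ U.ι ⁻¹ᵁ W)) :
    (HSMul.hSMul (α := Γ(X, W)) (β := Γ((ZClos.resPush U).obj M, W)) a s :
      Γ(M, U.ι ''ᵁ U.ι ⁻¹ᵁ W)) =
      X.presheaf.map (homOfLE (U.ι.image_preimage_le W)).op a • s := by
  change (U.ι.appIso (U.ι ⁻¹ᵁ W)).inv (U.ι.app W a) • s = _
  simp only [Scheme.Opens.ι_appIso, Scheme.Opens.ι_app]
  rfl

/-- A section on `W ⊓ U` as a section of `j_*(M|_U)` on `W`. -/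
noncomputable def liftSec (U : X.Opens) (σ : Γ(M, W ⊓ U)) : Γ((ZClos.resPush U).obj M, W) :=
  M.presheaf.map (eqToHom (by rw [ZClos.ι_image_preimage, inf_comm] :
    U.ι ''ᵁ U.ι ⁻¹ᵁ W = W ⊓ U)).op σ

omit hW T in
lemma unit_app_eq_smul (U : X.Opens) (a : Γ(X, W)) (σ : Γ(M, W ⊓ U)) (m : Γ(M, W))
    (h : QCoh.rres (inf_le_left : W ⊓ U ≤ W) a • σ = QCoh.res M inf_le_left m) :
    (unitM U M).app W m = a • liftSec M U σ := by
  have e : U.ι ''ᵁ U.ι ⁻¹ᵁ W = W ⊓ U := by rw [ZClos.ι_image_preimage, inf_comm]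
  have key : M.presheaf.map (homOfLE (U.ι.image_preimage_le W)).op m =
      X.presheaf.map (homOfLE (U.ι.image_preimage_le W)).op a • M.presheaf.map (eqToHom e).op σ := by
    rw [show X.presheaf.map (homOfLE (U.ι.image_preimage_le W)).op a =
        X.presheaf.map (eqToHom e).op (QCoh.rres (inf_le_left : W ⊓ U ≤ W) a) from
      (QCoh.rres_rres (inf_le_left : W ⊓ U ≤ W) e.le a).symm]
    refine Eq.trans ?_ (Scheme.Modules.map_smul M _ _ σ)
    rw [h]
    exact (QCoh.res_res M (inf_le_left : W ⊓ U ≤ W) e.le m).symm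
  exact key.trans (resPush_smul M U a _).symm

variable [IsLocallyNoetherian X] [M.IsQuasicoherent] {hW T M} {x : X} (hx : x ∈ W)

/-- If finitely many sections have zero germ at `x`, a single function not vanishing at `x` kills
them. -/
lemma exists_kill {ι : Type*} [Finite ι] (hW : IsAffineOpen W) (m : ι → Γ(M, W))
    (h : ∀ i, germM M W x hx (m i) = 0) :
    ∃ g : Γ(X, W), g ∉ AssSch.Stalk.primeOf hW x hx ∧ ∀ i, g • m i = 0 := by
  classical
  have := Fintype.ofFinite ι
  choose g hg hgm using fun i => (AssSch.Stalk.germM_eq_zero_iff M hW x hx (m i)).mp (h i)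
  refine ⟨∏ i, g i, fun hp => ?_, fun i => ?_⟩
  · obtain ⟨i, -, hi⟩ := (Ideal.IsPrime.prod_mem_iff (hp := inferInstance)).mp hp
    exact hg i hi
  · rw [← Finset.prod_erase_mul Finset.univ g (Finset.mem_univ i), mul_smul, hgm, smul_zero]

lemma germ_pow_ne {g : Γ(X, W)} (hg : g ∉ AssSch.Stalk.primeOf hW x hx) :
    IsUnit (X.presheaf.germ W x hx g) :=
  (AssSch.Stalk.isUnit_germ_iff hW x hx g).mpr hg

lemma not_mem_mul {g h : Γ(X, W)} (hg : g ∉ AssSch.Stalk.primeOf hW x hx)
    (hh : h ∉ AssSch.Stalk.primeOf hW x hx) : g * h ∉ AssSch.Stalk.primeOf hW x hx :=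
  fun hm => (Ideal.IsPrime.mem_or_mem inferInstance hm).elim hg hh

/-- Purity on the stalk where a good element is invertible. -/
theorem idealPure_of_good {g : Γ(X, W)} (hgood : GoodPure hW T M g)
    (hg : g ∉ AssSch.Stalk.primeOf hW x hx) :
    IdealPure (stalkIdeal T x) (M.presheaf.stalk x) := by
  intro t ht
  obtain ⟨s, m, hs, e⟩ := AssSch.Stalk.exists_germ_smul_eq M hW x hx t
  obtain ⟨n, b, hb⟩ := Submodule.fg_iff_exists_fin_generating_family.mp
    ((isNoetherianRing hW).noetherian (affineIdeal hW T))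
  have hker : ∀ i, germM M W x hx (b i • m) = 0 := fun i => by
    rw [germM_smul, ← e, smul_comm, ht _ (map_affineIdeal_le hW T hx (Ideal.mem_map_of_mem _
      (hb ▸ Submodule.subset_span ⟨i, rfl⟩))), smul_zero]
  obtain ⟨h, hh, hh'⟩ := exists_kill hx hW _ hker
  have hann : ∀ a ∈ affineIdeal hW T, a • h • m = 0 := fun a ha => by
    rw [← hb] at ha
    induction ha using Submodule.span_induction with
    | mem a ha => obtain ⟨i, rfl⟩ := ha; rw [smul_comm]; exact hh' i
    | zero => exact zero_smul _ _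
    | add a c _ _ iha ihc => rw [add_smul, iha, ihc, add_zero]
    | smul r a _ iha => rw [smul_eq_mul, mul_smul, iha, smul_zero]
  have hz : germM M W x hx m = 0 := by
    rw [AssSch.Stalk.germM_eq_zero_iff M hW x hx]
    exact ⟨g * h, not_mem_mul hx hg hh, by rw [mul_smul]; exact hgood _ hann⟩
  exact (germ_pow_ne hx hs).smul_eq_zero.mp (e.trans hz)

/-- Closedness on the stalk where a good element is invertible. -/
theorem idealClosed_of_good {g : Γ(X, W)} (hgood : GoodClosed hW T M g)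
    (hg : g ∉ AssSch.Stalk.primeOf hW x hx) :
    IdealClosed (stalkIdeal T x) (M.presheaf.stalk x) := by
  classical
  refine ⟨idealPure_of_good hx hgood.1 hg, fun φ => ?_⟩
  have hpureI : IdealPure ((affineIdeal hW T).map (X.presheaf.germ W x hx).hom) (M.presheaf.stalk x) := by
    obtain ⟨k, hk⟩ := stalkIdeal_pow_le hW T hx
    exact (idealPure_of_good hx hgood.1 hg).of_pow_le hk
  have hNR := isNoetherianRing hW
  obtain ⟨n, b, hb⟩ := Submodule.fg_iff_exists_fin_generating_family.mp (hNR.noetherian (affineIdeal hW T))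
  obtain ⟨p, k, hk⟩ := Submodule.fg_iff_exists_fin_generating_family.mp
    (IsNoetherian.noetherian (LinearMap.ker (Fintype.linearCombination Γ(X, W) b)))
  have hbI : ∀ i, b i ∈ affineIdeal hW T := fun i => hb ▸ Submodule.subset_span ⟨i, rfl⟩
  have hbJ : ∀ i, X.presheaf.germ W x hx (b i) ∈ stalkIdeal T x := fun i =>
    map_affineIdeal_le hW T hx (Ideal.mem_map_of_mem _ (hbI i))
  choose s e hs he using fun i => AssSch.Stalk.exists_germ_smul_eq M hW x hx (φ ⟨_, hbJ i⟩)
  let S : Γ(X, W) := ∏ i, s i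
  let c : Fin n → Γ(M, W) := fun i => (∏ j ∈ Finset.univ.erase i, s j) • e i
  have hS : S ∉ AssSch.Stalk.primeOf hW x hx := fun hp => by
    obtain ⟨i, -, hi⟩ := (Ideal.IsPrime.prod_mem_iff (hp := inferInstance)).mp hp
    exact hs i hi
  have hc : ∀ i, germM M W x hx (c i) = X.presheaf.germ W x hx S • φ ⟨_, hbJ i⟩ := fun i => by
    rw [germM_smul, ← he, smul_smul, ← map_mul, Finset.prod_erase_mul _ _ (Finset.mem_univ i)]
  have hrel : ∀ j, germM M W x hx (d1 Γ(M, W) k c j) = 0 := fun j => by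
    have hj : ∑ i, k j i * b i = 0 := by
      have : k j ∈ LinearMap.ker (Fintype.linearCombination Γ(X, W) b) :=
        hk ▸ Submodule.subset_span ⟨j, rfl⟩
      simpa [Fintype.linearCombination_apply] using this
    rw [d1_apply]
    refine (map_sum (M.presheaf.germ W x hx).hom _ _).trans ?_
    change ∑ i, germM M W x hx (k j i • c i) = 0
    have hterm : ∀ i, germM M W x hx (k j i • c i) = X.presheaf.germ W x hx S •
        φ (X.presheaf.germ W x hx (k j i) • (⟨_, hbJ i⟩ : stalkIdeal T x)) := fun i => by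
      rw [germM_smul, hc i, map_smul, smul_comm]
    rw [Finset.sum_congr rfl fun i _ => hterm i, ← Finset.smul_sum, ← map_sum,
      show (∑ i, X.presheaf.germ W x hx (k j i) • (⟨_, hbJ i⟩ : stalkIdeal T x)) = 0 from
      Subtype.ext (by simp [← map_mul, ← map_sum, hj]), map_zero, smul_zero]
  obtain ⟨h, hh, hh'⟩ := exists_kill hx hW _ hrel
  have hd : d1 Γ(M, W) k (h • c) = 0 := funext fun j => by
    rw [map_smul]; exact hh' j
  obtain ⟨ψ, hψ⟩ := exists_hom_of_relations (g := b) (k := k) hb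
    (fun c hc => hk.symm ▸ (by simpa [Fintype.linearCombination_apply] using hc :
      c ∈ LinearMap.ker (Fintype.linearCombination Γ(X, W) b))) hd
  obtain ⟨m, hm⟩ := hgood.2 ψ
  obtain ⟨u, hu⟩ := germ_pow_ne hx (not_mem_mul hx (not_mem_mul hx hg hh) hS)
  let z := (↑u⁻¹ : X.presheaf.stalk x) • germM M W x hx m
  have hgen : ∀ i, φ ⟨_, hbJ i⟩ = X.presheaf.germ W x hx (b i) • z := fun i => by
    have e1 : g • (h • c i) = b i • m := by
      have := hm ⟨b i, hbI i⟩
      rwa [hψ i, Pi.smul_apply] at this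
    have e2 := congrArg (germM M W x hx) e1
    rw [germM_smul, germM_smul, hc, smul_smul, smul_smul, ← map_mul, ← map_mul, ← hu,
      germM_smul] at e2
    rw [show φ ⟨_, hbJ i⟩ = (↑u⁻¹ : X.presheaf.stalk x) • (↑u : X.presheaf.stalk x) • φ ⟨_, hbJ i⟩ by
      rw [smul_smul, Units.inv_mul, one_smul], e2, smul_comm]
  refine ⟨z, fun a => sub_eq_zero.mp (hpureI _ fun r hr => ?_)⟩
  have hr' : ∀ r' ∈ (affineIdeal hW T).map (X.presheaf.germ W x hx).hom,
      ∃ hJ : r' ∈ stalkIdeal T x, φ ⟨r', hJ⟩ = r' • z := by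
    intro r' hr'
    rw [← hb, show Submodule.span Γ(X, W) (Set.range b) = Ideal.span (Set.range b) from rfl,
      Ideal.map_span, ← Set.range_comp] at hr'
    induction hr' using Submodule.span_induction with
    | mem r hr => obtain ⟨i, rfl⟩ := hr; exact ⟨hbJ i, hgen i⟩
    | zero => exact ⟨zero_mem _, (φ.map_zero).trans (zero_smul _ _).symm⟩
    | add a c _ _ iha ihc =>
      obtain ⟨ha, ea⟩ := iha
      obtain ⟨hc, ec⟩ := ihc
      exact ⟨add_mem ha hc, (φ.map_add ⟨a, ha⟩ ⟨c, hc⟩).trans (by rw [ea, ec, add_smul])⟩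
    | smul r a _ iha =>
      obtain ⟨ha, ea⟩ := iha
      exact ⟨Submodule.smul_mem _ r ha, (φ.map_smul r ⟨a, ha⟩).trans (by rw [ea, smul_eq_mul, mul_smul])⟩
  obtain ⟨hrJ, er⟩ := hr' r hr
  rw [smul_sub, sub_eq_zero, ← map_smul,
    show r • a = (a : X.presheaf.stalk x) • (⟨r, hrJ⟩ : stalkIdeal T x) from
      Subtype.ext (mul_comm r (a : X.presheaf.stalk x)), map_smul, er, smul_comm]

variable [SheafOfModules.IsFiniteType.{u} M]

/-- Purity at `x` yields a good element. -/
theorem exists_goodPure (hW : IsAffineOpen W) (h : IdealPure (stalkIdeal T x) (M.presheaf.stalk x)) :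
    ∃ g : Γ(X, W), g ∉ AssSch.Stalk.primeOf hW x hx ∧ GoodPure hW T M g := by
  have := QCoh.finite_sections_of_isFiniteType M hW
  have := isNoetherianRing hW
  let K : Submodule Γ(X, W) Γ(M, W) := ⨅ a : affineIdeal hW T,
    LinearMap.ker (LinearMap.lsmul Γ(X, W) Γ(M, W) (a : Γ(X, W)))
  have hK : ∀ m : Γ(M, W), m ∈ K ↔ ∀ a ∈ affineIdeal hW T, a • m = 0 := fun m => by
    simp [K, Submodule.mem_iInf]
  have hz : ∀ m ∈ K, germM M W x hx m = 0 := fun m hm => by
    obtain ⟨k, hk⟩ := stalkIdeal_pow_le hW T hx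
    refine h.of_pow_le hk _ fun r hr => ?_
    rw [Ideal.map] at hr
    induction hr using Submodule.span_induction with
    | mem r hr =>
      obtain ⟨a, ha, rfl⟩ := hr
      rw [← germM_smul, (hK m).mp hm a ha]
      exact AssSch.Stalk.germM_zero M x hx
    | zero => exact zero_smul _ _
    | add a c _ _ iha ihc => rw [add_smul, iha, ihc, add_zero]
    | smul r a _ iha => rw [smul_eq_mul, mul_smul, iha, smul_zero]
  obtain ⟨n, m, hm⟩ := Submodule.fg_iff_exists_fin_generating_family.mp (IsNoetherian.noetherian K)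
  obtain ⟨g, hg, hg'⟩ := exists_kill hx hW m fun i => hz _ (hm ▸ Submodule.subset_span ⟨i, rfl⟩)
  refine ⟨g, hg, fun z hz => ?_⟩
  have hzK : z ∈ Submodule.span Γ(X, W) (Set.range m) := hm.symm ▸ (hK z).mpr hz
  clear hz
  induction hzK using Submodule.span_induction with
  | mem z hzm => obtain ⟨i, rfl⟩ := hzm; exact hg' i
  | zero => exact smul_zero _
  | add a c _ _ iha ihc => rw [smul_add, iha, ihc, add_zero]
  | smul r a _ iha => rw [smul_comm, iha, smul_zero]

/-- Purity at `x`, and every homomorphism being a multiplication at `x`, yield a good element. -/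
theorem exists_goodClosed (hW : IsAffineOpen W) (h : IdealPure (stalkIdeal T x) (M.presheaf.stalk x))
    (h₂ : ∀ φ : affineIdeal hW T →ₗ[Γ(X, W)] Γ(M, W), ∃ t : M.presheaf.stalk x,
      ∀ a : affineIdeal hW T,
        germM M W x hx (φ a) = X.presheaf.germ W x hx (a : Γ(X, W)) • t) :
    ∃ g : Γ(X, W), g ∉ AssSch.Stalk.primeOf hW x hx ∧ GoodClosed hW T M g := by
  classical
  have := QCoh.finite_sections_of_isFiniteType M hW
  have := isNoetherianRing hW
  obtain ⟨g₀, hg₀, hgood⟩ := exists_goodPure hx hW h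
  have hfin : Module.Finite Γ(X, W) (affineIdeal hW T →ₗ[Γ(X, W)] Γ(M, W)) := inferInstance
  obtain ⟨n, b, hb⟩ := Submodule.fg_iff_exists_fin_generating_family.mp
    ((isNoetherianRing hW).noetherian (affineIdeal hW T))
  have hbI : ∀ i, b i ∈ affineIdeal hW T := fun i => hb ▸ Submodule.subset_span ⟨i, rfl⟩
  have key : ∀ φ : affineIdeal hW T →ₗ[Γ(X, W)] Γ(M, W), ∃ g : Γ(X, W),
      g ∉ AssSch.Stalk.primeOf hW x hx ∧
        ∃ m : Γ(M, W), ∀ a : affineIdeal hW T, g • φ a = (a : Γ(X, W)) • m := by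
    intro φ
    obtain ⟨t, ht⟩ := h₂ φ
    obtain ⟨s, m, hs, e⟩ := AssSch.Stalk.exists_germ_smul_eq M hW x hx t
    obtain ⟨g, hg, hg'⟩ := exists_kill hx hW (fun i => s • φ ⟨b i, hbI i⟩ - b i • m) fun i => by
      refine (map_sub (M.presheaf.germ W x hx).hom _ _).trans (sub_eq_zero.mpr ?_)
      change germM M W x hx (s • φ _) = germM M W x hx (b i • m)
      rw [germM_smul, germM_smul, ht, smul_comm, e]
    refine ⟨g * s, not_mem_mul hx hg hs, g • m, fun a => ?_⟩
    obtain ⟨a, ha⟩ := a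
    have ha' : a ∈ Submodule.span Γ(X, W) (Set.range b) := hb.symm ▸ ha
    induction ha' using Submodule.span_induction with
    | mem a ha' =>
      obtain ⟨i, rfl⟩ := ha'
      have := hg' i
      rw [smul_sub, sub_eq_zero] at this
      rw [mul_smul, this, smul_comm]
    | zero => exact ((congrArg _ φ.map_zero).trans (smul_zero _)).trans (zero_smul _ _).symm
    | add a c ha₁ hc₁ iha ihc =>
      exact ((congrArg ((g * s) • ·) (φ.map_add ⟨a, hb ▸ ha₁⟩ ⟨c, hb ▸ hc₁⟩)).trans
        ((smul_add _ _ _).trans (congrArg₂ (· + ·) (iha (hb ▸ ha₁)) (ihc (hb ▸ hc₁))))).trans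
          (add_smul a c (g • m)).symm
    | smul r a ha₁ iha =>
      exact ((congrArg ((g * s) • ·) (φ.map_smul r ⟨a, hb ▸ ha₁⟩)).trans
        ((smul_comm _ _ _).trans (congrArg (r • ·) (iha (hb ▸ ha₁))))).trans
          (mul_smul r a (g • m)).symm
  obtain ⟨p, φs, hφs⟩ := Submodule.fg_iff_exists_fin_generating_family.mp hfin.1
  choose g hg m hm using fun j => key (φs j)
  refine ⟨g₀ * ∏ j, g j, not_mem_mul hx hg₀ fun hp => ?_, fun z hz => ?_, fun φ => ?_⟩
  · obtain ⟨j, -, hj⟩ := (Ideal.IsPrime.prod_mem_iff (hp := inferInstance)).mp hp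
    exact hg j hj
  · rw [mul_comm, mul_smul, hgood z hz, smul_zero]
  · have hφ : φ ∈ Submodule.span Γ(X, W) (Set.range φs) := hφs.symm ▸ trivial
    induction hφ using Submodule.span_induction with
    | mem φ hφ =>
      obtain ⟨j, rfl⟩ := hφ
      refine ⟨(g₀ * ∏ i ∈ Finset.univ.erase j, g i) • m j, fun a => ?_⟩
      rw [smul_comm (a : Γ(X, W)), ← hm, ← Finset.prod_erase_mul Finset.univ g (Finset.mem_univ j),
        ← mul_assoc, mul_smul]
    | zero => exact ⟨0, fun a => by simp⟩
    | add φ ψ _ _ iha ihc =>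
      obtain ⟨m₁, h₁⟩ := iha
      obtain ⟨m₂, h₂⟩ := ihc
      exact ⟨m₁ + m₂, fun a => by rw [LinearMap.add_apply, smul_add, h₁, h₂, smul_add]⟩
    | smul r φ _ iha =>
      obtain ⟨m₁, h₁⟩ := iha
      exact ⟨r • m₁, fun a => by rw [LinearMap.smul_apply, smul_comm, h₁, smul_comm]⟩

omit hx

/-- Purity at a point spreads to a neighbourhood. -/
theorem exists_nhd_pure (x : X) (h : IdealPure (stalkIdeal T x) (M.presheaf.stalk x)) :
    ∃ V : X.Opens, x ∈ V ∧ ∀ z ∈ V, IdealPure (stalkIdeal T z) (M.presheaf.stalk z) := by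
  obtain ⟨W, hW, hx, -⟩ := exists_isAffineOpen_mem_and_subset (Opens.mem_top x)
  obtain ⟨g, hg, hgood⟩ := exists_goodPure hx hW h
  exact ⟨X.basicOpen g, (AssSch.Stalk.mem_basicOpen_iff hW x hx g).mpr hg, fun z hz =>
    idealPure_of_good (X.basicOpen_le g hz) hgood
      ((AssSch.Stalk.mem_basicOpen_iff hW z (X.basicOpen_le g hz) g).mp hz)⟩

/-- The stalk of the unit is injective exactly at the points of purity. -/
theorem unit_stalk_injective_iff (x : X) :
    Function.Injective (stalkLin (unitM T.compl M) x) ↔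
      IdealPure (stalkIdeal T x) (M.presheaf.stalk x) := by
  constructor
  · intro hinj t ht
    obtain ⟨W, hW, hx, -⟩ := exists_isAffineOpen_mem_and_subset (Opens.mem_top x)
    obtain ⟨s, m, hs, e⟩ := AssSch.Stalk.exists_germ_smul_eq M hW x hx t
    obtain ⟨n, b, hb⟩ := Submodule.fg_iff_exists_fin_generating_family.mp
      ((isNoetherianRing hW).noetherian (affineIdeal hW T))
    obtain ⟨h, hh, hh'⟩ := exists_kill hx hW (fun i => b i • m) fun i => by
      rw [germM_smul, ← e, smul_comm, ht _ (map_affineIdeal_le hW T hx (Ideal.mem_map_of_mem _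
        (hb ▸ Submodule.subset_span ⟨i, rfl⟩))), smul_zero]
    have hann : ∀ a ∈ affineIdeal hW T, a • h • m = 0 := fun a ha => by
      rw [← hb] at ha
      induction ha using Submodule.span_induction with
      | mem a ha => obtain ⟨i, rfl⟩ := ha; rw [smul_comm]; exact hh' i
      | zero => exact zero_smul _ _
      | add a c _ _ iha ihc => rw [add_smul, iha, ihc, add_zero]
      | smul r a _ iha => rw [smul_eq_mul, mul_smul, iha, smul_zero]
    have hres : resInf M T.compl W (h • m) = 0 :=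
      QCoh.eq_zero_of_locally_eq_zero M (U := fun a : affineIdeal hW T => X.basicOpen (a : Γ(X, W)))
        (fun a => basicOpen_le_compl hW T a.2) (le_iSup_basicOpen hW T) _ fun a => by
          rw [QCoh.res_res]
          have e := congrArg (QCoh.res M (X.basicOpen_le (a : Γ(X, W)))) (hann a a.2)
          rw [QCoh.res_smul, map_zero] at e
          exact (isUnit_rres (a : Γ(X, W)) le_rfl (X.basicOpen_le _)).smul_eq_zero.mp e
    have hz : germM M W x hx (h • m) = 0 := by
      refine hinj (((stalkLin_germ (unitM T.compl M) W x hx (h • m)).trans ?_).trans (map_zero _).symm)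
      refine (congrArg (germM _ W x hx) (?_ : (unitM T.compl M).app W (h • m) = 0)).trans (map_zero _)
      change ((ZClos.resPushUnit T.compl).app M).app W (h • m) = 0
      rw [unit_app_eq]
      exact (congrArg _ hres).trans (map_zero (M.presheaf.map (eqToHom _).op).hom)
    rw [germM_smul, ← e, smul_smul, ← map_mul] at hz
    exact (germ_pow_ne hx (not_mem_mul hx hh hs)).smul_eq_zero.mp hz
  · intro h
    obtain ⟨V, hxV, hV⟩ := exists_nhd_pure x h
    rw [injective_iff_map_eq_zero]
    intro t ht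
    obtain ⟨U, hxU, m, rfl⟩ := exists_germM_eq M x t
    have ht' := (stalkLin_germ (unitM T.compl M) U x hxU m).symm.trans ht
    obtain ⟨V', hxV', i, _, e⟩ := ((ZClos.resPush T.compl).obj M).presheaf.germ_eq x hxU hxU _ 0
      (ht'.trans (map_zero (((ZClos.resPush T.compl).obj M).presheaf.germ U x hxU).hom).symm)
    have hle : V' ⊓ V ≤ U := inf_le_left.trans i.le
    have hz : (unitM T.compl M).app (V' ⊓ V) (QCoh.res M hle m) = 0 := by
      rw [QCoh.app_res, ← QCoh.res_res _ i.le (inf_le_left : V' ⊓ V ≤ V')]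
      exact (congrArg _ (e.trans (map_zero _))).trans (map_zero _)
    have hinj : Function.Injective ((unitM T.compl M).app (V' ⊓ V)) := by
      change Function.Injective (((ZClos.resPushUnit T.compl).app M).app (V' ⊓ V))
      rw [unit_app_eq]
      exact (ConcreteCategory.bijective_of_isIso (M.presheaf.map (eqToHom _).op)).1.comp
        (resInf_injective T M fun y hy => hV y hy.2)
    rw [← AssSch.Stalk.germM_res M hle x ⟨hxV', hxV⟩, hinj (hz.trans (map_zero _).symm)]
    exact AssSch.Stalk.germM_zero M x _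

/-- If `M` is pure at `x`, a bijective stalk of the unit gives closedness at `x`. -/
theorem exists_nhd_closed_of_surjective (x : X) (h : IdealPure (stalkIdeal T x) (M.presheaf.stalk x))
    (hsurj : Function.Surjective (stalkLin (unitM T.compl M) x)) :
    ∃ V : X.Opens, x ∈ V ∧ ∀ z ∈ V, IdealClosed (stalkIdeal T z) (M.presheaf.stalk z) := by
  obtain ⟨W, hW, hx, -⟩ := exists_isAffineOpen_mem_and_subset (Opens.mem_top x)
  have h₂ : ∀ φ : affineIdeal hW T →ₗ[Γ(X, W)] Γ(M, W), ∃ t : M.presheaf.stalk x,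
      ∀ a : affineIdeal hW T, germM M W x hx (φ a) = X.presheaf.germ W x hx (a : Γ(X, W)) • t := by
    intro φ
    obtain ⟨σ, hσ⟩ := exists_section_of_hom hW T M φ
    obtain ⟨t, ht⟩ := hsurj (germM _ W x hx (liftSec M T.compl σ))
    refine ⟨t, fun a => (unit_stalk_injective_iff x).mpr h ?_⟩
    rw [map_smul, ht, ← germM_smul, stalkLin_germ]
    exact congrArg _ (unit_app_eq_smul M T.compl _ σ (φ a) (hσ a))
  obtain ⟨g, hg, hgood⟩ := exists_goodClosed hx hW h h₂
  exact ⟨X.basicOpen g, (AssSch.Stalk.mem_basicOpen_iff hW x hx g).mpr hg, fun z hz =>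
    idealClosed_of_good (X.basicOpen_le g hz) hgood
      ((AssSch.Stalk.mem_basicOpen_iff hW z (X.basicOpen_le g hz) g).mp hz)⟩

/-- Closedness at a point spreads to a neighbourhood. -/
theorem exists_nhd_closed (x : X) (h : IdealClosed (stalkIdeal T x) (M.presheaf.stalk x)) :
    ∃ V : X.Opens, x ∈ V ∧ ∀ z ∈ V, IdealClosed (stalkIdeal T z) (M.presheaf.stalk z) := by
  obtain ⟨W, hW, hx, -⟩ := exists_isAffineOpen_mem_and_subset (Opens.mem_top x)
  let := (X.presheaf.germ W x hx).hom.toAlgebra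
  let : Module Γ(X, W) (M.presheaf.stalk x) := Module.compHom _ (X.presheaf.germ W x hx).hom
  have : IsScalarTower Γ(X, W) (X.presheaf.stalk x) (M.presheaf.stalk x) :=
    IsScalarTower.of_algebraMap_smul fun _ _ => rfl
  have : IsLocalization.AtPrime (X.presheaf.stalk x) (AssSch.Stalk.primeOf hW x hx) :=
    hW.isLocalization_stalk ⟨x, hx⟩
  have hloc := AssSch.Stalk.isLocalizedModule_germLinear M hW x hx
  let S := (AssSch.Stalk.primeOf hW x hx).primeCompl
  obtain ⟨k, hk⟩ := stalkIdeal_pow_le hW T hx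
  have hclosed : IdealClosed ((affineIdeal hW T).map (algebraMap Γ(X, W) (X.presheaf.stalk x)))
      (M.presheaf.stalk x) := h.of_pow_le hk
  obtain ⟨g, hg, hgood⟩ := exists_goodClosed hx hW h.1 fun φ => by
    obtain ⟨μ, hμ⟩ := hclosed.2
      ((IsLocalizedModule.map S (Algebra.idealMap (X.presheaf.stalk x) (affineIdeal hW T))
        (AssSch.Stalk.germLinear M x hx) φ).extendScalarsOfIsLocalization S _)
    refine ⟨μ, fun a => ?_⟩
    refine Eq.trans ?_ (hμ (Algebra.idealMap _ _ a))
    exact (IsLocalizedModule.map_apply S (Algebra.idealMap (X.presheaf.stalk x) (affineIdeal hW T))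
      (AssSch.Stalk.germLinear M x hx) φ a).symm
  exact ⟨X.basicOpen g, (AssSch.Stalk.mem_basicOpen_iff hW x hx g).mpr hg, fun z hz =>
    idealClosed_of_good (X.basicOpen_le g hz) hgood
      ((AssSch.Stalk.mem_basicOpen_iff hW z (X.basicOpen_le g hz) g).mp hz)⟩

/-- Closedness at a point makes the stalk of the unit surjective. -/
theorem unit_stalk_surjective (x : X) (h : IdealClosed (stalkIdeal T x) (M.presheaf.stalk x)) :
    Function.Surjective (stalkLin (unitM T.compl M) x) := by
  obtain ⟨V, hxV, hV⟩ := exists_nhd_closed x h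
  intro t
  obtain ⟨U, hxU, s, rfl⟩ := exists_germM_eq ((ZClos.resPush T.compl).obj M) x t
  have hsurj : Function.Surjective ((unitM T.compl M).app (U ⊓ V)) := by
    change Function.Surjective (((ZClos.resPushUnit T.compl).app M).app (U ⊓ V))
    rw [unit_app_eq]
    exact (ConcreteCategory.bijective_of_isIso (M.presheaf.map (eqToHom _).op)).2.comp
      (resInf_bijective T M (V := U ⊓ V) fun y hy => hV y hy.2).2
  obtain ⟨m, hm⟩ := hsurj (QCoh.res _ inf_le_left s)
  refine ⟨germM M (U ⊓ V) x ⟨hxU, hxV⟩ m, ?_⟩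
  exact (stalkLin_germ (unitM T.compl M) (U ⊓ V) x ⟨hxU, hxV⟩ m).trans ((congrArg _ hm).trans
    (AssSch.Stalk.germM_res ((ZClos.resPush T.compl).obj M) inf_le_left x ⟨hxU, hxV⟩ s))

end Groth.Agent.ZClosLib.Open
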