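import Groth.Prelude.Def_EGA4b
import Mathlib.RingTheory.Noetherian.Basic
import Mathlib.RingTheory.Ideal.AssociatedPrime.Basic
import Mathlib.RingTheory.Ideal.AssociatedPrime.Localization
import Mathlib.RingTheory.Ideal.AssociatedPrime.Finiteness
import Mathlib.RingTheory.Ideal.Height
import Mathlib.RingTheory.Spectrum.Prime.Basic
import Mathlib.RingTheory.Finiteness.Ideal
import Mathlib.Algebra.Module.Torsion.Basic
import Mathlib.LinearAlgebra.LinearIndependent.Lemmas

/-!
Finiteness of the closure of a module along a family of ideals: homomorphisms out of ideals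
supported in `Z` all extend to one fixed such ideal.
-/

set_option autoImplicit false

namespace Groth.Agent.ZClosLib.HullModule

universe u v

variable {A : Type u} [CommRing A]

/-- The ideal has zero locus inside `Z`. -/
def Supp (Z : Set (PrimeSpectrum A)) (I : Ideal A) : Prop :=
  PrimeSpectrum.zeroLocus (I : Set A) ⊆ Z

theorem supp_top (Z : Set (PrimeSpectrum A)) : Supp Z (⊤ : Ideal A) := by
  rw [Supp, Submodule.top_coe, PrimeSpectrum.zeroLocus_univ]
  exact Set.empty_subset Z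

theorem supp_inf {Z : Set (PrimeSpectrum A)} {I J : Ideal A} (hI : Supp Z I) (hJ : Supp Z J) :
    Supp Z (I ⊓ J) := by
  rw [Supp, PrimeSpectrum.zeroLocus_inf]
  exact Set.union_subset hI hJ

theorem supp_not_le {Z : Set (PrimeSpectrum A)} {I : Ideal A} (hI : Supp Z I) (x : PrimeSpectrum A)
    (hx : x ∉ Z) : ∃ a ∈ I, a ∉ x.asIdeal :=
  Set.not_subset.1 fun h => hx (hI h)

/-- No nonzero element is killed by an ideal supported in `Z`. -/
def Pure (Z : Set (PrimeSpectrum A)) (M : Type v) [AddCommGroup M] [Module A M] : Prop :=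
  ∀ I : Ideal A, Supp Z I → ∀ m : M, (∀ a ∈ I, a • m = 0) → m = 0

/-- Every homomorphism on an ideal supported in `Z` extends to a fixed such ideal. -/
def Extends (Z : Set (PrimeSpectrum A)) (M : Type v) [AddCommGroup M] [Module A M] : Prop :=
  ∃ I₀ : Ideal A, Supp Z I₀ ∧ ∀ I : Ideal A, Supp Z I → ∀ φ : I →ₗ[A] M,
    ∃ ψ : I₀ →ₗ[A] M, ∀ (x : A) (h₀ : x ∈ I₀) (h : x ∈ I), ψ ⟨x, h₀⟩ = φ ⟨x, h⟩

variable {Z : Set (PrimeSpectrum A)} {M : Type v} [AddCommGroup M] [Module A M]

theorem eq_of_agree (hM : Pure Z M) {I J : Ideal A} (hI : Supp Z I) {ψ ψ' : J →ₗ[A] M}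
    (h : ∀ (x : A) (hJ : x ∈ J), x ∈ I → ψ ⟨x, hJ⟩ = ψ' ⟨x, hJ⟩) : ψ = ψ' := by
  refine LinearMap.ext fun b => sub_eq_zero.1 (hM I hI _ fun a ha => ?_)
  rw [smul_sub, ← map_smul, ← map_smul, sub_eq_zero]
  exact h (a * b) (J.mul_mem_left a b.2) (I.mul_mem_right _ ha)

theorem exists_extendMap (hM : Pure Z M) {I₀ : Ideal A}
    (hext : ∀ I : Ideal A, Supp Z I → ∀ φ : I →ₗ[A] M,
      ∃ ψ : I₀ →ₗ[A] M, ∀ (x : A) (h₀ : x ∈ I₀) (h : x ∈ I), ψ ⟨x, h₀⟩ = φ ⟨x, h⟩)
    (I : Ideal A) (hI : Supp Z I) :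
    ∃ E : (I →ₗ[A] M) →ₗ[A] (I₀ →ₗ[A] M), ∀ (φ : I →ₗ[A] M) (x : A) (h₀ : x ∈ I₀) (h : x ∈ I),
      E φ ⟨x, h₀⟩ = φ ⟨x, h⟩ := by
  choose E hE using hext I hI
  exact ⟨{
    toFun := E
    map_add' := fun φ φ' => eq_of_agree hM hI fun x h₀ h => by
      rw [LinearMap.add_apply, hE _ x h₀ h, hE _ x h₀ h, hE _ x h₀ h, LinearMap.add_apply]
    map_smul' := fun r φ => eq_of_agree hM hI fun x h₀ h => by
      rw [RingHom.id_apply, LinearMap.smul_apply, hE _ x h₀ h, hE _ x h₀ h, LinearMap.smul_apply] }, hE⟩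

/-- Stabilisation from injective compatible evaluations into a Noetherian module. -/
theorem extends_of_eval {N : Type*} [AddCommGroup N] [Module A N] [IsNoetherian A N]
    (ev : ∀ I : Ideal A, Supp Z I → ((I →ₗ[A] M) →ₗ[A] N))
    (hinj : ∀ I hI, Function.Injective (ev I hI))
    (hcomp : ∀ (I J : Ideal A) (hI : Supp Z I) (hJ : Supp Z J) (hle : J ≤ I) (φ : I →ₗ[A] M),
      ev J hJ (φ ∘ₗ Submodule.inclusion hle) = ev I hI φ) : Extends Z M := by
  obtain ⟨_, ⟨I₀, hI₀, rfl⟩, hmax⟩ := set_has_maximal_iff_noetherian.2 ‹IsNoetherian A N›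
    {S | ∃ I hI, S = LinearMap.range (ev I hI)} ⟨_, ⊤, supp_top Z, rfl⟩
  refine ⟨I₀, hI₀, fun I hI φ => ?_⟩
  have hJ := supp_inf hI hI₀
  have hle : LinearMap.range (ev I₀ hI₀) ≤ LinearMap.range (ev (I ⊓ I₀) hJ) := by
    rintro _ ⟨ψ, rfl⟩
    exact ⟨_, hcomp I₀ _ hI₀ hJ inf_le_right ψ⟩
  have heq : LinearMap.range (ev I₀ hI₀) = LinearMap.range (ev (I ⊓ I₀) hJ) :=
    eq_of_le_of_not_lt hle (hmax _ ⟨_, hJ, rfl⟩)
  have : ev I hI φ ∈ LinearMap.range (ev I₀ hI₀) :=
    heq ▸ ⟨_, hcomp I _ hI hJ inf_le_left φ⟩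
  obtain ⟨ψ, hψ⟩ := this
  refine ⟨ψ, fun x h₀ h => ?_⟩
  have := hinj _ hJ ((hcomp I₀ _ hI₀ hJ inf_le_right ψ).trans
    (hψ.trans (hcomp I _ hI hJ inf_le_left φ).symm))
  exact DFunLike.congr_fun this ⟨x, h, h₀⟩

theorem extends_of_subsingleton (Z : Set (PrimeSpectrum A)) [Subsingleton M] : Extends Z M :=
  ⟨⊤, supp_top Z, fun _ _ _ => ⟨0, fun _ _ _ => Subsingleton.elim _ _⟩⟩

theorem extends_pi {ι : Type*} [Finite ι] {N : ι → Type*} [∀ i, AddCommGroup (N i)]
    [∀ i, Module A (N i)] (h : ∀ i, Extends Z (N i)) : Extends Z (∀ i, N i) := by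
  classical
  haveI := Fintype.ofFinite ι
  choose J hJ hext using h
  have hs : ∀ s : Finset ι, Supp Z (s.inf J) := fun s => by
    induction s using Finset.induction_on with
    | empty => simpa using supp_top Z
    | insert i s _ ih => simpa [Finset.inf_insert] using supp_inf (hJ i) ih
  refine ⟨Finset.univ.inf J, hs _, fun I hI φ => ?_⟩
  choose ψ hψ using fun i => hext i I hI (LinearMap.proj i ∘ₗ φ)
  refine ⟨LinearMap.pi fun i => ψ i ∘ₗ Submodule.inclusion (Finset.inf_le (Finset.mem_univ i)),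
    fun x h₀ h => ?_⟩
  funext i
  exact hψ i x _ h

theorem pure_pi {ι : Type*} {N : ι → Type*} [∀ i, AddCommGroup (N i)] [∀ i, Module A (N i)]
    (h : ∀ i, Pure Z (N i)) : Pure Z (∀ i, N i) :=
  fun I hI m hm => funext fun i => h i I hI _ fun a ha => congrFun (hm a ha) i

/-- Extensions. -/
theorem extends_of_exact [IsNoetherianRing A] {M' M'' : Type*} [AddCommGroup M'] [Module A M']
    [AddCommGroup M''] [Module A M''] [Module.Finite A M''] (f : M' →ₗ[A] M) (g : M →ₗ[A] M'')
    (hf : Function.Injective f) (hfg : Function.Exact f g) (h' : Extends Z M')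
    (h'' : Extends Z M'') (hp : Pure Z M'') : Extends Z M := by
  obtain ⟨J'', hJ'', hext''⟩ := h''
  obtain ⟨J', hJ', hext'⟩ := h'
  choose E hE using exists_extendMap hp hext''
  let R : ∀ I : Ideal A, Supp Z I → Submodule A (J'' →ₗ[A] M'') := fun I hI =>
    LinearMap.range ((E I hI) ∘ₗ LinearMap.compRight A g)
  haveI : Module.Finite A J'' := Module.Finite.iff_fg.2 (IsNoetherian.noetherian _)
  obtain ⟨_, ⟨I₁, hI₁, rfl⟩, hmax⟩ := set_has_maximal_iff_noetherian.2
    (inferInstance : IsNoetherian A (J'' →ₗ[A] M'')) {S | ∃ I hI, S = R I hI}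
    ⟨_, ⊤, supp_top Z, rfl⟩
  refine ⟨I₁ ⊓ J', supp_inf hI₁ hJ', fun I hI φ => ?_⟩
  have hJ := supp_inf hI hI₁
  have hres : ∀ (K : Ideal A) (hK : Supp Z K) (hle : I ⊓ I₁ ≤ K) (χ : K →ₗ[A] M),
      E (I ⊓ I₁) hJ (g ∘ₗ (χ ∘ₗ Submodule.inclusion hle)) = E K hK (g ∘ₗ χ) := by
    intro K hK hle χ
    refine eq_of_agree hp hJ fun x h₀ h => ?_
    rw [hE (I ⊓ I₁) hJ _ x h₀ h, hE K hK _ x h₀ (hle h)]
    rfl
  have hle : R I₁ hI₁ ≤ R (I ⊓ I₁) hJ := by
    rintro _ ⟨χ, rfl⟩
    exact ⟨_, hres I₁ hI₁ inf_le_right χ⟩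
  have heq : R I₁ hI₁ = R (I ⊓ I₁) hJ := eq_of_le_of_not_lt hle (hmax _ ⟨_, hJ, rfl⟩)
  obtain ⟨φ₁, hφ₁⟩ : E I hI (g ∘ₗ φ) ∈ R I₁ hI₁ := heq ▸ ⟨_, hres I hI inf_le_left φ⟩
  let δ : (I ⊓ I₁ : Ideal A) →ₗ[A] M :=
    φ ∘ₗ Submodule.inclusion inf_le_left - φ₁ ∘ₗ Submodule.inclusion inf_le_right
  have hδ : g ∘ₗ δ = 0 := by
    refine eq_of_agree hp hJ'' fun x h h'' => ?_
    have e := DFunLike.congr_fun hφ₁ ⟨x, h''⟩
    rw [LinearMap.comp_apply, hE I₁ hI₁ _ x h'' h.2, hE I hI _ x h'' h.1] at e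
    show g (φ ⟨x, h.1⟩ - φ₁ ⟨x, h.2⟩) = 0
    rw [map_sub, sub_eq_zero]
    exact e.symm
  have hmem : ∀ x, δ x ∈ LinearMap.range f := fun x =>
    hfg.linearMap_ker_eq ▸ (show δ x ∈ LinearMap.ker g from DFunLike.congr_fun hδ x)
  let e := LinearEquiv.ofInjective f hf
  obtain ⟨ψ', hψ'⟩ := hext' (I ⊓ I₁) hJ (e.symm.toLinearMap ∘ₗ δ.codRestrict _ hmem)
  refine ⟨φ₁ ∘ₗ Submodule.inclusion inf_le_left + f ∘ₗ ψ' ∘ₗ Submodule.inclusion inf_le_right,
    fun x h₀ h => ?_⟩
  show φ₁ ⟨x, h₀.1⟩ + f (ψ' ⟨x, h₀.2⟩) = φ ⟨x, h⟩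
  rw [hψ' x h₀.2 ⟨h, h₀.1⟩]
  show _ + f (e.symm _) = _
  rw [← LinearEquiv.ofInjective_apply (h := hf), LinearEquiv.apply_symm_apply]
  exact add_sub_cancel _ _

theorem extends_of_injective [IsNoetherianRing A] {N : Type*} [AddCommGroup N] [Module A N]
    [Module.Finite A N] (g : M →ₗ[A] N) (hg : Function.Injective g) (h : Extends Z N)
    (hp : Pure Z N) : Extends Z M :=
  extends_of_exact (M' := PUnit.{1}) 0 g (fun _ _ _ => rfl)
    (fun m => ⟨fun hm => ⟨0, (hg (hm.trans (map_zero g).symm)).symm⟩,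
      fun ⟨_, hx⟩ => hx ▸ map_zero g⟩)
    (extends_of_subsingleton Z) h hp

section Domain

variable (p : Ideal A) [p.IsPrime]

theorem pure_of_injective_smul (hp : (⟨p, inferInstance⟩ : PrimeSpectrum A) ∉ Z)
    (hinj : ∀ a ∉ p, ∀ m : M, a • m = 0 → m = 0) : Pure Z M := by
  intro I hI m hm
  obtain ⟨a, ha, hap⟩ := supp_not_le hI _ hp
  exact hinj a hap m (hm a ha)

theorem quotient_smul_eq_zero {a : A} (ha : a ∉ p) (m : A ⧸ p) (h : a • m = 0) : m = 0 := by
  rw [Algebra.smul_def, mul_eq_zero, Ideal.Quotient.algebraMap_eq,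
    Ideal.Quotient.eq_zero_iff_mem] at h
  exact h.resolve_left ha

theorem extends_quotient [IsNoetherianRing A] (hp : (⟨p, inferInstance⟩ : PrimeSpectrum A) ∉ Z)
    (hfin : EGA4.HeightOneHullFinite (A ⧸ p))
    (hcodim : ∀ y ∈ Z, p ≤ y.asIdeal → (2 : ℕ∞) ≤ (y.asIdeal.map (Ideal.Quotient.mk p)).height) :
    Extends Z (A ⧸ p) := by
  obtain ⟨S, hS, hSfin⟩ := hfin
  let K := FractionRing (A ⧸ p)
  let κ : A ⧸ p →+* K := algebraMap (A ⧸ p) K
  have hκ : Function.Injective κ := IsFractionRing.injective (A ⧸ p) K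
  have hκs : ∀ (a : A) (m : A ⧸ p), κ (a • m) = κ (Ideal.Quotient.mk p a) * κ m := fun a m => by
    rw [← map_mul]
    rfl
  have key : ∀ I : Ideal A, Supp Z I → ∀ φ : I →ₗ[A] A ⧸ p,
      ∃ z ∈ S, ∀ b : I, κ (Ideal.Quotient.mk p (b : A)) * z = κ (φ b) := by
    intro I hI φ
    obtain ⟨a, ha, hap⟩ := supp_not_le hI _ hp
    have ha0 : κ (Ideal.Quotient.mk p a) ≠ 0 := fun h =>
      hap (Ideal.Quotient.eq_zero_iff_mem.1 (hκ (h.trans (map_zero κ).symm)))
    have hz : ∀ b : I, κ (Ideal.Quotient.mk p (b : A)) *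
        (κ (φ ⟨a, ha⟩) / κ (Ideal.Quotient.mk p a)) = κ (φ b) := fun b => by
      rw [← mul_div_assoc, div_eq_iff ha0, ← hκs, mul_comm, ← hκs, ← map_smul, ← map_smul]
      exact congrArg κ (congrArg φ (Subtype.ext (mul_comm _ _)))
    refine ⟨_, ?_, hz⟩
    rw [← SetLike.mem_coe, hS]
    intro P hP hP1
    have hy : (⟨P.comap (Ideal.Quotient.mk p), inferInstance⟩ : PrimeSpectrum A) ∉ Z := fun hy => by
      have := hcodim _ hy (fun x hx => by
        rw [Ideal.mem_comap, Ideal.Quotient.eq_zero_iff_mem.2 hx]; exact zero_mem _)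
      rw [Ideal.map_comap_of_surjective _ Ideal.Quotient.mk_surjective, hP1] at this
      exact absurd this (by decide)
    obtain ⟨s, hs, hsy⟩ := supp_not_le hI _ hy
    exact ⟨Ideal.Quotient.mk p s, hsy, φ ⟨s, hs⟩, (hz ⟨s, hs⟩).symm⟩
  choose z hzS hz using key
  have uniq : ∀ (I : Ideal A) (hI : Supp Z I) (φ : I →ₗ[A] A ⧸ p) (w : K),
      (∀ b : I, κ (Ideal.Quotient.mk p (b : A)) * w = κ (φ b)) → z I hI φ = w := by
    intro I hI φ w hw
    obtain ⟨a, ha, hap⟩ := supp_not_le hI _ hp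
    refine mul_left_cancel₀ (fun h => hap (Ideal.Quotient.eq_zero_iff_mem.1
      (hκ (h.trans (map_zero κ).symm)))) ((hz I hI φ ⟨a, ha⟩).trans (hw ⟨a, ha⟩).symm)
  let N : Submodule A K := (S.toSubmodule).restrictScalars A
  haveI : IsNoetherian A N := by
    refine isNoetherian_of_fg_of_noetherian _ ?_
    exact Submodule.FG.restrictScalars_of_surjective
      (Module.Finite.iff_fg.1 hSfin) Ideal.Quotient.mk_surjective
  refine extends_of_eval (N := N)
    (fun I hI => {
      toFun := fun φ => ⟨z I hI φ, hzS I hI φ⟩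
      map_add' := fun φ φ' => Subtype.ext <| uniq I hI _ _ fun b => by
        show _ * (z I hI φ + z I hI φ') = _
        rw [mul_add, hz, hz, LinearMap.add_apply, map_add]
      map_smul' := fun r φ => Subtype.ext <| uniq I hI _ _ fun b => by
        show _ * (r • z I hI φ) = _
        rw [mul_smul_comm, hz, LinearMap.smul_apply, hκs, Algebra.smul_def,
          IsScalarTower.algebraMap_apply A (A ⧸ p) K]
        rfl })
    (fun I hI φ φ' h => LinearMap.ext fun b => hκ ?_)
    (fun I J hI hJ hle φ => Subtype.ext <| uniq J hJ _ _ fun b => ?_)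
  · have h' : z I hI φ = z I hI φ' := congrArg Subtype.val h
    rw [← hz I hI φ, ← hz I hI φ', h']
  · exact hz I hI φ (Submodule.inclusion hle b)

/-- A finite module killed by `p` and torsion free over `A/p` embeds in a free `A/p`-module. -/
theorem exists_injective_pi [Module.Finite A M] (hkill : ∀ a ∈ p, ∀ m : M, a • m = 0)
    (hinj : ∀ a ∉ p, ∀ m : M, a • m = 0 → m = 0) :
    ∃ (n : ℕ) (s : Set (Fin n)) (f : M →ₗ[A] (s → A ⧸ p)), Function.Injective f := by
  classical
  have htors : Module.IsTorsionBySet A M (p : Set A) := fun m a => hkill a a.2 m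
  letI := htors.module
  haveI : IsScalarTower A (A ⧸ p) M := htors.isScalarTower
  haveI : Module.Finite (A ⧸ p) M := Module.Finite.of_restrictScalars_finite A (A ⧸ p) M
  obtain ⟨n, v, hv⟩ := Module.Finite.exists_fin (R := A ⧸ p) (M := M)
  obtain ⟨s, hs, hmax⟩ := exists_maximal_linearIndepOn (A ⧸ p) v
  choose a ha0 ha using hmax
  let c : A ⧸ p := ∏ i : {i // i ∉ s}, a i i.2
  have hc0 : c ≠ 0 := Finset.prod_ne_zero_iff.2 fun i _ => ha0 i i.2
  have hc : ∀ m : M, c • m ∈ Submodule.span (A ⧸ p) (v '' s) := by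
    intro m
    have hm : m ∈ Submodule.span (A ⧸ p) (Set.range v) := hv ▸ Submodule.mem_top
    induction hm using Submodule.span_induction with
    | mem x hx =>
      obtain ⟨i, rfl⟩ := hx
      by_cases hi : i ∈ s
      · exact Submodule.smul_mem _ _ (Submodule.subset_span ⟨i, hi, rfl⟩)
      · obtain ⟨d, hd⟩ : a i hi ∣ c :=
          Finset.dvd_prod_of_mem (fun i : {i // i ∉ s} => a i i.2) (Finset.mem_univ ⟨i, hi⟩)
        rw [hd, mul_comm, mul_smul]
        exact Submodule.smul_mem _ _ (ha i hi)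
    | zero => simp
    | add x y _ _ hx hy => rw [smul_add]; exact add_mem hx hy
    | smul r x _ hx => rw [smul_comm]; exact Submodule.smul_mem _ _ hx
  rw [Set.image_eq_range] at hc
  let g : M →ₗ[A ⧸ p] (s → A ⧸ p) := (Finsupp.linearEquivFunOnFinite (A ⧸ p) (A ⧸ p) s).toLinearMap ∘ₗ
    hs.linearIndependent.repr ∘ₗ (LinearMap.lsmul (A ⧸ p) M c).codRestrict _ hc
  refine ⟨n, s, g.restrictScalars A, fun x y hxy => ?_⟩
  have h2 := hs.linearIndependent.linearCombinationEquiv.symm.injective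
    ((Finsupp.linearEquivFunOnFinite (A ⧸ p) (A ⧸ p) s).injective hxy)
  have h3 : c • x = c • y := congrArg Subtype.val h2
  obtain ⟨b, hb⟩ := Ideal.Quotient.mk_surjective c
  refine sub_eq_zero.1 (hinj b (fun hbp => hc0 (hb ▸ Ideal.Quotient.eq_zero_iff_mem.2 hbp)) _ ?_)
  change Ideal.Quotient.mk p b • (x - y) = 0
  rw [hb, smul_sub, h3, sub_self]

/-- Devissage of a module with one associated prime killed by a power of it. -/
theorem extends_of_pow_smul_eq_zero [IsNoetherianRing A]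
    (hp : (⟨p, inferInstance⟩ : PrimeSpectrum A) ∉ Z) (hbase : Extends Z (A ⧸ p)) :
    ∀ (n : ℕ) (N : Type v) [AddCommGroup N] [Module A N] [Module.Finite A N],
      (∀ a ∉ p, ∀ m : N, a • m = 0 → m = 0) → (∀ a ∈ p ^ n, ∀ m : N, a • m = 0) → Extends Z N := by
  intro n
  induction n with
  | zero =>
    intro N _ _ _ _ hk
    haveI : Subsingleton N := ⟨fun x y => by
      rw [← one_smul A x, ← one_smul A y, hk 1 (by simp) x, hk 1 (by simp) y]⟩
    exact extends_of_subsingleton Z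
  | succ n ih =>
    intro N _ _ _ hinj hk
    classical
    let N₀ := Submodule.torsionBySet A N (p : Set A)
    obtain ⟨k, w, hw⟩ := Submodule.fg_iff_exists_fin_generating_family.1
      (IsNoetherian.noetherian p : p.FG)
    let P : Submodule A N := p • ⊤
    have hwp : ∀ i, w i ∈ p := fun i => hw.le (Submodule.subset_span ⟨i, rfl⟩)
    let g : N →ₗ[A] (Fin k → P) := LinearMap.pi fun i =>
      (LinearMap.lsmul A N (w i)).codRestrict P fun m =>
        Submodule.smul_mem_smul (hwp i) Submodule.mem_top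
    have hker : ∀ m : N, g m = 0 ↔ m ∈ N₀ := by
      intro m
      refine ⟨fun h => (Submodule.mem_torsionBySet_iff _ _).2 fun a => ?_,
        fun h => funext fun i => Subtype.ext ((Submodule.mem_torsionBySet_iff _ _).1 h ⟨w i, hwp i⟩)⟩
      obtain ⟨b, hb⟩ := a
      show b • m = 0
      have ha : b ∈ Submodule.span A (Set.range w) := by rw [hw]; exact hb
      clear hb
      induction ha using Submodule.span_induction with
      | mem x hx =>
        obtain ⟨i, rfl⟩ := hx
        exact congrArg Subtype.val (congrFun h i)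
      | zero => exact zero_smul A m
      | add x y _ _ hx hy => rw [add_smul, hx, hy, add_zero]
      | smul r x _ hx => rw [smul_assoc, hx, smul_zero]
    have hN₀ : Extends Z N₀ := by
      obtain ⟨l, s, f, hf⟩ := exists_injective_pi p (M := N₀)
        (fun a ha m => Subtype.ext ((Submodule.mem_torsionBySet_iff _ _).1 m.2 ⟨a, ha⟩))
        (fun a ha m h => Subtype.ext (hinj a ha _ (congrArg Subtype.val h)))
      exact extends_of_injective f hf (extends_pi fun _ => hbase)
        (pure_pi fun _ => pure_of_injective_smul p hp fun a ha => quotient_smul_eq_zero p ha)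
    refine extends_of_exact N₀.subtype g N₀.injective_subtype
      (fun m => ⟨fun h => ⟨⟨m, (hker m).1 h⟩, rfl⟩, fun ⟨y, hy⟩ => hy ▸ (hker _).2 y.2⟩)
      hN₀ (extends_pi fun _ => ih P (fun a ha m h => Subtype.ext (hinj a ha _ (congrArg Subtype.val h)))
        fun a ha m => Subtype.ext ?_)
      (pure_pi fun _ => pure_of_injective_smul p hp fun a ha m h =>
        Subtype.ext (hinj a ha _ (congrArg Subtype.val h)))
    show a • (m : N) = 0
    refine Submodule.smul_induction_on m.2 (fun r hr x _ => ?_)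
      (fun x y hx hy => by rw [smul_add, hx, hy, add_zero])
    rw [smul_smul]
    exact hk _ (pow_succ p n ▸ Ideal.mul_mem_mul ha hr) x

end Domain

section Devissage

variable [IsNoetherianRing A]

theorem pure_of_associatedPrimes
    (h : ∀ x : PrimeSpectrum A, x.asIdeal ∈ associatedPrimes A M → x ∉ Z) : Pure Z M := by
  intro I hI m hm
  by_contra hm0
  obtain ⟨P, hP, hle⟩ := exists_le_isAssociatedPrime_of_isNoetherianRing A m hm0
  exact h ⟨P, hP.isPrime⟩ hP (hI fun a ha => hle (Submodule.mem_colon_singleton.2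
    ((Submodule.mem_bot A).2 (hm a ha))))

/-- For an associated prime `p`, a quotient in which `p` is the only possible associated prime,
nonzero on every element with associated prime `p`. -/
theorem exists_coprimary_quotient [Module.Finite A M] (p : Ideal A) :
    ∃ Q : Submodule A M, p ∉ associatedPrimes A Q ∧ associatedPrimes A (M ⧸ Q) ⊆ {p} := by
  haveI : IsNoetherian A M := isNoetherian_of_isNoetherianRing_of_finite A M
  obtain ⟨Q, hQ, hmax⟩ := set_has_maximal_iff_noetherian.2 ‹IsNoetherian A M›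
    {Q : Submodule A M | p ∉ associatedPrimes A Q}
    ⟨⊥, fun h => Set.notMem_empty p (associatedPrimes.eq_empty_of_subsingleton (R := A)
      (M := (⊥ : Submodule A M)) ▸ h)⟩
  refine ⟨Q, hQ, fun q hq => ?_⟩
  obtain ⟨hqp, y, hy⟩ := isAssociatedPrime_iff.1 hq
  let L : Submodule A (M ⧸ Q) := Submodule.span A {y}
  let Q' : Submodule A M := L.comap Q.mkQ
  have hQle : Q ≤ Q' := fun x hx => by
    show Q.mkQ x ∈ L
    rw [(Submodule.Quotient.mk_eq_zero Q).2 hx |> fun h => (h : Q.mkQ x = 0)]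
    exact zero_mem _
  have hlt : Q < Q' := by
    refine lt_of_le_of_ne hQle fun h => hqp.ne_top ((Ideal.eq_top_iff_one _).2 ?_)
    obtain ⟨m, rfl⟩ := Submodule.Quotient.mk_surjective Q y
    have : m ∈ Q := h ▸ (Submodule.mem_span_singleton_self _ : _ ∈ L)
    rw [hy, Submodule.mem_colon_singleton, one_smul]
    exact (Submodule.Quotient.mk_eq_zero Q).2 this
  have hL : associatedPrimes A L ⊆ {q} := by
    intro r hr
    obtain ⟨hrp, ⟨x, hx⟩, hr⟩ := isAssociatedPrime_iff.1 hr
    obtain ⟨a, rfl⟩ := Submodule.mem_span_singleton.1 hx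
    have hmem : ∀ b, b ∈ r ↔ b * a ∈ q := fun b => by
      rw [hr, hy, Submodule.mem_colon_singleton, Submodule.mem_colon_singleton, Submodule.mem_bot,
        Submodule.mem_bot, mul_smul, ← Submodule.coe_eq_zero]
      rfl
    have haq : a ∉ q := fun h => hrp.ne_top ((Ideal.eq_top_iff_one _).2 ((hmem 1).2 (by rwa [one_mul])))
    exact Ideal.ext fun b => ⟨fun hb => (hqp.mem_or_mem ((hmem b).1 hb)).resolve_right haq,
      fun hb => (hmem b).2 (Ideal.mul_mem_right _ _ hb)⟩
  have hp' : p ∈ associatedPrimes A Q' := by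
    by_contra h
    exact hmax Q' h hlt
  have := associatedPrimes.subset_union_of_exact (f := Submodule.inclusion hQle)
    (g := Q.mkQ.restrict (p := Q') (q := L) fun x hx => hx) (Submodule.inclusion_injective hQle) ?_ hp'
  · exact ((hL (this.resolve_left hQ)) : p = q).symm
  · intro x
    refine ⟨fun h => ⟨⟨x, (Submodule.Quotient.mk_eq_zero Q).1 (congrArg Subtype.val h)⟩, rfl⟩,
      fun ⟨z, hz⟩ => Subtype.ext ?_⟩
    rw [← hz]
    exact (Submodule.Quotient.mk_eq_zero Q).2 z.2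

theorem extends_of_associatedPrimes_subset [Module.Finite A M] (p : Ideal A) [p.IsPrime]
    (hp : (⟨p, inferInstance⟩ : PrimeSpectrum A) ∉ Z) (hbase : Extends Z (A ⧸ p))
    (hass : associatedPrimes A M ⊆ {p}) : Extends Z M ∧ Pure Z M := by
  have hinj : ∀ a ∉ p, ∀ m : M, a • m = 0 → m = 0 := by
    intro a ha m hm
    by_contra hm0
    obtain ⟨P, hP, hle⟩ := exists_le_isAssociatedPrime_of_isNoetherianRing A m hm0
    exact ha ((hass hP : P = p) ▸ hle (Submodule.mem_colon_singleton.2 ((Submodule.mem_bot A).2 hm)))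
  have hrad : p ≤ (Module.annihilator A M).radical := by
    rw [← Ideal.sInf_minimalPrimes]
    exact le_sInf fun q hq => le_of_eq
      (hass (Module.associatedPrimes.minimalPrimes_annihilator_subset_associatedPrimes A M hq)).symm
  obtain ⟨n, hn⟩ := Ideal.exists_pow_le_of_le_radical_of_fg hrad (IsNoetherian.noetherian p)
  exact ⟨extends_of_pow_smul_eq_zero p hp hbase n M hinj
    (fun a ha m => Module.mem_annihilator.1 (hn ha) m), pure_of_injective_smul p hp hinj⟩

/-- Devissage: it is enough to treat the quotients by the associated primes. -/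
theorem extends_of_forall_associatedPrimes [Module.Finite A M]
    (hZ : ∀ x : PrimeSpectrum A, x.asIdeal ∈ associatedPrimes A M → x ∉ Z)
    (hbase : ∀ x : PrimeSpectrum A, x.asIdeal ∈ associatedPrimes A M → Extends Z (A ⧸ x.asIdeal)) :
    Extends Z M := by
  haveI : Finite (associatedPrimes A M) := (associatedPrimes.finite A M).to_subtype
  choose Q hQ hQ' using fun p : associatedPrimes A M => exists_coprimary_quotient (M := M) (p : Ideal A)
  have h : ∀ p : associatedPrimes A M, Extends Z (M ⧸ Q p) ∧ Pure Z (M ⧸ Q p) := fun p =>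
    haveI := p.2.isPrime
    extends_of_associatedPrimes_subset (p : Ideal A) (hZ ⟨p, p.2.isPrime⟩ p.2)
      (hbase ⟨p, p.2.isPrime⟩ p.2) (hQ' p)
  refine extends_of_injective (LinearMap.pi fun p => (Q p).mkQ)
    ((injective_iff_map_eq_zero _).2 fun x hx => ?_) (extends_pi fun p => (h p).1)
    (pure_pi fun p => (h p).2)
  by_contra hx0
  obtain ⟨P, hP, -⟩ := exists_le_isAssociatedPrime_of_isNoetherianRing A
    (⟨x, Submodule.mem_span_singleton_self x⟩ : Submodule.span A {x})
    (fun h => hx0 (congrArg Subtype.val h))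
  have hPM : P ∈ associatedPrimes A M :=
    associatedPrimes.subset_of_injective (Submodule.injective_subtype _) hP
  have hle : Submodule.span A {x} ≤ Q ⟨P, hPM⟩ := (Submodule.span_singleton_le_iff_mem _ _).2
    ((Submodule.Quotient.mk_eq_zero _).1 (congrFun hx ⟨P, hPM⟩))
  exact hQ ⟨P, hPM⟩ (associatedPrimes.subset_of_injective (Submodule.inclusion_injective hle) hP)

/-- The finiteness of the closure in the situation of height one hulls. -/
theorem extends_of_heightOneHullFinite [Module.Finite A M]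
    (hZ : ∀ x : PrimeSpectrum A, x.asIdeal ∈ associatedPrimes A M → x ∉ Z)
    (hfin : ∀ x : PrimeSpectrum A, x.asIdeal ∈ associatedPrimes A M →
      EGA4.HeightOneHullFinite (A ⧸ x.asIdeal))
    (hcodim : ∀ x : PrimeSpectrum A, x.asIdeal ∈ associatedPrimes A M → ∀ y ∈ Z, x.asIdeal ≤ y.asIdeal →
      (2 : ℕ∞) ≤ (y.asIdeal.map (Ideal.Quotient.mk x.asIdeal)).height) : Extends Z M :=
  extends_of_forall_associatedPrimes hZ fun x hx =>
    extends_quotient x.asIdeal (hZ x hx) (hfin x hx) (hcodim x hx)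

end Devissage

section Range

variable [IsNoetherianRing A] {N : Type*} [AddCommGroup N] [Module A N]

/-- The associated primes of the image in a pure module, when the kernel is killed by ideals
supported in `Z`. -/
theorem associatedPrimes_range [Module.Finite A M] (hZs : ∀ x y : PrimeSpectrum A, x ≤ y → x ∈ Z → y ∈ Z)
    (ρ : M →ₗ[A] N) (hN : Pure Z N)
    (hker : ∀ m, ρ m = 0 → Supp Z ((⊥ : Submodule A M).colon {m})) (x : PrimeSpectrum A)
    (hx : x.asIdeal ∈ associatedPrimes A (LinearMap.range ρ)) :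
    x ∉ Z ∧ x.asIdeal ∈ associatedPrimes A M := by
  obtain ⟨-, ⟨_, m, rfl⟩, hp⟩ := isAssociatedPrime_iff.1 hx
  have hmem : ∀ b, b ∈ x.asIdeal ↔ ρ (b • m) = 0 := fun b => by
    rw [hp, Submodule.mem_colon_singleton, Submodule.mem_bot, ← Submodule.coe_eq_zero, map_smul]
    rfl
  have hxZ : x ∉ Z := fun hxZ => x.isPrime.ne_top ((Ideal.eq_top_iff_one _).2 ((hmem 1).2 (by
    rw [one_smul]
    exact hN x.asIdeal (fun y hy => hZs x y hy hxZ) _ fun a ha => by
      rw [← map_smul]; exact (hmem a).1 ha)))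
  refine ⟨hxZ, ?_⟩
  haveI : IsNoetherian A M := isNoetherian_of_isNoetherianRing_of_finite A M
  obtain ⟨s, hs⟩ := IsNoetherian.noetherian (LinearMap.ker ρ)
  classical
  let I := s.inf fun t => (⊥ : Submodule A M).colon {t}
  have hI : Supp Z I := by
    have hs' : ∀ t ∈ s, ρ t = 0 := fun t ht => (hs ▸ Submodule.subset_span ht : t ∈ LinearMap.ker ρ)
    show Supp Z (s.inf _)
    clear hs
    induction s using Finset.induction_on with
    | empty => rw [Finset.inf_empty]; exact supp_top Z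
    | insert t s _ ih =>
      rw [Finset.inf_insert]
      exact supp_inf (hker t (hs' t (Finset.mem_insert_self t s)))
        (ih fun u hu => hs' u (Finset.mem_insert_of_mem hu))
  obtain ⟨a, haI, hax⟩ := supp_not_le hI x hxZ
  have hak : ∀ t, t ∈ LinearMap.ker ρ → a • t = 0 := by
    intro t ht
    have hle : Submodule.span A (s : Set M) ≤ LinearMap.ker (LinearMap.lsmul A M a) := by
      rw [Submodule.span_le]
      intro u hu
      have h1 : I ≤ (⊥ : Submodule A M).colon ({u} : Set M) :=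
        Finset.inf_le (f := fun t => (⊥ : Submodule A M).colon ({t} : Set M)) hu
      exact (Submodule.mem_bot A).1 (Submodule.mem_colon_singleton.1 (h1 haI))
    exact hle (hs.symm ▸ ht)
  refine isAssociatedPrime_iff.2 ⟨x.isPrime, a • m, ?_⟩
  ext b
  rw [Submodule.mem_colon_singleton, Submodule.mem_bot, smul_smul]
  refine ⟨fun hb => ?_, fun hb => ?_⟩
  · rw [mul_comm, mul_smul]
    exact hak _ ((hmem b).1 hb)
  · exact (x.isPrime.mem_or_mem ((hmem _).2 (by rw [hb, map_zero]))).resolve_right hax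

theorem extends_range [Module.Finite A M] (hZs : ∀ x y : PrimeSpectrum A, x ≤ y → x ∈ Z → y ∈ Z)
    (ρ : M →ₗ[A] N) (hN : Pure Z N)
    (hker : ∀ m, ρ m = 0 → Supp Z ((⊥ : Submodule A M).colon {m}))
    (hbase : ∀ x : PrimeSpectrum A, x.asIdeal ∈ associatedPrimes A M → x ∉ Z →
      Extends Z (A ⧸ x.asIdeal)) : Extends Z (LinearMap.range ρ) :=
  extends_of_forall_associatedPrimes (fun x hx => (associatedPrimes_range hZs ρ hN hker x hx).1)
    fun x hx =>
      hbase x (associatedPrimes_range hZs ρ hN hker x hx).2 (associatedPrimes_range hZs ρ hN hker x hx).1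

end Range

section Congr

variable {B : Type*} [CommRing B] (e : A ≃+* B) {N : Type*} [AddCommGroup N] [Module B N]
  (g : M ≃+ N) (hg : ∀ (a : A) (m : M), g (a • m) = e a • g m)
  {Z' : Set (PrimeSpectrum B)} (hZ : ∀ p : PrimeSpectrum B, PrimeSpectrum.comap e.toRingHom p ∈ Z ↔ p ∈ Z')

include hZ

theorem supp_comap_iff (J : Ideal B) : Supp Z (J.comap e.toRingHom) ↔ Supp Z' J := by
  constructor
  · intro h q hq
    exact (hZ q).1 (h fun a ha => hq ha)
  · intro h q hq
    let q' : PrimeSpectrum B := PrimeSpectrum.comap e.symm.toRingHom q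
    have h1 : q' ∈ Z' := h fun b hb => hq (show e (e.symm b) ∈ J by simpa using hb)
    have h2 := (hZ q').2 h1
    convert h2
    ext a
    simp [q']

include hg

/-- Transport of the extension property along a semilinear bijection. -/
theorem extends_congr (h : Extends Z M) : Extends Z' N := by
  obtain ⟨I₀, hI₀, hext⟩ := h
  refine ⟨I₀.comap e.symm.toRingHom, (supp_comap_iff e hZ _).1 ?_, fun J hJ φ => ?_⟩
  · rw [Ideal.comap_comap]
    simpa using hI₀
  have hsymm : ∀ (a : A) (n : N), g.symm (e a • n) = a • g.symm n := fun a n => by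
    rw [AddEquiv.symm_apply_eq, hg, AddEquiv.apply_symm_apply]
  let φ' : (J.comap e.toRingHom : Ideal A) →ₗ[A] M :=
    { toFun := fun x => g.symm (φ ⟨e x, x.2⟩)
      map_add' := fun x y => by
        rw [← map_add g.symm, ← map_add φ]
        exact congrArg (fun z => g.symm (φ z)) (Subtype.ext (map_add e _ _))
      map_smul' := fun r x => by
        rw [RingHom.id_apply, ← hsymm, ← map_smul φ]
        exact congrArg (fun z => g.symm (φ z)) (Subtype.ext (map_mul e _ _)) }
  obtain ⟨ψ, hψ⟩ := hext _ ((supp_comap_iff e hZ J).2 hJ) φ'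
  let ψ' : (I₀.comap e.symm.toRingHom : Ideal B) →ₗ[B] N :=
    { toFun := fun y => g (ψ ⟨e.symm y, y.2⟩)
      map_add' := fun x y => by
        rw [← map_add g, ← map_add ψ]
        exact congrArg (fun z => g (ψ z)) (Subtype.ext (map_add e.symm _ _))
      map_smul' := fun r x => by
        rw [RingHom.id_apply, ← e.apply_symm_apply r, ← hg, ← map_smul ψ]
        refine congrArg (fun z => g (ψ z)) (Subtype.ext ?_)
        show e.symm (e (e.symm r) * (x : B)) = e.symm r * e.symm (x : B)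
        rw [map_mul, e.symm_apply_apply] }
  refine ⟨ψ', fun x h₀ h => ?_⟩
  have hx : e (e.symm x) ∈ J := by simpa using h
  show g (ψ ⟨e.symm x, h₀⟩) = _
  rw [hψ (e.symm x) h₀ hx]
  show g (g.symm (φ ⟨e (e.symm x), hx⟩)) = _
  rw [AddEquiv.apply_symm_apply]
  exact congrArg φ (Subtype.ext (e.apply_symm_apply x))

end Congr

theorem mem_associatedPrimes_congr [IsNoetherianRing A] {B : Type*} [CommRing B] [IsNoetherianRing B]
    (e : A ≃+* B) {N : Type*} [AddCommGroup N] [Module B N] (g : M ≃+ N)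
    (hg : ∀ (a : A) (m : M), g (a • m) = e a • g m) {p : Ideal B}
    (hp : p ∈ associatedPrimes B N) : p.comap e.toRingHom ∈ associatedPrimes A M := by
  obtain ⟨hpp, n, rfl⟩ := isAssociatedPrime_iff.1 hp
  refine isAssociatedPrime_iff.2 ⟨Ideal.comap_isPrime _ _, g.symm n, ?_⟩
  ext a
  rw [Ideal.mem_comap, Submodule.mem_colon_singleton, Submodule.mem_colon_singleton,
    Submodule.mem_bot, Submodule.mem_bot, RingEquiv.toRingHom_eq_coe, RingEquiv.coe_toRingHom,
    ← g.apply_symm_apply n, ← hg, map_eq_zero_iff g g.injective, AddEquiv.symm_apply_apply]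

theorem quotient_congr {B : Type*} [CommRing B] (e : A ≃+* B) (q : Ideal B) :
    ∃ g : (A ⧸ q.comap e.toRingHom) ≃+ (B ⧸ q), ∀ a m, g (a • m) = e a • g m := by
  let f := Ideal.quotientEquiv (q.comap e.toRingHom) q e
    (Ideal.map_comap_of_surjective _ e.surjective q).symm
  refine ⟨f.toAddEquiv, fun a m => ?_⟩
  show f (a • m) = e a • f m
  rw [Algebra.smul_def, Algebra.smul_def, map_mul]
  rfl

/-- Conversely, closedness of a finite overmodule of `A/q` along the primes of codimension at least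
two gives finiteness of the height one hull. -/
theorem heightOneHullFinite_of_closed [IsNoetherianRing A] (q : Ideal A) [q.IsPrime]
    {N : Type*} [AddCommGroup N] [Module A N] [Module.Finite A N]
    (hZ : ∀ y : PrimeSpectrum A, (q ≤ y.asIdeal ∧
      (2 : ℕ∞) ≤ (y.asIdeal.map (Ideal.Quotient.mk q)).height) → y ∈ Z)
    (hqZ : (⟨q, inferInstance⟩ : PrimeSpectrum A) ∉ Z)
    (ρ : (A ⧸ q) →ₗ[A] N) (hρ : Function.Injective ρ) (hN : Pure Z N)
    (hclosed : ∀ J : Ideal A, Supp Z J → ∀ φ : J →ₗ[A] N, ∃ n : N, ∀ a : J, φ a = (a : A) • n) :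
    EGA4.HeightOneHullFinite (A ⧸ q) := by
  let K := FractionRing (A ⧸ q)
  let κ : A ⧸ q →+* K := algebraMap (A ⧸ q) K
  have hκ : Function.Injective κ := IsFractionRing.injective (A ⧸ q) K
  let S : Subalgebra (A ⧸ q) K :=
    { carrier := EGA4.heightOneHull (A ⧸ q)
      mul_mem' := fun {x y} hx hy p hp h => by
        obtain ⟨s, hs, a, ha⟩ := hx p h
        obtain ⟨t, ht, b, hb⟩ := hy p h
        exact ⟨s * t, fun h' => (hp.mem_or_mem h').elim hs ht, a * b,
          by rw [map_mul, map_mul, ha, hb]; ring⟩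
      add_mem' := fun {x y} hx hy p hp h => by
        obtain ⟨s, hs, a, ha⟩ := hx p h
        obtain ⟨t, ht, b, hb⟩ := hy p h
        exact ⟨s * t, fun h' => (hp.mem_or_mem h').elim hs ht, a * t + b * s,
          by rw [map_add, map_mul, map_mul, map_mul, ha, hb]; ring⟩
      algebraMap_mem' := fun r p hp _ => ⟨1, fun h' => hp.ne_top ((Ideal.eq_top_iff_one _).2 h'), r,
        by rw [map_one, one_mul]⟩ }
  refine ⟨S, rfl, ?_⟩
  have key : ∀ f : S, ∃ (J : Ideal A) (φ : J →ₗ[A] A ⧸ q) (n : N), Supp Z J ∧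
      (∀ a : J, κ (φ a) = κ (Ideal.Quotient.mk q (a : A)) * (f : K)) ∧
      ∀ a : J, ρ (φ a) = (a : A) • n := by
    intro f
    let J : Ideal A := Submodule.comap
      ((LinearMap.toSpanSingleton (A ⧸ q) K (f : K)).restrictScalars A ∘ₗ
        (Algebra.linearMap A (A ⧸ q))) (LinearMap.range ((Algebra.linearMap (A ⧸ q) K).restrictScalars A))
    have hmem : ∀ a, a ∈ J ↔ ∃ b, κ b = κ (Ideal.Quotient.mk q a) * (f : K) := fun a => by
      change (∃ b, κ b = Ideal.Quotient.mk q a • (f : K)) ↔ _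
      simp only [Algebra.smul_def]
      rfl
    have hqJ : ∀ a ∈ q, a ∈ J := fun a ha => (hmem a).2
      ⟨0, by rw [Ideal.Quotient.eq_zero_iff_mem.2 ha, map_zero, zero_mul]⟩
    have hJ : Supp Z J := by
      intro y hy
      have hqy : q ≤ y.asIdeal := fun a ha => hy (hqJ a ha)
      refine hZ y ⟨hqy, le_of_not_gt fun hlt => ?_⟩
      haveI hP : (y.asIdeal.map (Ideal.Quotient.mk q)).IsPrime :=
        Ideal.map_isPrime_of_surjective Ideal.Quotient.mk_surjective (by rwa [Ideal.mk_ker])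
      have hy' : (y.asIdeal.map (Ideal.Quotient.mk q)).comap (Ideal.Quotient.mk q) = y.asIdeal := by
        rw [Ideal.comap_map_of_surjective' _ Ideal.Quotient.mk_surjective, Ideal.mk_ker,
          sup_eq_left.2 hqy]
      obtain ⟨s, hs, b, hb⟩ : ∃ s : A ⧸ q, s ∉ y.asIdeal.map (Ideal.Quotient.mk q) ∧
          ∃ b, κ b = κ s * (f : K) := by
        rcases eq_or_ne (y.asIdeal.map (Ideal.Quotient.mk q)).height 0 with h0 | h0
        · obtain ⟨⟨b, s⟩, hbs⟩ := IsLocalization.surj (nonZeroDivisors (A ⧸ q)) (f : K)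
          refine ⟨s, fun hs => nonZeroDivisors.coe_ne_zero s ?_, b, ?_⟩
          · rwa [Ideal.height_eq_zero_iff_eq_bot.1 h0, Ideal.mem_bot] at hs
          · exact hbs.symm.trans (mul_comm _ _)
        · exact f.2 _ (le_antisymm ((ENat.lt_add_one_iff ENat.one_ne_top).1 (lt_of_lt_of_eq hlt one_add_one_eq_two.symm))
            (Order.one_le_iff_pos.2 (pos_iff_ne_zero.2 h0)))
      obtain ⟨s, rfl⟩ := Ideal.Quotient.mk_surjective s
      exact hs (Ideal.mem_map_of_mem _ (hy ((hmem s).2 ⟨b, hb⟩)))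
    choose φ hφ using fun a : J => (hmem a).1 a.2
    let φ' : J →ₗ[A] A ⧸ q :=
      { toFun := φ
        map_add' := fun a b => hκ (by
          rw [map_add κ, hφ, hφ, hφ, Submodule.coe_add, map_add, map_add, add_mul])
        map_smul' := fun r a => hκ (by
          rw [hφ, RingHom.id_apply, Algebra.smul_def, map_mul κ, hφ, SetLike.val_smul, smul_eq_mul,
            map_mul, map_mul, mul_assoc]
          rfl) }
    obtain ⟨n, hn⟩ := hclosed J hJ (ρ ∘ₗ φ')
    exact ⟨J, φ', n, hJ, hφ, hn⟩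
  choose J φ n hJ hφ hn using key
  have huniq : ∀ (f : S) (m : N) (I : Ideal A), Supp Z I →
      (∀ a ∈ I, ∃ b, κ b = κ (Ideal.Quotient.mk q a) * (f : K) ∧ ρ b = a • m) → n f = m := by
    intro f m I hI h
    refine sub_eq_zero.1 (hN _ (supp_inf (hJ f) hI) _ fun a ha => ?_)
    obtain ⟨b, hb, hbm⟩ := h a ha.2
    rw [smul_sub, sub_eq_zero, ← hn f ⟨a, ha.1⟩, ← hbm]
    exact congrArg ρ (hκ ((hφ f ⟨a, ha.1⟩).trans hb.symm))
  let E : S →ₗ[A] N :=
    { toFun := n
      map_add' := fun f f' => huniq _ _ _ (supp_inf (hJ f) (hJ f')) fun a ha =>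
        ⟨φ f ⟨a, ha.1⟩ + φ f' ⟨a, ha.2⟩, by
          rw [map_add κ, hφ f, hφ f']; exact (mul_add _ _ _).symm,
          by rw [map_add ρ, hn f, hn f', smul_add]⟩
      map_smul' := fun r f => huniq _ _ _ (hJ f) fun a ha =>
        ⟨r • φ f ⟨a, ha⟩, by
          rw [Algebra.smul_def, map_mul κ, hφ f]
          show _ = _ * (r • (f : K))
          rw [Algebra.smul_def, IsScalarTower.algebraMap_apply A (A ⧸ q) K]
          exact mul_left_comm _ _ _,
          by rw [map_smul ρ, hn f, RingHom.id_apply, smul_comm]⟩ }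
  haveI : IsNoetherian A N := isNoetherian_of_isNoetherianRing_of_finite A N
  haveI : Module.Finite A S := Module.Finite.of_injective E fun f f' h => by
    have hI := supp_inf (hJ f) (hJ f')
    obtain ⟨a, ha, haq⟩ := supp_not_le hI _ hqZ
    refine Subtype.ext (mul_left_cancel₀ (fun h0 => haq (Ideal.Quotient.eq_zero_iff_mem.1
      (hκ (h0.trans (map_zero κ).symm)))) ?_)
    rw [← hφ f ⟨a, ha.1⟩, ← hφ f' ⟨a, ha.2⟩]
    refine congrArg κ (hρ ?_)
    rw [hn f, hn f']
    exact congrArg _ h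
  exact Module.Finite.of_restrictScalars_finite A (A ⧸ q) S

end Groth.Agent.ZClosLib.HullModule
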