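import Groth.Prelude.Def_ZClos
import Groth.Agent.ModShf.GrothAb
import Groth.Agent.PullStalk.Exact
import Mathlib.CategoryTheory.Limits.Preserves.FunctorCategory
import Mathlib.CategoryTheory.Limits.FunctorCategory.Basic
import Mathlib.CategoryTheory.Limits.Filtered

/-!
# Basic properties of the Z-closure functor
-/

universe u

open CategoryTheory CategoryTheory.Limits AlgebraicGeometry TopologicalSpace Opposite

namespace Groth.Agent.ZClosLib

variable {X : Scheme.{u}}

/-- The precomposition functor `V ↦ U ∩ V` on opens used by `resPush`. -/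
noncomputable def infFunctor (U : X.Opens) : X.Opensᵒᵖ ⥤ X.Opensᵒᵖ :=
  (Opens.map U.ι.base ⋙ U.ι.opensFunctor).op

/-- `resPush` on underlying presheaves is precomposition with `V ↦ U ∩ V`. -/
noncomputable def resPushPresheafIso (U : X.Opens) :
    ZClos.resPush U ⋙ Scheme.Modules.toPresheaf X ≅
      Scheme.Modules.toPresheaf X ⋙ (Functor.whiskeringLeft _ _ Ab.{u}).obj (infFunctor U) :=
  NatIso.ofComponents (fun M => NatIso.ofComponents (fun V => Iso.refl _)
    (fun _ => (Category.comp_id _).trans (Category.id_comp _).symm))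
    (fun _ => by ext; rfl)

instance toPresheaf_preservesLimitsOfSize0 :
    PreservesLimitsOfSize.{0, 0} (Scheme.Modules.toPresheaf X) :=
  preservesLimitsOfSize_shrink.{0, u, 0, u} _

instance hasLimitsOfSize0 : HasLimitsOfSize.{0, 0} X.Modules :=
  have : HasLimitsOfSize.{u, u} X.Modules := inferInstance
  hasSmallestLimitsOfHasLimits _

theorem resPush_preservesFiniteLimits (U : X.Opens) :
    PreservesFiniteLimits (ZClos.resPush U) := by
  refine ⟨fun J _ _ => ?_⟩
  have : HasLimitsOfShape J Ab.{u} := inferInstance
  have h1 : PreservesLimitsOfShape J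
      (Scheme.Modules.toPresheaf X ⋙ (Functor.whiskeringLeft _ _ Ab.{u}).obj (infFunctor U)) := by
    have : PreservesLimitsOfShape J ((Functor.whiskeringLeft _ _ Ab.{u}).obj (infFunctor U)) :=
      inferInstance
    have : PreservesLimitsOfShape J (Scheme.Modules.toPresheaf X) :=
      (inferInstance : PreservesLimitsOfSize.{0, 0} (Scheme.Modules.toPresheaf X)).preservesLimitsOfShape
    infer_instance
  have : HasLimitsOfShape J X.Modules :=
    (inferInstance : HasLimitsOfSize.{0, 0} X.Modules).has_limits_of_shape _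
  have : PreservesLimitsOfShape J (Scheme.Modules.toPresheaf X) :=
    (inferInstance : PreservesLimitsOfSize.{0, 0} (Scheme.Modules.toPresheaf X)).preservesLimitsOfShape
  have : ReflectsLimitsOfShape J (Scheme.Modules.toPresheaf X) :=
    reflectsLimitsOfShape_of_reflectsIsomorphisms
  have := preservesLimitsOfShape_of_natIso (J := J) (resPushPresheafIso U).symm
  exact preservesLimitsOfShape_of_reflects_of_preserves (ZClos.resPush U) (Scheme.Modules.toPresheaf X)

theorem diagram_preservesFiniteLimits (Z : Set X) : PreservesFiniteLimits (ZClos.diagram Z) := by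
  refine ⟨fun J _ _ => ?_⟩
  refine preservesLimitsOfShape_of_evaluation _ J fun T => ?_
  have := resPush_preservesFiniteLimits T.U
  exact preservesLimitsOfShape_of_natIso
    (NatIso.ofComponents (fun M => Iso.refl _) (fun _ => by
      simp only [Iso.refl_hom, Category.comp_id, Category.id_comp]; rfl) :
        ZClos.resPush T.U ≅ ZClos.diagram Z ⋙ (evaluation _ _).obj T)

instance hasExactColimitsCl (Z : Set X) : HasExactColimitsOfShape (ZClos.Cl Z) X.Modules :=
  inferInstanceAs (HasExactColimitsOfShape (ZClos.Cl Z) (SheafOfModules.{u} X.ringCatSheaf))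

theorem H0_preservesFiniteLimits (Z : Set X) : PreservesFiniteLimits (ZClos.H0 Z) := by
  have := diagram_preservesFiniteLimits Z
  exact comp_preservesFiniteLimits _ _

theorem isZPure_iff (Z : Set X) (F : X.Modules) :
    ZClos.IsZPure Z F ↔ ∀ T : ZClos.Cl Z, Mono (ZClos.toDiagram Z F T) := by
  constructor
  · intro h T
    have : Mono (ZClos.toDiagram Z F T ≫ colimit.ι _ T) := by
      rw [← ZClos.rhoApp_eq]; exact h
    exact mono_of_mono (ZClos.toDiagram Z F T) (colimit.ι _ T)
  · intro h
    let φ : (Functor.const (ZClos.Cl Z)).obj F ⟶ (ZClos.diagram Z).obj F :=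
      { app := fun T => ZClos.toDiagram Z F T
        naturality := fun T T' f => (Category.id_comp _).trans (ZClos.toDiagram_map Z F f).symm }
    have : ∀ T, Mono (φ.app T) := h
    have : Mono φ := NatTrans.mono_of_mono_app φ
    have hm : Mono (colim.map φ) := inferInstance
    have : ∀ (i j : ZClos.Cl Z) (f : i ⟶ j), IsIso (((Functor.const _).obj F).map f) :=
      fun _ _ _ => (inferInstance : IsIso (𝟙 F))
    have hconst : IsIso (colimit.ι ((Functor.const (ZClos.Cl Z)).obj F) ⊥) :=
      isIso_ι_of_isInitial (IsInitial.ofUniqueHom (fun T => homOfLE bot_le)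
        fun _ _ => Subsingleton.elim _ _) _
    have e : ZClos.rhoApp Z F = colimit.ι ((Functor.const (ZClos.Cl Z)).obj F) ⊥ ≫ colim.map φ := by
      rw [ZClos.rhoApp_eq Z F ⊥, colim_map, ι_colimMap]
    rw [ZClos.IsZPure, e]
    exact @mono_comp _ _ _ _ _ _ (IsIso.mono_of_iso _) _ hm

end Groth.Agent.ZClosLib
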