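import Groth.Agent.ZClosLib.Criteria
import Groth.Agent.FDesc.ProConsClosure
import Groth.Agent.LimTop.Cons
import Mathlib.AlgebraicGeometry.Noetherian
import Mathlib.Topology.Constructible

/-!
# Closures of locally closed subsets and locality of Z-purity
-/

universe u

open CategoryTheory CategoryTheory.Limits AlgebraicGeometry TopologicalSpace Opposite Topology

namespace Groth.Agent.ZClosLib

variable {X : Scheme.{u}}

lemma isConstructible_of_isOpen {T : Type*} [TopologicalSpace T] [NoetherianSpace T] {s : Set T}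
    (hs : IsOpen s) : IsConstructible s :=
  IsRetrocompact.isConstructible hs fun _ _ _ => NoetherianSpace.isCompact _

/-- In a locally Noetherian scheme locally closed subsets are locally constructible. -/
lemma isLocallyConstructible_of_isLocallyClosed [IsLocallyNoetherian X] {E : Set X}
    (hE : IsLocallyClosed E) : IsLocallyConstructible E := fun x => by
  obtain ⟨U, hU, hxU, -⟩ := exists_isAffineOpen_mem_and_subset (x := x) (U := ⊤) trivial
  have : IsNoetherianRing Γ(X, U) := IsLocallyNoetherian.component_noetherian ⟨U, hU⟩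
  have : NoetherianSpace U := noetherianSpace_of_isAffineOpen U hU
  refine ⟨U, U.isOpen.mem_nhds hxU, U.isOpen, ?_⟩
  obtain ⟨O, C, hO, hC, rfl⟩ := hE
  have h1 : IsConstructible (Subtype.val ⁻¹' O : Set (U : Set X)) :=
    @isConstructible_of_isOpen (U : Set X) _ this _ (hO.preimage continuous_subtype_val)
  have h2 : IsConstructible (Subtype.val ⁻¹' C : Set (U : Set X)) :=
    isConstructible_compl.mp (@isConstructible_of_isOpen (U : Set X) _ this _
      (hC.preimage continuous_subtype_val).isOpen_compl)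
  exact h1.inter h2

/-- The closure of a locally closed subset of `Z` is contained in `Z`. -/
lemma closure_subset [IsLocallyNoetherian X] {Z E : Set X} (hZ : StableUnderSpecialization Z)
    (hE : IsLocallyClosed E) (h : E ⊆ Z) : closure E ⊆ Z := fun y hy => by
  obtain ⟨z, hz, hzy⟩ := FDesc.ProConsClosure.exists_specializes_of_mem_closure
    (LimTop.isProConstructible_of_isLocallyConstructible
      (isLocallyConstructible_of_isLocallyClosed hE)) hy
  exact hZ hzy (h hz)

/-- The member of `Cl Z` generated by a locally closed subset of `Z`. -/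
def clOf [IsLocallyNoetherian X] {Z E : Set X} (hZ : StableUnderSpecialization Z)
    (hE : IsLocallyClosed E) (h : E ⊆ Z) : ZClos.Cl Z :=
  ⟨⟨closure E, isClosed_closure⟩, closure_subset hZ hE h⟩

lemma map_congr_eq (F : X.Modules) {A B B' : X.Opens} (e : B = B') (h : B ≤ A) (h' : B' ≤ A)
    (P : ∀ {α β : Type u}, (α → β) → Prop) :
    P (F.presheaf.map (homOfLE h).op) ↔ P (F.presheaf.map (homOfLE h').op) := by
  subst e; rfl

lemma restrict_resInf_iff (F : X.Modules) (V : X.Opens) (U : X.Opens) (U' W : V.toScheme.Opens)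
    (e : V.ι ⁻¹ᵁ U = U') (P : ∀ {α β : Type u}, (α → β) → Prop) :
    P (resInf ((Scheme.Modules.restrictFunctor V.ι).obj F) U' W) ↔ P (resInf F U (V.ι ''ᵁ W)) := by
  subst e
  refine Iff.trans ?_ (map_congr_eq F (A := V.ι ''ᵁ W) (B := V.ι ''ᵁ (W ⊓ V.ι ⁻¹ᵁ U)) ?_
    (V.ι.image_mono inf_le_left) inf_le_left P)
  · rfl
  · ext y
    constructor
    · rintro ⟨z, hz, rfl⟩
      exact ⟨⟨z, hz.1, rfl⟩, hz.2⟩
    · rintro ⟨⟨z, hz, rfl⟩, hy⟩
      exact ⟨z, ⟨hz, hy⟩, rfl⟩

/-- Transfer of a section criterion from `X` to an open subscheme. -/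
lemma sections_restrict [IsLocallyNoetherian X] {Z : Set X} (hZ : StableUnderSpecialization Z)
    (F : X.Modules) (V : X.Opens) (P : ∀ {α β : Type u}, (α → β) → Prop)
    (h : ∀ (T : ZClos.Cl Z) (W : X.Opens), W ≤ V → P (resInf F T.U W))
    (T' : ZClos.Cl (V.ι.base ⁻¹' Z)) (W : V.toScheme.Opens) :
    P (resInf ((Scheme.Modules.restrictFunctor V.ι).obj F) T'.U W) := by
  have hlc : IsLocallyClosed (V.ι.base '' (T'.1 : Set V.toScheme)) :=
    T'.1.isClosed.isLocallyClosed.image V.ι.isOpenEmbedding.toIsInducing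
      V.ι.isOpenEmbedding.isOpen_range.isLocallyClosed
  have hsub : V.ι.base '' (T'.1 : Set V.toScheme) ⊆ Z := Set.image_subset_iff.mpr T'.2
  refine (restrict_resInf_iff F V (clOf hZ hlc hsub).U T'.U W ?_ P).mpr (h _ _ ?_)
  ext1
  change V.ι.base ⁻¹' (closure (V.ι.base '' (T'.1 : Set V.toScheme)))ᶜ = (T'.1 : Set V.toScheme)ᶜ
  rw [Set.preimage_compl, V.ι.isOpenEmbedding.isOpenMap.preimage_closure_eq_closure_preimage
    V.ι.continuous, Set.preimage_image_eq _ V.ι.isOpenEmbedding.injective, T'.1.isClosed.closure_eq]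
  exact fun _ ⟨z, _, e⟩ => e ▸ z.2

/-- Transfer of a section criterion from the members of an open cover to `X`. -/
lemma sections_of_cover {Z : Set X} (F : X.Modules) {ι : Type*} (V : ι → X.Opens)
    (hV : iSup V = ⊤) (P : ∀ {α β : Type u}, (α → β) → Prop)
    (h : ∀ i (T' : ZClos.Cl ((V i).ι.base ⁻¹' Z)) (W : (V i).toScheme.Opens),
      P (resInf ((Scheme.Modules.restrictFunctor (V i).ι).obj F) T'.U W))
    (T : ZClos.Cl Z) (x : X) (W : X.Opens) (hx : x ∈ W) :
    ∃ W' : X.Opens, x ∈ W' ∧ W' ≤ W ∧ P (resInf F T.U W') := by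
  obtain ⟨i, hi⟩ := Opens.mem_iSup.mp (hV.ge (Set.mem_univ x) : x ∈ iSup V)
  refine ⟨(V i).ι ''ᵁ (V i).ι ⁻¹ᵁ W, ⟨⟨x, hi⟩, hx, rfl⟩, (V i).ι.image_preimage_le W, ?_⟩
  exact (restrict_resInf_iff F (V i) T.U _ _ rfl P).mp
    (h i ⟨⟨(V i).ι.base ⁻¹' (T.1 : Set X), T.1.isClosed.preimage (V i).ι.continuous⟩,
      Set.preimage_mono T.2⟩ _)

theorem isZPure_iff_openCover [IsLocallyNoetherian X] {Z : Set X}
    (hZ : StableUnderSpecialization Z) (F : X.Modules) {ι : Type u} (V : ι → X.Opens)
    (hV : iSup V = ⊤) :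
    ZClos.IsZPure Z F ↔
      ∀ i, ZClos.IsZPure ((V i).ι.base ⁻¹' Z) ((Scheme.Modules.restrictFunctor (V i).ι).obj F) :=
  ⟨fun h i => (isZPure_iff_sections _ _).mpr
      (sections_restrict hZ F (V i) Function.Injective fun T W _ => (isZPure_iff_sections Z F).mp h T W),
    fun h => isZPure_of_local Z F (sections_of_cover F V hV Function.Injective
      fun i => (isZPure_iff_sections _ _).mp (h i))⟩

theorem isZClosed_iff_openCover [IsLocallyNoetherian X] {Z : Set X}
    (hZ : StableUnderSpecialization Z) (F : X.Modules) {ι : Type u} (V : ι → X.Opens)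
    (hV : iSup V = ⊤) :
    ZClos.IsZClosed Z F ↔
      ∀ i, ZClos.IsZClosed ((V i).ι.base ⁻¹' Z) ((Scheme.Modules.restrictFunctor (V i).ι).obj F) :=
  ⟨fun h i => (isZClosed_iff_sections _ _).mpr
      (sections_restrict hZ F (V i) Function.Bijective fun T W _ => (isZClosed_iff_sections Z F).mp h T W),
    fun h => isZClosed_of_local Z F (sections_of_cover F V hV Function.Bijective
      fun i => (isZClosed_iff_sections _ _).mp (h i))⟩

end Groth.Agent.ZClosLib
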