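import Groth.Agent.ZClosLib.Coherent
import Groth.Agent.ZClosLib.Local
import Mathlib.AlgebraicGeometry.Properties

/-!
# Consequences of the coherence of the Z-closure
-/

universe u

open CategoryTheory CategoryTheory.Limits AlgebraicGeometry TopologicalSpace Opposite

namespace Groth.Agent.ZClosLib.CohConsequences

open Groth.Agent.PullStalk.Sky Groth.Agent.PullStalk.Exact
open HomIdeal StalkCrit

variable {X : Scheme.{u}} [IsLocallyNoetherian X]

/-- A morphism as a linear map on sections. -/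
noncomputable def appLin {F G : X.Modules} (φ : F ⟶ G) (W : X.Opens) :
    Γ(F, W) →ₗ[Γ(X, W)] Γ(G, W) where
  toFun := φ.app W
  map_add' := map_add (φ.app W).hom
  map_smul' := Scheme.Modules.Hom.app_smul φ

/-- The points where a morphism of coherent modules is bijective on stalks form an open set. -/
theorem exists_nhd_stalk_bijective {F G : X.Modules} [F.IsQuasicoherent]
    [SheafOfModules.IsFiniteType.{u} F] [G.IsQuasicoherent] [SheafOfModules.IsFiniteType.{u} G]
    (φ : F ⟶ G) (x : X) (h : Function.Bijective (stalkLin φ x)) :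
    ∃ V : X.Opens, x ∈ V ∧ ∀ z ∈ V, Function.Bijective (stalkLin φ z) := by
  obtain ⟨W, hW, hx, -⟩ := exists_isAffineOpen_mem_and_subset (Opens.mem_top x)
  have := QCoh.finite_sections_of_isFiniteType F hW
  have hG := QCoh.finite_sections_of_isFiniteType G hW
  have := isNoetherianRing hW
  let l := appLin φ W
  obtain ⟨n, m, hm⟩ := Submodule.fg_iff_exists_fin_generating_family.mp
    (IsNoetherian.noetherian (LinearMap.ker l))
  obtain ⟨g₁, hg₁, hg₁'⟩ := Open.exists_kill hx hW m fun i => h.1 (by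
    rw [stalkLin_germ, map_zero, show φ.app W (m i) = 0 from
      (hm ▸ Submodule.subset_span ⟨i, rfl⟩ : m i ∈ LinearMap.ker l)]
    exact AssSch.Stalk.germM_zero G x hx)
  obtain ⟨p, e, he⟩ := Submodule.fg_iff_exists_fin_generating_family.mp hG.1
  have key : ∀ j, ∃ g : Γ(X, W), g ∉ AssSch.Stalk.primeOf hW x hx ∧ g • e j ∈ LinearMap.range l := by
    intro j
    obtain ⟨a, ha⟩ := h.2 (germM G W x hx (e j))
    obtain ⟨s, b, hs, hb⟩ := AssSch.Stalk.exists_germ_smul_eq F hW x hx a
    obtain ⟨g, hg, hg'⟩ := Open.exists_kill hx hW (fun _ : Unit => s • e j - φ.app W b) fun _ => by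
      refine (map_sub (G.presheaf.germ W x hx).hom _ _).trans (sub_eq_zero.mpr ?_)
      change germM G W x hx (s • e j) = germM G W x hx (φ.app W b)
      rw [germM_smul, ← ha, ← map_smul, hb, stalkLin_germ]
    refine ⟨g * s, Open.not_mem_mul hx hg hs, g • b, ?_⟩
    rw [map_smul, mul_smul]
    have := hg' ()
    rw [smul_sub, sub_eq_zero] at this
    exact this.symm
  choose g hg hg' using key
  let g₂ := g₁ * ∏ j, g j
  have hg₂ : g₂ ∉ AssSch.Stalk.primeOf hW x hx := Open.not_mem_mul hx hg₁ fun hp => by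
    obtain ⟨j, -, hj⟩ := (Ideal.IsPrime.prod_mem_iff (hp := inferInstance)).mp hp
    exact hg j hj
  have hker : ∀ b : Γ(F, W), φ.app W b = 0 → g₂ • b = 0 := fun b hb => by
    have hb' : b ∈ Submodule.span Γ(X, W) (Set.range m) := hm.symm ▸ (hb : b ∈ LinearMap.ker l)
    clear hb
    induction hb' using Submodule.span_induction with
    | mem b hb' =>
      obtain ⟨i, rfl⟩ := hb'
      rw [show g₂ = (∏ j, g j) * g₁ from mul_comm _ _, mul_smul, hg₁', smul_zero]
    | zero => exact smul_zero _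
    | add a c _ _ iha ihc => rw [smul_add, iha, ihc, add_zero]
    | smul r a _ iha => rw [smul_comm, iha, smul_zero]
  have hrange : ∀ t : Γ(G, W), g₂ • t ∈ LinearMap.range l := fun t => by
    have ht : t ∈ Submodule.span Γ(X, W) (Set.range e) := he.symm ▸ trivial
    induction ht using Submodule.span_induction with
    | mem t ht =>
      obtain ⟨j, rfl⟩ := ht
      rw [show g₂ = (g₁ * ∏ i ∈ Finset.univ.erase j, g i) * g j by
        rw [mul_assoc, Finset.prod_erase_mul _ _ (Finset.mem_univ j)], mul_smul]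
      exact Submodule.smul_mem _ _ (hg' j)
    | zero => rw [smul_zero]; exact zero_mem _
    | add a c _ _ iha ihc => rw [smul_add]; exact add_mem iha ihc
    | smul r a _ iha => rw [smul_comm]; exact Submodule.smul_mem _ _ iha
  refine ⟨X.basicOpen g₂, (AssSch.Stalk.mem_basicOpen_iff hW x hx g₂).mpr hg₂, fun z hz => ?_⟩
  have hzW : z ∈ W := X.basicOpen_le g₂ hz
  have hgz := (AssSch.Stalk.mem_basicOpen_iff hW z hzW g₂).mp hz
  refine ⟨(injective_iff_map_eq_zero _).mpr fun t ht => ?_, fun t => ?_⟩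
  · obtain ⟨s, b, hs, hb⟩ := AssSch.Stalk.exists_germ_smul_eq F hW z hzW t
    have hb' : germM G W z hzW (φ.app W b) = 0 := by
      rw [← stalkLin_germ φ W z hzW b, ← hb, map_smul, ht, smul_zero]
    obtain ⟨k, hk, hkb⟩ := (AssSch.Stalk.germM_eq_zero_iff G hW z hzW _).mp hb'
    have h0 : germM F W z hzW b = 0 := (AssSch.Stalk.germM_eq_zero_iff F hW z hzW b).mpr
      ⟨g₂ * k, Open.not_mem_mul hzW hgz hk, by
        rw [mul_smul]
        exact hker _ (((appLin φ W).map_smul k b).trans hkb)⟩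
    exact (Open.germ_pow_ne hzW hs).smul_eq_zero.mp (hb.trans h0)
  · obtain ⟨s, b, hs, hb⟩ := AssSch.Stalk.exists_germ_smul_eq G hW z hzW t
    obtain ⟨a, ha⟩ := hrange b
    obtain ⟨u, hu⟩ := Open.germ_pow_ne hzW (Open.not_mem_mul hzW hgz hs)
    refine ⟨(↑u⁻¹ : X.presheaf.stalk z) • germM F W z hzW a, ?_⟩
    rw [map_smul, stalkLin_germ, show φ.app W a = g₂ • b from ha, germM_smul, ← hb, smul_smul,
      smul_smul, mul_assoc, ← map_mul, ← hu, Units.inv_mul, one_smul]

/-- Closedness of the restriction to an open, read on stalks. -/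
theorem isZClosed_restrict_iff {Z : Set X} (hZ : StableUnderSpecialization Z) (F : X.Modules)
    [F.IsQuasicoherent] (V : X.Opens) :
    ZClos.IsZClosed (V.ι.base ⁻¹' Z) ((Scheme.Modules.restrictFunctor V.ι).obj F) ↔
      ∀ x ∈ V, ∀ T : ZClos.Cl Z, IdealClosed (stalkIdeal T.1 x) (F.presheaf.stalk x) := by
  rw [isZClosed_iff_sections]
  constructor
  · intro h x hx T
    obtain ⟨_, ⟨W, hW, rfl⟩, hxW, hWV⟩ :=
      X.isBasis_affineOpens.exists_subset_of_mem_open (show x ∈ (V : Set X) from hx) V.isOpen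
    have hW : IsAffineOpen W := hW
    have hWV : W ≤ V := hWV
    have e : V.ι ''ᵁ V.ι ⁻¹ᵁ W = W := by
      rw [ZClos.ι_image_preimage]; exact inf_eq_right.mpr hWV
    have h1 := (restrict_resInf_iff F V T.U _ (V.ι ⁻¹ᵁ W) rfl Function.Bijective).mp
      (h ⟨⟨V.ι.base ⁻¹' (T.1 : Set X), T.1.isClosed.preimage V.ι.continuous⟩,
        Set.preimage_mono T.2⟩ _)
    rw [e] at h1
    exact idealClosed_stalk hW T.1 hxW F (idealClosed_of_resInf hW T.1 F h1)
  · intro h
    exact sections_restrict hZ F V Function.Bijective fun T W hWV =>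
      resInf_bijective T.1 F fun y hy => h y (hWV hy) T

variable {Z : Set X} (hZ : StableUnderSpecialization Z) (F : X.Modules)

include hZ

/-- The open set of points where `F` is Z-closed, for coherent Z-closure. -/
theorem exists_closed_locus (hF : Coh.IsCoh F) (hH : Coh.IsCoh ((ZClos.H0 Z).obj F)) :
    ∃ U : X.Opens, (U : Set X) = {x | ∀ x' : X, x' ⤳ x → x' ∈ Z →
        (2 : ℕ∞) ≤ LocCoh.depth (X.presheaf.stalk x') (F.presheaf.stalk x')} ∧
      (U : Set X)ᶜ ⊆ Z ∧
      ZClos.IsZClosed (U.ι.base ⁻¹' Z) ((Scheme.Modules.restrictFunctor U.ι).obj F) ∧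
      ∀ V : X.Opens, ZClos.IsZClosed (V.ι.base ⁻¹' Z) ((Scheme.Modules.restrictFunctor V.ι).obj F) →
        V ≤ U := by
  have : F.IsQuasicoherent := hF.1
  have : SheafOfModules.IsFiniteType.{u} F := hF.2
  have : ((ZClos.H0 Z).obj F).IsQuasicoherent := hH.1
  have : SheafOfModules.IsFiniteType.{u} ((ZClos.H0 Z).obj F) := hH.2
  have heq := fun x => Coherent.rho_bijective_iff_depth F hZ x
  refine ⟨⟨{x | ∀ x' : X, x' ⤳ x → x' ∈ Z →
      (2 : ℕ∞) ≤ LocCoh.depth (X.presheaf.stalk x') (F.presheaf.stalk x')}, ?_⟩, rfl, ?_, ?_, ?_⟩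
  · refine isOpen_iff_forall_mem_open.mpr fun x hx => ?_
    obtain ⟨V, hxV, hV⟩ := exists_nhd_stalk_bijective (ZClos.rhoApp Z F) x ((heq x).mpr hx)
    exact ⟨V, fun z hz => (heq z).mp (hV z hz), V.isOpen, hxV⟩
  · exact fun x hx => Classical.byContradiction fun hxZ =>
      hx ((heq x).mp (rho_stalk_bijective Z F hxZ))
  · exact (isZClosed_restrict_iff hZ F _).mpr fun x hx =>
      (Coherent.rho_bijective_iff Z F x).mp ((heq x).mpr hx)
  · exact fun V hV x hx => (heq x).mp
      ((Coherent.rho_bijective_iff Z F x).mpr ((isZClosed_restrict_iff hZ F V).mp hV x hx))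

/-- Coherence of the Z-closure gives coherence of the direct images from the complements. -/
theorem isCoh_resPush (hF : Coh.IsCoh F) (hass : ∀ x ∈ _root_.AssSch.Ass F, x ∉ Z)
    (hH : Coh.IsCoh ((ZClos.H0 Z).obj F)) (T : ZClos.Cl Z) :
    Coh.IsCoh ((ZClos.resPush T.U).obj F) := by
  have : F.IsQuasicoherent := hF.1
  have : SheafOfModules.IsFiniteType.{u} F := hF.2
  have : ((ZClos.H0 Z).obj F).IsQuasicoherent := hH.1
  have : SheafOfModules.IsFiniteType.{u} ((ZClos.H0 Z).obj F) := hH.2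
  have hpure : ∀ (S : ZClos.Cl Z) (V : X.Opens), Function.Injective (resInf F S.U V) := fun S V =>
    resInf_injective S.1 F fun y _ => (DepthCrit.idealPure_stalk_iff _ F hF y).mpr fun z _ hz => by
      have := FDesc.QuasiFlat.finite_stalk_of_isCoh F hF z
      refine Order.one_le_iff_pos.mpr (pos_iff_ne_zero.mpr fun h0 => ?_)
      obtain ⟨p, hp, hle⟩ := Depth.idealDepth_eq_zero_iff.mp h0
      exact hass z ((IsLocalRing.maximalIdeal.isMaximal _).eq_of_le
        (Depth.isPrime_of_mem_associatedPrimes hp).ne_top hle ▸ hp :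
          IsLocalRing.maximalIdeal (X.presheaf.stalk z) ∈ associatedPrimes _ _) (S.2 hz)
  have := isQuasicoherent_resPush T.U F
  refine ⟨this, (QCoh.isFiniteType_iff _).mpr fun W hW => ?_⟩
  have := QCoh.finite_sections_of_isFiniteType ((ZClos.H0 Z).obj F) hW
  have := isNoetherianRing hW
  let ι' : (ZClos.resPush T.U).obj F ⟶ (ZClos.H0 Z).obj F := colimit.ι ((ZClos.diagram Z).obj F) T
  refine Module.Finite.of_injective (appLin ι' W)
    ((injective_iff_map_eq_zero _).mpr fun s hs => ?_)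
  obtain ⟨T', hT, e⟩ := (secH0_eq_zero_iff Z F hW.isCompact T s).mp hs
  refine hpure T' (T.U.ι ''ᵁ T.U.ι ⁻¹ᵁ W) (Eq.trans ?_ (map_zero _).symm)
  have heq : T'.U.ι ''ᵁ T'.U.ι ⁻¹ᵁ W = T.U.ι ''ᵁ T.U.ι ⁻¹ᵁ W ⊓ T'.U := by
    rw [ι_image_preimage', ι_image_preimage', inf_right_comm, inf_eq_right.mpr (ZClos.Cl.U_anti hT)]
  have := (congrArg (F.presheaf.map (eqToHom heq.symm).op) e).trans
    (map_zero (F.presheaf.map (eqToHom heq.symm).op).hom)
  exact (FilteredSections.res_res (M := F) (ZClos.trIncl (ZClos.Cl.U_anti hT) W)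
    (eqToHom heq.symm) (homOfLE inf_le_left) s).symm.trans this

end Groth.Agent.ZClosLib.CohConsequences
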