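import Groth.Agent.ZClosLib.HullModule
import Groth.Agent.ZClosLib.S2
import Groth.Agent.ZClosLib.FlatBC
import Groth.Agent.QCoh.FiniteType
import Mathlib.CategoryTheory.Limits.Shapes.Terminal

/-!
Finiteness of the sections of the Z-closure over affine opens.
-/

universe u

open CategoryTheory CategoryTheory.Limits AlgebraicGeometry TopologicalSpace Opposite

namespace Groth.Agent.ZClosLib.H0Finite

open Groth.Agent.PullStalk.Sky Groth.Agent.PullStalk.Exact
open HomIdeal StalkCrit HullModule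

variable {X : Scheme.{u}} [IsLocallyNoetherian X] {Z : Set X}

omit [IsLocallyNoetherian X] in
lemma primeIdealOf_affinePt {W : X.Opens} (hW : IsAffineOpen W) (q : PrimeSpectrum Γ(X, W)) :
    ∃ h : affinePt hW q ∈ W, hW.primeIdealOf ⟨affinePt hW q, h⟩ = q := by
  have h : affinePt hW q ∈ W := hW.range_fromSpec.le ⟨q, rfl⟩
  exact ⟨h, hW.fromSpec.isOpenEmbedding.injective (affinePt_primeIdealOf hW _ h)⟩

/-- The members of the index realise every ideal supported in `Z`. -/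
lemma idealClosed_of_supp (hZ : StableUnderSpecialization Z) (H : X.Modules)
    (hH : ZClos.IsZClosed Z H) {W : X.Opens} (hW : IsAffineOpen W) (J : Ideal Γ(X, W))
    (hJ : Supp (affinePt hW ⁻¹' Z) J) : IdealClosed J Γ(H, W) := by
  let C : Set X := (⋃ a ∈ J, (X.basicOpen a : Set X))ᶜ
  have hC : IsClosed C :=
    (isOpen_biUnion fun a _ => (X.basicOpen a).isOpen).isClosed_compl
  have hlc : IsLocallyClosed ((W : Set X) ∩ C) := ⟨W, C, W.isOpen, hC, rfl⟩
  have hmem : ∀ (y : X) (hy : y ∈ W), y ∈ C ↔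
      hW.primeIdealOf ⟨y, hy⟩ ∈ PrimeSpectrum.zeroLocus (J : Set Γ(X, W)) := by
    intro y hy
    refine ⟨fun h a ha => by_contra fun hn => h ?_, fun h h' => ?_⟩
    · exact Set.mem_biUnion ha ((AssSch.Stalk.mem_basicOpen_iff hW y hy a).2 hn)
    · obtain ⟨a, ha, hya⟩ := Set.mem_iUnion₂.1 h'
      exact (AssSch.Stalk.mem_basicOpen_iff hW y hy a).1 hya (h ha)
  have hsub : (W : Set X) ∩ C ⊆ Z := fun y hy => by
    have := hJ ((hmem y hy.1).1 hy.2)
    rwa [Set.mem_preimage, affinePt_primeIdealOf hW y hy.1] at this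
  let T := clOf hZ hlc hsub
  have hT := idealClosed_of_resInf hW T.1 H ((isZClosed_iff_sections Z H).1 hH T W)
  have : IsNoetherianRing Γ(X, W) := isNoetherianRing hW
  have hle : affineIdeal hW T.1 ≤ J.radical := by
    rw [← PrimeSpectrum.vanishingIdeal_zeroLocus_eq_radical, affineIdeal]
    refine PrimeSpectrum.vanishingIdeal_anti_mono fun q hq => subset_closure ?_
    obtain ⟨h, e⟩ := primeIdealOf_affinePt hW q
    exact ⟨h, (hmem _ h).2 (e.symm ▸ hq)⟩
  obtain ⟨n, hn⟩ := Ideal.exists_pow_le_of_le_radical_of_fg hle (IsNoetherian.noetherian _)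
  exact hT.of_pow_le hn

variable (hZ : StableUnderSpecialization Z) (F : X.Modules) (hF : Coh.IsCoh F)

include hF in
lemma supp_of_germ_eq_zero {W : X.Opens} (hW : IsAffineOpen W) (m : Γ(F, W))
    (h : ∀ (y : X) (hy : y ∈ W), y ∉ Z → germM F W y hy m = 0) :
    Supp (affinePt hW ⁻¹' Z) (Submodule.colon (⊥ : Submodule Γ(X, W) Γ(F, W)) {m}) := by
  have : F.IsQuasicoherent := hF.1
  intro q hq
  by_contra hqZ
  obtain ⟨hy, e⟩ := primeIdealOf_affinePt hW q
  obtain ⟨g, hg, hgm⟩ := (AssSch.Stalk.germM_eq_zero_iff F hW _ hy m).1 (h _ hy hqZ)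
  exact (e ▸ hg : g ∉ q.asIdeal)
    (hq (Submodule.mem_colon_singleton.2 ((Submodule.mem_bot _).2 hgm)))

include hZ hF in
/-- Sections of the closure are finite when homomorphisms out of ideals supported in `Z` extend,
for the quotients by the associated primes outside `Z`. -/
theorem finite_sections {W : X.Opens} (hW : IsAffineOpen W)
    (hext : ∀ q : PrimeSpectrum Γ(X, W), q.asIdeal ∈ associatedPrimes Γ(X, W) Γ(F, W) →
      q ∉ affinePt hW ⁻¹' Z → Extends (affinePt hW ⁻¹' Z) (Γ(X, W) ⧸ q.asIdeal)) :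
    Module.Finite Γ(X, W) Γ((ZClos.H0 Z).obj F, W) := by
  let H := (ZClos.H0 Z).obj F
  have : F.IsQuasicoherent := hF.1
  have : SheafOfModules.IsFiniteType.{u} F := hF.2
  have : H.IsQuasicoherent := isQuasicoherent_H0 Z F
  have : IsNoetherianRing Γ(X, W) := isNoetherianRing hW
  have := QCoh.finite_sections_of_isFiniteType F hW
  let ρ : Γ(F, W) →ₗ[Γ(X, W)] Γ(H, W) := CohConsequences.appLin (ZClos.rhoApp Z F) W
  have hρ : ∀ (y : X) (hy : y ∈ W) (m : Γ(F, W)),
      stalkLin (ZClos.rhoApp Z F) y (germM F W y hy m) = germM H W y hy (ρ m) :=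
    fun y hy m => stalkLin_germ (ZClos.rhoApp Z F) W y hy m
  have hclosed := fun J hJ => idealClosed_of_supp hZ H (isZClosed_H0 Z F) hW J hJ
  have hker : ∀ m, ρ m = 0 →
      Supp (affinePt hW ⁻¹' Z) ((⊥ : Submodule Γ(X, W) Γ(F, W)).colon {m}) := fun m hm =>
    supp_of_germ_eq_zero F hF hW m fun y hy hyZ => (rho_stalk_bijective Z F hyZ).1 (by
      rw [hρ y hy m, hm, map_zero]; exact AssSch.Stalk.germM_zero H y hy)
  obtain ⟨I₀, hI₀, hext⟩ := extends_range
    (fun x y hxy hx => hZ (((PrimeSpectrum.le_iff_specializes x y).1 hxy).map (continuous_affinePt hW)) hx)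
    ρ (fun J hJ => (hclosed J hJ).1) hker hext
  let L := LinearMap.range ρ
  choose σ hσ using fun ψ : I₀ →ₗ[Γ(X, W)] L => (hclosed I₀ hI₀).2 (L.subtype ∘ₗ ψ)
  have huniq : ∀ (ψ : I₀ →ₗ[Γ(X, W)] L) (τ : Γ(H, W)),
      (∀ a : I₀, (a : Γ(X, W)) • τ = (ψ a : Γ(H, W))) → σ ψ = τ := fun ψ τ h =>
    sub_eq_zero.1 ((hclosed I₀ hI₀).1 _ fun a ha => by
      rw [smul_sub, sub_eq_zero, h ⟨a, ha⟩]
      exact (hσ ψ ⟨a, ha⟩).symm)
  let E : (I₀ →ₗ[Γ(X, W)] L) →ₗ[Γ(X, W)] Γ(H, W) :=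
    { toFun := σ
      map_add' := fun ψ ψ' => huniq _ _ fun a => by
        rw [smul_add, ← hσ ψ a, ← hσ ψ' a]
        rfl
      map_smul' := fun r ψ => huniq _ _ fun a => by
        rw [RingHom.id_apply, smul_comm, ← hσ ψ a]
        rfl }
  have : Module.Finite Γ(X, W) I₀ := Module.Finite.iff_fg.2 (IsNoetherian.noetherian _)
  have : IsNoetherian Γ(X, W) (I₀ →ₗ[Γ(X, W)] L) := inferInstance
  refine Module.Finite.of_surjective E fun τ => ?_
  let K : Ideal Γ(X, W) := L.comap (LinearMap.toSpanSingleton Γ(X, W) Γ(H, W) τ)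
  have hK : Supp (affinePt hW ⁻¹' Z) K := by
    intro q hq
    by_contra hqZ
    obtain ⟨hy, e⟩ := primeIdealOf_affinePt hW q
    obtain ⟨t, ht⟩ := (rho_stalk_bijective Z F hqZ).2 (germM H W _ hy τ)
    obtain ⟨g, s, hg, hgs⟩ := AssSch.Stalk.exists_germ_smul_eq F hW _ hy t
    have h0 : germM H W _ hy (g • τ - ρ s) = 0 := by
      refine (map_sub (H.presheaf.germ W _ hy).hom _ _).trans (sub_eq_zero.2 ?_)
      change germM H W _ hy (g • τ) = germM H W _ hy (ρ s)
      rw [← hρ _ hy s, ← hgs, map_smul, ht, germM_smul]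
    obtain ⟨g', hg', hg0⟩ := (AssSch.Stalk.germM_eq_zero_iff H hW _ hy _).1 h0
    have hgK : g' * g ∈ K := ⟨g' • s, by
      rw [map_smul, LinearMap.toSpanSingleton_apply, mul_smul]
      rw [smul_sub, sub_eq_zero] at hg0
      exact hg0.symm⟩
    exact (hW.primeIdealOf ⟨_, hy⟩).isPrime.mem_or_mem
      ((congrArg PrimeSpectrum.asIdeal e).ge (hq hgK) : g' * g ∈ AssSch.Stalk.primeOf hW _ hy) |>.elim hg' hg
  obtain ⟨ψ, hψ⟩ := hext K hK (((LinearMap.toSpanSingleton Γ(X, W) Γ(H, W) τ).domRestrict K).codRestrict L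
    fun a => a.2)
  refine ⟨ψ, ?_⟩
  refine sub_eq_zero.1 ((hclosed _ (supp_inf hI₀ hK)).1 _ fun a ha => ?_)
  rw [smul_sub, sub_eq_zero]
  refine (hσ ψ ⟨a, ha.1⟩).symm.trans ?_
  rw [LinearMap.comp_apply, hψ a ha.1 ha.2]
  rfl

include hZ hF in
/-- The closure is coherent when the extension property holds on an affine cover. -/
theorem isCoh_H0 (h : ∀ x : X, ∃ (W : X.Opens) (hW : IsAffineOpen W), x ∈ W ∧
      ∀ q : PrimeSpectrum Γ(X, W), q.asIdeal ∈ associatedPrimes Γ(X, W) Γ(F, W) →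
        q ∉ affinePt hW ⁻¹' Z → Extends (affinePt hW ⁻¹' Z) (Γ(X, W) ⧸ q.asIdeal)) :
    Coh.IsCoh ((ZClos.H0 Z).obj F) := by
  have : F.IsQuasicoherent := hF.1
  have : ((ZClos.H0 Z).obj F).IsQuasicoherent := isQuasicoherent_H0 Z F
  refine ⟨this, QCoh.isFiniteType_of_forall_exists _ fun x => ?_⟩
  obtain ⟨W, hW, hx, hext⟩ := h x
  exact ⟨W, hW, hx, finite_sections hZ F hF hW hext⟩

omit [IsLocallyNoetherian X] in
/-- For a closed set the closure is the direct image from the complement. -/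
theorem isCoh_H0_closeds (T : Closeds X) (h : Coh.IsCoh ((ZClos.resPush T.compl).obj F)) :
    Coh.IsCoh ((ZClos.H0 (T : Set X)).obj F) := by
  let T₀ : ZClos.Cl (T : Set X) := ⟨T, subset_rfl⟩
  have hterm : IsTerminal T₀ :=
    IsTerminal.ofUniqueHom (fun S => homOfLE (show S ≤ T₀ from fun x hx => S.2 hx))
      fun _ _ => Subsingleton.elim _ _
  let G := (ZClos.diagram (T : Set X)).obj F
  have hi : IsIso (colimit.ι G T₀) := isIso_ι_of_isTerminal hterm G
  exact FlatBC.isCoh_of_iso (@asIso _ _ _ _ (colimit.ι G T₀) hi) h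

/-- Heights in the quotient by a generisation. -/
theorem two_le_height_map {W : X.Opens} (hW : IsAffineOpen W) {x y : X} (hx : x ∈ W) (hy : y ∈ W)
    (h : x ⤳ y) (hd : (2 : WithBot ℕ∞) ≤ ringKrullDim (X.presheaf.stalk y ⧸
      (IsLocalRing.maximalIdeal (X.presheaf.stalk x)).comap (X.presheaf.stalkSpecializes h).hom)) :
    (2 : ℕ∞) ≤ ((AssSch.Stalk.primeOf hW y hy).map
      (Ideal.Quotient.mk (AssSch.Stalk.primeOf hW x hx))).height := by
  let O := X.presheaf.stalk y
  let P : Ideal O :=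
    (IsLocalRing.maximalIdeal (X.presheaf.stalk x)).comap (X.presheaf.stalkSpecializes h).hom
  let gy := (X.presheaf.germ W y hy).hom
  have hgx : ((X.presheaf.stalkSpecializes h).hom).comp gy = (X.presheaf.germ W x hx).hom :=
    congrArg CommRingCat.Hom.hom (X.presheaf.germ_stalkSpecializes hy h)
  have hP : P.comap gy = AssSch.Stalk.primeOf hW x hx := by
    rw [Ideal.comap_comap, hgx]
    ext a
    rw [Ideal.mem_comap, IsLocalRing.mem_maximalIdeal, mem_nonunits_iff]
    exact (not_congr (AssSch.Stalk.isUnit_germ_iff hW x hx a)).trans not_not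
  let f : Γ(X, W) ⧸ AssSch.Stalk.primeOf hW x hx →+* O ⧸ P :=
    Ideal.Quotient.lift _ ((Ideal.Quotient.mk P).comp gy) fun a ha =>
      Ideal.Quotient.eq_zero_iff_mem.2 (hP.ge ha)
  have hPm : P ≤ IsLocalRing.maximalIdeal O :=
    IsLocalRing.le_maximalIdeal (Ideal.IsPrime.ne_top inferInstance)
  have : IsLocalRing (O ⧸ P) := IsLocalRing.of_surjective' _ Ideal.Quotient.mk_surjective
  let m : PrimeSpectrum (O ⧸ P) := IsLocalRing.closedPoint _
  let ybar := PrimeSpectrum.comap f m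
  have : m.asIdeal.IsMaximal := IsLocalRing.maximalIdeal.isMaximal _
  have hmono : StrictMono (PrimeSpectrum.comap f) := by
    refine Monotone.strictMono_of_injective (fun a b hab => Ideal.comap_mono hab) fun a b hab => ?_
    apply PrimeSpectrum.comap_injective_of_surjective _ Ideal.Quotient.mk_surjective
    let _ : Algebra Γ(X, W) O := gy.toAlgebra
    have : IsLocalization.AtPrime O (AssSch.Stalk.primeOf hW y hy) :=
      hW.isLocalization_stalk ⟨y, hy⟩
    apply PrimeSpectrum.localization_comap_injective O (AssSch.Stalk.primeOf hW y hy).primeCompl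
    exact congrArg (PrimeSpectrum.comap (Ideal.Quotient.mk _)) hab
  have hybar : ybar.asIdeal =
      (AssSch.Stalk.primeOf hW y hy).map (Ideal.Quotient.mk (AssSch.Stalk.primeOf hW x hx)) := by
    rw [← Ideal.map_comap_of_surjective _ Ideal.Quotient.mk_surjective ybar.asIdeal]
    congr 1
    change ((m.asIdeal.comap f).comap (Ideal.Quotient.mk _)) = _
    rw [Ideal.comap_comap, Ideal.Quotient.lift_comp_mk, ← Ideal.comap_comap]
    rw [show m.asIdeal.comap (Ideal.Quotient.mk P) = IsLocalRing.maximalIdeal O from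
      IsLocalRing.eq_maximalIdeal (Ideal.comap_isMaximal_of_surjective _ Ideal.Quotient.mk_surjective)]
    ext a
    rw [Ideal.mem_comap, IsLocalRing.mem_maximalIdeal, mem_nonunits_iff]
    exact (not_congr (AssSch.Stalk.isUnit_germ_iff hW y hy a)).trans not_not
  rw [← hybar, PrimeSpectrum.height_eq_orderHeight]
  refine le_trans ?_ (Order.height_le_height_apply_of_strictMono _ hmono m)
  rw [← PrimeSpectrum.height_eq_orderHeight]
  rw [← IsLocalRing.maximalIdeal_height_eq_ringKrullDim] at hd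
  exact WithBot.coe_le_coe.1 hd

include hF in
theorem mem_ass_affinePt {W : X.Opens} (hW : IsAffineOpen W) {q : PrimeSpectrum Γ(X, W)}
    (hq : q.asIdeal ∈ associatedPrimes Γ(X, W) Γ(F, W)) : affinePt hW q ∈ _root_.AssSch.Ass F := by
  have : F.IsQuasicoherent := hF.1
  obtain ⟨h, e⟩ := primeIdealOf_affinePt hW q
  exact (AssSch.Stalk.mem_ass_iff F hW _ h).2
    (Eq.mpr (congrArg (· ∈ associatedPrimes Γ(X, W) Γ(F, W)) (congrArg PrimeSpectrum.asIdeal e)) hq)

include hZ hF in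
/-- The second sufficient condition for coherence of the closure. -/
theorem isCoh_H0_of_family (hass : ∀ x ∈ _root_.AssSch.Ass F, x ∉ Z)
    (hfin : ∀ (V : X.Opens) (hV : IsAffineOpen V) (x : X) (hxV : x ∈ V), x ∈ _root_.AssSch.Ass F →
      EGA4.HeightOneHullFinite (Γ(X, V) ⧸ (hV.primeIdealOf ⟨x, hxV⟩).asIdeal))
    (𝒯 : Set (ZClos.Cl Z)) (hcov : ∀ z ∈ Z, ∃ T ∈ 𝒯, z ∈ (T.1 : Set X))
    (hd : ∀ T ∈ 𝒯, Coh.IsCoh ((ZClos.resPush T.U).obj F)) :
    Coh.IsCoh ((ZClos.H0 Z).obj F) := by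
  have : F.IsQuasicoherent := hF.1
  have : SheafOfModules.IsFiniteType.{u} F := hF.2
  refine isCoh_H0 hZ F hF fun x => ?_
  obtain ⟨W, hW, hxW', -⟩ := exists_isAffineOpen_mem_and_subset (Opens.mem_top x)
  refine ⟨W, hW, hxW', fun q hq hqZ => ?_⟩
  have : IsNoetherianRing Γ(X, W) := isNoetherianRing hW
  refine extends_quotient q.asIdeal hqZ ?_ fun z hz hle => ?_
  · obtain ⟨h, e⟩ := primeIdealOf_affinePt hW q
    exact (fun p p' (e : p = p') (hp : EGA4.HeightOneHullFinite (Γ(X, W) ⧸ PrimeSpectrum.asIdeal p)) =>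
      (e ▸ hp : EGA4.HeightOneHullFinite (Γ(X, W) ⧸ PrimeSpectrum.asIdeal p'))) _ _ e
        (hfin W hW _ h (mem_ass_affinePt F hF hW hq))
  · obtain ⟨hxW, ex⟩ := primeIdealOf_affinePt hW q
    obtain ⟨hyW, ey⟩ := primeIdealOf_affinePt hW z
    obtain ⟨T, hT, hyT⟩ := hcov _ hz
    have hxy : affinePt hW q ⤳ affinePt hW z :=
      ((PrimeSpectrum.le_iff_specializes q z).1 hle).map (continuous_affinePt hW)
    have hx := mem_ass_affinePt F hF hW hq
    have hd2 := S2.two_le_dim_quot (T.1.isClosed.stableUnderSpecialization) F hF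
      (isCoh_H0_closeds F T.1 (hd T hT)) _ hx (fun h => hass _ hx (T.2 h)) _ hyT hxy
    have := two_le_height_map hW hxW hyW hxy hd2
    exact (fun (p p' r r' : PrimeSpectrum Γ(X, W)) (e : p = p') (e' : r = r')
      (hp : (2 : ℕ∞) ≤ (r.asIdeal.map (Ideal.Quotient.mk p.asIdeal)).height) =>
        (by subst e; subst e'; exact hp :
          (2 : ℕ∞) ≤ (r'.asIdeal.map (Ideal.Quotient.mk p'.asIdeal)).height)) _ _ _ _ ex ey this

end Groth.Agent.ZClosLib.H0Finite
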