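import Mathlib.RingTheory.Flat.Basic
import Mathlib.RingTheory.IsTensorProduct
import Mathlib.RingTheory.Noetherian.Basic
import Mathlib.LinearAlgebra.TensorProduct.Pi
import Mathlib.RingTheory.Ideal.Maps

/-!
# Modules pure / closed along an ideal: `M → Hom(I, M)` injective / bijective
-/

universe u v w

open TensorProduct

namespace Groth.Agent.ZClosLib.HomIdeal

variable {A : Type u} [CommRing A]

/-- `M → Hom(I, M)` is injective. -/
def IdealPure (I : Ideal A) (M : Type v) [AddCommGroup M] [Module A M] : Prop :=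
  ∀ m : M, (∀ a ∈ I, a • m = 0) → m = 0

/-- `M → Hom(I, M)` is bijective. -/
def IdealClosed (I : Ideal A) (M : Type v) [AddCommGroup M] [Module A M] : Prop :=
  IdealPure I M ∧ ∀ φ : I →ₗ[A] M, ∃ m : M, ∀ a : I, φ a = (a : A) • m

variable {M : Type v} [AddCommGroup M] [Module A M] {I J : Ideal A}

theorem IdealPure.anti (h : IdealPure I M) (hIJ : I ≤ J) : IdealPure J M :=
  fun m hm => h m fun a ha => hm a (hIJ ha)

theorem IdealPure.pow (h : IdealPure I M) : ∀ n : ℕ, IdealPure (I ^ n) M
  | 0 => fun m hm => by simpa using hm 1 (by simp)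
  | n + 1 => fun m hm => by
    refine h m fun b hb => h.pow n _ fun a ha => ?_
    rw [smul_smul]
    exact hm _ (pow_succ I n ▸ Ideal.mul_mem_mul ha hb)

theorem IdealClosed.anti (h : IdealClosed I M) (hIJ : I ≤ J) : IdealClosed J M := by
  refine ⟨h.1.anti hIJ, fun φ => ?_⟩
  obtain ⟨m, hm⟩ := h.2 (φ ∘ₗ Submodule.inclusion hIJ)
  refine ⟨m, fun b => sub_eq_zero.mp (h.1 _ fun a ha => ?_)⟩
  have e : φ ⟨a, hIJ ha⟩ = a • m := hm ⟨a, ha⟩
  have e' : a • φ b = (b : A) • φ ⟨a, hIJ ha⟩ := by
    rw [← map_smul, ← map_smul]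
    exact congrArg φ (Subtype.ext (mul_comm a (b : A)))
  rw [smul_sub, e', e, smul_comm, sub_self]

theorem IdealClosed.pow (h : IdealClosed I M) : ∀ n : ℕ, IdealClosed (I ^ n) M
  | 0 => by
    refine ⟨h.1.pow 0, fun φ => ⟨φ ⟨1, by simp⟩, fun a => ?_⟩⟩
    rw [← map_smul]
    exact congrArg φ (Subtype.ext (mul_one (a : A)).symm)
  | n + 1 => by
    refine ⟨h.1.pow (n + 1), fun φ => ?_⟩
    have hn := h.pow n
    have hmem : ∀ (a : A), a ∈ I → ∀ b : A, b ∈ I ^ n → a * b ∈ I ^ (n + 1) := fun a ha b hb => by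
      rw [pow_succ', ]
      exact Ideal.mul_mem_mul ha hb
    let ψ : ∀ a : I, (I ^ n : Ideal A) →ₗ[A] M := fun a =>
      { toFun := fun b => φ ⟨(a : A) * b, hmem a a.2 b b.2⟩
        map_add' := fun b c => by
          rw [← map_add]
          exact congrArg φ (Subtype.ext (mul_add _ _ _))
        map_smul' := fun r b => by
          rw [RingHom.id_apply, ← map_smul]
          exact congrArg φ (Subtype.ext (mul_left_comm _ _ _)) }
    choose m hm using fun a => hn.2 (ψ a)
    let χ : I →ₗ[A] M :=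
      { toFun := m
        map_add' := fun a a' => sub_eq_zero.mp (hn.1 _ fun b hb => by
          rw [smul_sub, smul_add, ← hm (a + a') ⟨b, hb⟩, ← hm a ⟨b, hb⟩, ← hm a' ⟨b, hb⟩, sub_eq_zero]
          show φ _ = φ _ + φ _
          rw [← map_add]
          exact congrArg φ (Subtype.ext (add_mul _ _ _)))
        map_smul' := fun r a => sub_eq_zero.mp (hn.1 _ fun b hb => by
          rw [RingHom.id_apply, smul_sub, smul_comm b r, ← hm (r • a) ⟨b, hb⟩, ← hm a ⟨b, hb⟩, sub_eq_zero]
          show φ _ = r • φ _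
          rw [← map_smul]
          exact congrArg φ (Subtype.ext (mul_assoc _ _ _))) }
    obtain ⟨z, hz⟩ := h.2 χ
    refine ⟨z, fun x => ?_⟩
    obtain ⟨x, hx⟩ := x
    have hx' : x ∈ I * I ^ n := pow_succ' I n ▸ hx
    induction hx' using Submodule.mul_induction_on' with
    | mem_mul_mem a ha b hb =>
      refine ((hm ⟨a, ha⟩ ⟨b, hb⟩) : φ ⟨a * b, hx⟩ = b • m ⟨a, ha⟩).trans ?_
      rw [show m ⟨a, ha⟩ = a • z from hz ⟨a, ha⟩, smul_smul, mul_comm]
    | add a ha b hb iha ihb =>
      rw [add_smul, ← iha (pow_succ' I n ▸ ha), ← ihb (pow_succ' I n ▸ hb), ← map_add]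
      rfl

/-- Purity / closedness only depend on the radical, for comparisons through powers. -/
theorem IdealClosed.of_pow_le (h : IdealClosed I M) {n : ℕ} (hn : I ^ n ≤ J) : IdealClosed J M :=
  (h.pow n).anti hn

theorem IdealPure.of_pow_le (h : IdealPure I M) {n : ℕ} (hn : I ^ n ≤ J) : IdealPure J M :=
  (h.pow n).anti hn

section Exact

variable (M) {n m : ℕ} (g : Fin n → A) (k : Fin m → Fin n → A)

/-- `x ↦ (g i • x)`. -/
noncomputable def d0 : M →ₗ[A] Fin n → M := LinearMap.pi fun i => g i • LinearMap.id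

/-- `y ↦ (∑ i, k j i • y i)`. -/
noncomputable def d1 : (Fin n → M) →ₗ[A] Fin m → M :=
  LinearMap.pi fun j => ∑ i, k j i • LinearMap.proj i

lemma d0_apply (x : M) (i : Fin n) : d0 M g x i = g i • x := rfl

lemma d1_apply (y : Fin n → M) (j : Fin m) : d1 M k y j = ∑ i, k j i • y i := by
  simp [d1]

variable {M g k}

theorem idealPure_iff_injective (hg : Ideal.span (Set.range g) = I) :
    IdealPure I M ↔ Function.Injective (d0 M g) := by
  rw [injective_iff_map_eq_zero]
  constructor
  · intro h x hx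
    refine h x fun a ha => ?_
    rw [← hg] at ha
    induction ha using Submodule.span_induction with
    | mem a ha => obtain ⟨i, rfl⟩ := ha; exact congr_fun hx i
    | zero => exact zero_smul _ _
    | add a b _ _ iha ihb => rw [add_smul, iha, ihb, add_zero]
    | smul r a _ iha => rw [smul_eq_mul, mul_smul, iha, smul_zero]
  · intro h x hx
    exact h x (funext fun i => hx (g i) (hg ▸ Ideal.subset_span ⟨i, rfl⟩))

theorem idealClosed_of_exact (hg : Ideal.span (Set.range g) = I)
    (hk : ∀ j, ∑ i, k j i * g i = 0) (h0 : Function.Injective (d0 M g))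
    (h1 : Function.Exact (d0 M g) (d1 M k)) : IdealClosed I M := by
  refine ⟨(idealPure_iff_injective hg).mpr h0, fun φ => ?_⟩
  have hmem : ∀ i, g i ∈ I := fun i => hg ▸ Ideal.subset_span ⟨i, rfl⟩
  obtain ⟨x, hx⟩ := (h1 (fun i => φ ⟨g i, hmem i⟩)).mp (funext fun j => by
    rw [d1_apply]
    simp_rw [← map_smul, ← map_sum]
    refine (congrArg φ (Subtype.ext ?_)).trans φ.map_zero
    simpa using hk j)
  refine ⟨x, fun a => ?_⟩
  obtain ⟨a, ha⟩ := a
  have ha' : a ∈ Ideal.span (Set.range g) := hg.symm ▸ ha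
  induction ha' using Submodule.span_induction with
  | mem a ha' => obtain ⟨i, rfl⟩ := ha'; exact (congr_fun hx i).symm
  | zero => exact φ.map_zero.trans (zero_smul _ _).symm
  | add a b ha₁ hb₁ iha ihb =>
    rw [add_smul, ← iha (hg ▸ ha₁), ← ihb (hg ▸ hb₁), ← map_add]
    rfl
  | smul r a ha₁ iha =>
    exact (map_smul φ r ⟨a, hg ▸ ha₁⟩).trans ((congrArg (r • ·) (iha (hg ▸ ha₁))).trans (mul_smul r a x).symm)

/-- A tuple satisfying the relations of the generators defines a homomorphism on the ideal. -/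
theorem exists_hom_of_relations (hg : Ideal.span (Set.range g) = I)
    (hspan : ∀ c : Fin n → A, ∑ i, c i * g i = 0 → c ∈ Submodule.span A (Set.range k))
    {y : Fin n → M} (hy : d1 M k y = 0) :
    ∃ φ : I →ₗ[A] M, ∀ i, φ ⟨g i, hg ▸ Ideal.subset_span ⟨i, rfl⟩⟩ = y i := by
  subst hg
  let L : (Fin n → A) →ₗ[A] A := Fintype.linearCombination A g
  have hL : LinearMap.range L = Ideal.span (Set.range g) := Fintype.range_linearCombination A g
  let Y : (Fin n → A) →ₗ[A] M := Fintype.linearCombination A y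
  have hker : LinearMap.ker L ≤ LinearMap.ker Y := fun c hc => by
    have hc' : c ∈ Submodule.span A (Set.range k) := hspan c (by
      simpa [L, Fintype.linearCombination_apply] using hc)
    refine (Submodule.span_le.mpr ?_ hc' : c ∈ LinearMap.ker Y)
    rintro _ ⟨j, rfl⟩
    have := congr_fun hy j
    rw [d1_apply] at this
    simpa [Y, Fintype.linearCombination_apply] using this
  let φ : (Ideal.span (Set.range g) : Ideal A) →ₗ[A] M :=
    ((LinearMap.ker L).liftQ Y hker) ∘ₗ L.quotKerEquivRange.symm.toLinearMap ∘ₗ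
      (LinearEquiv.ofEq _ _ hL.symm).toLinearMap
  refine ⟨φ, fun i => ?_⟩
  have e : L.quotKerEquivRange.symm ⟨g i, hL.symm ▸ Ideal.subset_span ⟨i, rfl⟩⟩ =
      Submodule.Quotient.mk (Pi.single i 1) := by
    rw [LinearEquiv.symm_apply_eq]
    exact Subtype.ext (by simp [L])
  change (LinearMap.ker L).liftQ Y hker (L.quotKerEquivRange.symm ⟨g i, _⟩) = y i
  rw [e]
  simp [Y]

theorem IdealClosed.exact (hg : Ideal.span (Set.range g) = I)
    (hk : ∀ j, ∑ i, k j i * g i = 0)
    (hspan : ∀ c : Fin n → A, ∑ i, c i * g i = 0 → c ∈ Submodule.span A (Set.range k))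
    (h : IdealClosed I M) :
    Function.Injective (d0 M g) ∧ Function.Exact (d0 M g) (d1 M k) := by
  refine ⟨(idealPure_iff_injective hg).mp h.1, fun y => ⟨fun hy => ?_, ?_⟩⟩
  · obtain ⟨φ, hφ⟩ := exists_hom_of_relations hg hspan hy
    obtain ⟨x, hx⟩ := h.2 φ
    exact ⟨x, funext fun i => (hx _).symm.trans (hφ i)⟩
  · rintro ⟨x, rfl⟩
    funext j
    rw [d1_apply]
    simp_rw [d0_apply, smul_smul]
    rw [← Finset.sum_smul, hk j, zero_smul]
    rfl

end Exact

section BaseChange

variable {S : Type w} [CommRing S] [Algebra A S] {N : Type w} [AddCommGroup N] [Module A N] [Module S N]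
  [IsScalarTower A S N] [Module.Flat A S] {f : M →ₗ[A] N}

/-- Flat base change of purity. -/
theorem IdealPure.baseChange (hI : I.FG) (hf : IsBaseChange S f) (h : IdealPure I M) :
    IdealPure (I.map (algebraMap A S)) N := by
  obtain ⟨n, g, hg⟩ := Submodule.fg_iff_exists_fin_generating_family.mp hI
  let e : S ⊗[A] (Fin n → M) ≃ₗ[A] (Fin n → N) :=
    (TensorProduct.piRight A A S fun _ => M) ≪≫ₗ
      LinearEquiv.piCongrRight fun _ => hf.equiv.restrictScalars A
  have hcomm : (d0 N (fun i => algebraMap A S (g i))).restrictScalars A ∘ₗ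
      (hf.equiv.restrictScalars A).toLinearMap = e.toLinearMap ∘ₗ (d0 M g).lTensor S := by
    refine TensorProduct.ext' fun s x => funext fun i => ?_
    simp [e, d0_apply, hf.equiv_tmul, smul_comm s]
  have hinj : Function.Injective (e.toLinearMap ∘ₗ (d0 M g).lTensor S) :=
    e.injective.comp (Module.Flat.lTensor_preserves_injective_linearMap _
      ((idealPure_iff_injective hg).mp h))
  rw [← hcomm] at hinj
  refine (idealPure_iff_injective (g := fun i => algebraMap A S (g i)) ?_).mpr ?_
  · rw [← hg]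
    exact (Ideal.map_span (algebraMap A S) (Set.range g) |>.trans (by rw [← Set.range_comp]; rfl)).symm
  · intro a b hab
    obtain ⟨a, rfl⟩ := hf.equiv.surjective a
    obtain ⟨b, rfl⟩ := hf.equiv.surjective b
    exact congrArg _ (hinj hab)

/-- Flat base change of closedness. -/
theorem IdealClosed.baseChange [IsNoetherianRing A] (hf : IsBaseChange S f) (h : IdealClosed I M) :
    IdealClosed (I.map (algebraMap A S)) N := by
  obtain ⟨n, g, hg⟩ := Submodule.fg_iff_exists_fin_generating_family.mp (IsNoetherian.noetherian I)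
  obtain ⟨m, k, hk⟩ := Submodule.fg_iff_exists_fin_generating_family.mp
    (IsNoetherian.noetherian (LinearMap.ker (Fintype.linearCombination A g)))
  have hk0 : ∀ j, ∑ i, k j i * g i = 0 := fun j => by
    have : k j ∈ LinearMap.ker (Fintype.linearCombination A g) := hk ▸ Submodule.subset_span ⟨j, rfl⟩
    simpa [Fintype.linearCombination_apply] using this
  obtain ⟨h0, h1⟩ := h.exact (k := k) hg hk0 fun c hc => hk.symm ▸
    (by simpa [Fintype.linearCombination_apply] using hc :
      c ∈ LinearMap.ker (Fintype.linearCombination A g))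
  let g' : Fin n → S := fun i => algebraMap A S (g i)
  let k' : Fin m → Fin n → S := fun j i => algebraMap A S (k j i)
  let e₀ : S ⊗[A] M ≃ₗ[A] N := hf.equiv.restrictScalars A
  let e₁ : S ⊗[A] (Fin n → M) ≃ₗ[A] (Fin n → N) :=
    (TensorProduct.piRight A A S fun _ => M) ≪≫ₗ LinearEquiv.piCongrRight fun _ => e₀
  let e₂ : S ⊗[A] (Fin m → M) ≃ₗ[A] (Fin m → N) :=
    (TensorProduct.piRight A A S fun _ => M) ≪≫ₗ LinearEquiv.piCongrRight fun _ => e₀
  have c₀ : (d0 N g').restrictScalars A ∘ₗ e₀.toLinearMap = e₁.toLinearMap ∘ₗ (d0 M g).lTensor S := by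
    refine TensorProduct.ext' fun s x => funext fun i => ?_
    simp [e₁, e₀, g', d0_apply, hf.equiv_tmul, smul_comm s]
  have c₁ : (d1 N k').restrictScalars A ∘ₗ e₁.toLinearMap = e₂.toLinearMap ∘ₗ (d1 M k).lTensor S := by
    refine TensorProduct.ext' fun s x => funext fun j => ?_
    simp [e₁, e₂, e₀, k', d1_apply, hf.equiv_tmul, Finset.smul_sum, smul_comm s]
  refine idealClosed_of_exact (g := g') (k := k') ?_ (fun j => ?_) ?_ ?_
  · rw [← hg]
    exact (Ideal.map_span (algebraMap A S) (Set.range g) |>.trans (by rw [← Set.range_comp]; rfl)).symm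
  · simp only [g', k', ← map_mul, ← map_sum, hk0 j, map_zero]
  · have hinj : Function.Injective (e₁.toLinearMap ∘ₗ (d0 M g).lTensor S) :=
      e₁.injective.comp (Module.Flat.lTensor_preserves_injective_linearMap _ h0)
    rw [← c₀] at hinj
    exact (Function.Injective.of_comp_iff' (d0 N g') e₀.bijective).mp hinj
  · have hex : Function.Exact ((d0 M g).lTensor S) ((d1 M k).lTensor S) :=
      Module.Flat.lTensor_exact S h1
    exact (Function.Exact.of_ladder_linearEquiv_of_exact (e₁ := e₀) (e₂ := e₁) (e₃ := e₂) c₀ c₁ hex :)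

end BaseChange

end Groth.Agent.ZClosLib.HomIdeal
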